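import Groth.Agent.ZBBlow.Separate
import Groth.Agent.ModPairLib.BlowUp
import Groth.Agent.BlowUpLib.Glue

/-!
# Zariski coverings of the interior extend after an admissible blowing up
-/

universe u

set_option autoImplicit false
set_option linter.style.haveILetI false

open CategoryTheory CategoryTheory.Limits AlgebraicGeometry TopologicalSpace

namespace Groth.Agent.MdlA1.ZarExtend

/-- A finite type ideal with given support. -/
theorem exists_fg_support {X : Scheme.{u}} [CompactSpace X] [QuasiSeparatedSpace X] (V : X.Opens)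
    (hV : IsCompact (V : Set X)) :
    ∃ A : X.IdealSheafData, (∀ U : X.affineOpens, (A.ideal U).FG) ∧ (A.support : Set X) = (V : Set X)ᶜ := by
  let Z : Closeds X := ⟨(V : Set X)ᶜ, V.isOpen.isClosed_compl⟩
  have hd : Disjoint (V : Set X) ((Scheme.IdealSheafData.vanishingIdeal Z).support : Set X) := by
    rw [Scheme.IdealSheafData.coe_support_vanishingIdeal]
    exact disjoint_compl_right
  obtain ⟨A, hle, hfg, hdA⟩ := ZBBlow.exists_fg_disjoint (Scheme.IdealSheafData.vanishingIdeal Z) hV hd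
  refine ⟨A, hfg, Set.Subset.antisymm (Set.subset_compl_iff_disjoint_left.mpr hdA) ?_⟩
  refine Set.Subset.trans ?_ (Scheme.IdealSheafData.support_antitone hle)
  rw [Scheme.IdealSheafData.coe_support_vanishingIdeal]
  rfl

theorem exists_cover {X : Scheme.{u}} [CompactSpace X] [QuasiSeparatedSpace X] (U : X.Opens) {ι : Type u} [Finite ι]
    (V : ι → X.Opens) (hV : ∀ i, IsCompact (V i : Set X)) (hVU : (⨆ i, V i) = U) :
    ∃ F : X.IdealSheafData, BlowUp.IsAdmissibleFor U F ∧ ∀ (Y : Scheme.{u}) (b : Y ⟶ X), BlowUp.IsBlowUp b F →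
      ∀ y : Y, ∃ W : Y.affineOpens, y ∈ W.1 ∧ ∃ i, W.1 ⊓ b ⁻¹ᵁ U ≤ b ⁻¹ᵁ V i := by
  classical
  choose A hfg hA using fun i => exists_fg_support (V i) (hV i)
  cases nonempty_fintype ι
  refine ⟨⨆ i, A i, ⟨fun W => ?_, ?_⟩, fun Y b hb y => ?_⟩
  · rw [Scheme.IdealSheafData.ideal_iSup, iSup_apply]
    exact Submodule.fg_iSup _ fun i => hfg i W
  · rw [Set.disjoint_left]
    intro x hx hxU
    rw [← hVU] at hxU
    obtain ⟨i, hi⟩ := Opens.mem_iSup.mp hxU
    have hx' : x ∈ ((A i).support : Set X) :=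
      Scheme.IdealSheafData.support_antitone (le_iSup A i) hx
    rw [hA] at hx'
    exact hx' hi
  · obtain ⟨_, ⟨Vy, hVy, rfl⟩, hyV, -⟩ := X.isBasis_affineOpens.exists_subset_of_mem_open
      (Set.mem_univ (b y)) isOpen_univ
    obtain ⟨W, e, hyW, c, hc, hW⟩ := ModPairLib.exists_chart_blowUp hb.1 y ⟨Vy, hVy⟩ hyV
    set φ := (b.appLE Vy W.1 e).hom
    rw [Scheme.IdealSheafData.ideal_iSup, iSup_apply] at hc
    rw [← iSup_univ (f := fun i => (A i).ideal ⟨Vy, hVy⟩)] at hc
    obtain ⟨a, ha⟩ : ∃ a : ι → Γ(X, Vy), (∀ i, a i ∈ (A i).ideal ⟨Vy, hVy⟩) ∧ ∑ i, a i = c := by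
      rw [iSup_univ] at hc
      obtain ⟨f, hf⟩ := (Submodule.mem_iSup_iff_exists_finsupp _ c).mp hc
      exact ⟨f, hf.1, by rw [← hf.2, Finsupp.sum_fintype]; intro; rfl⟩
    obtain ⟨ha, hac⟩ := ha
    -- write the images in terms of the generator
    have hmem : ∀ i, φ (a i) ∈ ((⨆ i, A i).comap b).ideal W := fun i => by
      rw [ModPairLib.ideal_comap _ b ⟨Vy, hVy⟩ W e]
      refine Ideal.mem_map_of_mem _ ?_
      rw [Scheme.IdealSheafData.ideal_iSup, iSup_apply]
      exact Submodule.mem_iSup_of_mem i (ha i)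
    choose z hz using fun i => Ideal.mem_span_singleton'.mp (hW ▸ hmem i)
    have hsum : ∑ i, z i = 1 := by
      have h0 : (∑ i, z i - 1) * φ c = 0 := by
        rw [sub_mul, Finset.sum_mul, one_mul, sub_eq_zero, Finset.sum_congr rfl fun i _ => hz i, ← map_sum, hac]
      exact sub_eq_zero.mp (mem_nonZeroDivisors_iff_right.mp
        (ModPairLib.generator_mem_nonZeroDivisors hb.1 hW) _ h0)
    have hspan : Ideal.span (Set.range z) = ⊤ :=
      (Ideal.eq_top_iff_one _).mpr (hsum ▸ sum_mem fun i _ => Ideal.subset_span ⟨i, rfl⟩)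
    obtain ⟨⟨_, i, rfl⟩, hyi⟩ := Opens.mem_iSup.mp ((W.2.self_le_iSup_basicOpen_iff.mpr hspan) hyW)
    refine ⟨⟨Y.basicOpen (z i), W.2.basicOpen _⟩, hyi, i, fun w ⟨hw, hwU⟩ => ?_⟩
    by_contra hwV
    have hwW : w ∈ W.1 := Y.basicOpen_le _ hw
    have hsupp : w ∈ (((A i).comap b).support : Set Y) := by
      rw [Scheme.IdealSheafData.support_comap]
      exact (hA i).ge hwV
    have hnot : w ∉ Y.basicOpen (φ (a i)) := (ZBBlow.mem_support_iff hwW).mp hsupp _ (by
      rw [ModPairLib.ideal_comap _ b ⟨Vy, hVy⟩ W e]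
      exact Ideal.mem_map_of_mem _ (ha i))
    rw [← hz i, Scheme.basicOpen_mul] at hnot
    have hsE : w ∈ (((⨆ i, A i).comap b).support : Set Y) := by
      rw [ZBBlow.mem_support_iff hwW]
      intro f hf
      rw [hW, Ideal.mem_span_singleton'] at hf
      obtain ⟨r, rfl⟩ := hf
      rw [Scheme.basicOpen_mul]
      exact fun h => hnot ⟨hw, h.2⟩
    rw [Scheme.IdealSheafData.support_comap] at hsE
    have hwU' : b w ∈ ⨆ i, V i := by rw [hVU]; exact hwU
    obtain ⟨l, hl⟩ := Opens.mem_iSup.mp hwU'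
    have : b w ∈ ((A l).support : Set X) := Scheme.IdealSheafData.support_antitone (le_iSup A l) hsE
    rw [hA] at this
    exact this hl

end Groth.Agent.MdlA1.ZarExtend
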