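import Groth.Agent.AlgSpDec.FppfDescent
import Groth.Agent.EtFound.Descent

/-! A sheaf over a scheme which is affine after an fppf covering is an affine scheme over it. -/

set_option backward.isDefEq.respectTransparency false
set_option backward.isDefEq.respectTransparency.types false

universe u

open CategoryTheory Limits Opposite AlgebraicGeometry AlgSp Groth.Agent.AlgSpLib Groth.Agent.AlgSpVal
  Groth.Agent.AlgSpDec Groth.Agent.AlgSpDec.Fppf

namespace Groth.Agent.MdlA1.AffDesc

variable {S : Scheme.{u}}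

theorem exists_rep_affine {T T' W : Over S} [IsAffine T.left] {P : Sp S} {q : P ⟶ (yon S).obj T} (e : T' ⟶ T)
    [Flat e.left] [LocallyOfFinitePresentation e.left] [Surjective e.left] {w : (yon S).obj W ⟶ P} {i : W ⟶ T'}
    [IsAffineHom i.left] (sq : IsPullback w ((yon S).map i) q ((yon S).map e)) :
    ∃ Q : Over S, Nonempty ((yon S).obj Q ≅ P) := by
  obtain ⟨Z, π, v, hZ, hπe, hπp, hπs, hv⟩ := exists_affine_cover_lift (p := (yon S).map e)
    ((repWith_yon_map_iff _ _).2 (fppf_of e.left)) (𝟙 ((yon S).obj T))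
  rw [Category.comp_id, ← Functor.map_comp] at hv
  obtain rfl := (yon S).map_injective hv
  let R : Over S := Over.mk (pullback.fst i.left v.left ≫ W.hom)
  let r₁ : R ⟶ W := CategoryTheory.Over.homMk (pullback.fst i.left v.left) rfl
  let r₂ : R ⟶ Z := CategoryTheory.Over.homMk (pullback.snd i.left v.left) (by
    change _ = pullback.fst i.left v.left ≫ W.hom
    rw [← Over.w v, ← Over.w i, pullback.condition_assoc])
  have sqr : IsPullback r₁ r₂ i v :=
    IsPullback.of_map (Over.forget S) (Over.OverMorphism.ext pullback.condition) (IsPullback.of_hasPullback i.left v.left)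
  have sqR : IsPullback ((yon S).map r₁ ≫ w) ((yon S).map r₂) q ((yon S).map (v ≫ e)) := by
    rw [Functor.map_comp]
    exact (sqr.map (yon S)).paste_horiz sq
  have : IsAffineHom r₂.left := MorphismProperty.pullback_snd _ _ ‹IsAffineHom i.left›
  have : IsAffine R.left := isAffine_of_isAffineHom r₂.left
  have : Flat (v ≫ e).left := inferInstanceAs (Flat (v.left ≫ e.left))
  have : LocallyOfFinitePresentation (v ≫ e).left := inferInstanceAs (LocallyOfFinitePresentation (v.left ≫ e.left))
  have : Surjective (v ≫ e).left := inferInstanceAs (Surjective (v.left ≫ e.left))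
  exact exists_quasiAffine_descent (v ≫ e) (W' := R) sqR

/-- A sheaf over a scheme whose pullback along an fppf covering is affine over the cover is affine over it. -/
theorem exists_rep {T T' W : Over S} {P : Sp S} {q : P ⟶ (yon S).obj T} (e : T' ⟶ T)
    [Flat e.left] [LocallyOfFinitePresentation e.left] [Surjective e.left] {w : (yon S).obj W ⟶ P} {i : W ⟶ T'}
    [IsAffineHom i.left] (sq : IsPullback w ((yon S).map i) q ((yon S).map e)) :
    ∃ (Q : Over S) (φ : (yon S).obj Q ≅ P) (j : Q ⟶ T), φ.hom ≫ q = (yon S).map j ∧ IsAffineHom j.left := by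
  have hpiece : ∀ U : T.left.affineOpens, ∃ (Q : Over S) (j : (yon S).obj Q ⟶ P), RepWith @IsOpenImmersion j ∧
      ∀ (x : Points P) (t : ↥U.1), Points.map q x = Points.ofScheme T (U.1.ι t) → ∃ v, Points.ofPt j v = x := by
    intro U
    let TU : Over S := Over.mk (U.1.ι ≫ T.hom)
    let inc : TU ⟶ T := CategoryTheory.Over.homMk U.1.ι rfl
    have : IsAffine TU.left := U.2
    let T'U : Over S := Over.mk ((e.left ⁻¹ᵁ U.1).ι ≫ T'.hom)
    let inc' : T'U ⟶ T' := CategoryTheory.Over.homMk (e.left ⁻¹ᵁ U.1).ι rfl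
    let eU : T'U ⟶ TU := CategoryTheory.Over.homMk (e.left ∣_ U.1) (by
      change _ ≫ U.1.ι ≫ T.hom = _ ≫ T'.hom
      rw [← Category.assoc, (isPullback_morphismRestrict e.left U.1).w, Category.assoc, Over.w e])
    let WU : Over S := Over.mk ((i.left ⁻¹ᵁ (e.left ⁻¹ᵁ U.1)).ι ≫ W.hom)
    let iU : WU ⟶ T'U := CategoryTheory.Over.homMk (i.left ∣_ (e.left ⁻¹ᵁ U.1)) (by
      change _ ≫ (e.left ⁻¹ᵁ U.1).ι ≫ T'.hom = _ ≫ W.hom
      rw [← Category.assoc, (isPullback_morphismRestrict i.left _).w, Category.assoc, Over.w i])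
    let k : WU ⟶ W := CategoryTheory.Over.homMk (i.left ⁻¹ᵁ (e.left ⁻¹ᵁ U.1)).ι rfl
    have : Flat eU.left := IsZariskiLocalAtTarget.restrict (P := @Flat) ‹Flat e.left› U.1
    have : LocallyOfFinitePresentation eU.left :=
      IsZariskiLocalAtTarget.restrict (P := @LocallyOfFinitePresentation) ‹LocallyOfFinitePresentation e.left› U.1
    have : Surjective eU.left := IsZariskiLocalAtTarget.restrict (P := @Surjective) ‹Surjective e.left› U.1
    have : IsAffineHom iU.left :=
      IsZariskiLocalAtTarget.restrict (P := @IsAffineHom) ‹IsAffineHom i.left› _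
    have sqe : IsPullback inc' eU e inc :=
      IsPullback.of_map (Over.forget S) (Over.OverMorphism.ext (isPullback_morphismRestrict e.left U.1).w.symm)
        (isPullback_morphismRestrict e.left U.1).flip
    have sqi : IsPullback k iU i inc' :=
      IsPullback.of_map (Over.forget S) (Over.OverMorphism.ext (isPullback_morphismRestrict i.left _).w.symm)
        (isPullback_morphismRestrict i.left _).flip
    have sq₁ := (sqi.map (yon S)).paste_horiz sq
    rw [← Functor.map_comp, sqe.w, Functor.map_comp] at sq₁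
    have hw : ((yon S).map k ≫ w) ≫ q = ((yon S).map iU ≫ (yon S).map eU) ≫ (yon S).map inc := by
      rw [sq₁.w, Category.assoc]
    let w' : (yon S).obj WU ⟶ pullback q ((yon S).map inc) := pullback.lift _ _ hw
    have sqU : IsPullback w' ((yon S).map iU) (pullback.snd q ((yon S).map inc)) ((yon S).map eU) := by
      refine IsPullback.of_right ?_ (pullback.lift_snd _ _ _) (IsPullback.of_hasPullback _ _)
      rw [pullback.lift_fst]
      exact sq₁
    obtain ⟨Q, ⟨φ⟩⟩ := exists_rep_affine eU sqU
    refine ⟨Q, φ.hom ≫ pullback.fst q ((yon S).map inc), repWith_comp (repWith_of_isIso @IsOpenImmersion φ.hom)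
      (repWith_of_isPullback (IsPullback.of_hasPullback q ((yon S).map inc)).flip
        ((repWith_yon_map_iff _ _).2 (inferInstanceAs (IsOpenImmersion U.1.ι)))), fun x t hx => ?_⟩
    obtain ⟨z, hz, -⟩ := exists_point_of_isPullback (IsPullback.of_hasPullback q ((yon S).map inc)) (x := x)
      (y := Points.ofScheme TU t) (hx.trans (Points.map_yon_map_apply inc _).symm)
    obtain ⟨v, hv⟩ := (Points.schemeHomeo Q).surjective (Points.map φ.inv z)
    refine ⟨v, ?_⟩
    rw [Points.ofPt_eq_map_ofScheme, Points.map_comp]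
    change Points.map _ (Points.map _ ((Points.schemeHomeo _) v)) = _
    rw [hv, ← Points.map_comp _ _ z, Iso.inv_hom_id, ← Points.map_comp, Category.id_comp, hz]
  choose Q j hj hv using hpiece
  obtain ⟨Q', ⟨φ⟩, -⟩ := exists_iso_of_open_cover Q j hj fun x => by
    obtain ⟨t, ht⟩ := (Points.schemeHomeo T).surjective (Points.map q x)
    obtain ⟨U, hU, htU, -⟩ := exists_isAffineOpen_mem_and_subset (U := (⊤ : T.left.Opens)) (x := t) trivial
    exact ⟨⟨U, hU⟩, hv ⟨U, hU⟩ x ⟨t, htU⟩ ht.symm⟩
  obtain ⟨m, hm⟩ := (yon S).map_surjective (φ.hom ≫ q)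
  obtain ⟨p, hp⟩ := (yon S).map_surjective (w ≫ φ.inv)
  refine ⟨Q', φ, m, hm.symm, ?_⟩
  have sq' : IsPullback p i m e := by
    have h : IsPullback ((yon S).map p) ((yon S).map i) ((yon S).map m) ((yon S).map e) := by
      rw [hp, hm]
      exact sq.of_iso (Iso.refl _) φ.symm (Iso.refl _) (Iso.refl _) (by simp) (by simp) (by simp) (by simp)
    exact IsPullback.of_map (yon S) ((yon S).map_injective (by simpa using h.w)) h
  haveI := Groth.Agent.EtFound.fpqc_isAffineHom.{u}
  exact MorphismProperty.of_isPullback_of_descendsAlong (P := @IsAffineHom)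
    (Q := (@Surjective ⊓ @Flat ⊓ @LocallyOfFinitePresentation : MorphismProperty Scheme.{u}))
    (sq'.flip.map (Over.forget S)) ⟨⟨‹_›, ‹_›⟩, ‹_›⟩ (show IsAffineHom i.left from ‹_›)

end Groth.Agent.MdlA1.AffDesc
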