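import Groth.Agent.MdlA1.AffRec
import Groth.Agent.RingPO.Affine
import Mathlib.CategoryTheory.Limits.Shapes.Pullback.IsPullback.Basic

/-! Recognising pushouts of affine schemes over a base. -/

set_option autoImplicit false

universe u

open CategoryTheory CategoryTheory.Limits AlgebraicGeometry

namespace Groth.Agent.MdlA1

section Hom

variable {X : Scheme.{u}} [IsAffine X] {R C : Type u} [CommRing R] [CommRing C]

theorem affIso_hom_appTop (θ : R →+* Γ(X, ⊤)) (hθ : Function.Bijective θ) (r : R) :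
    (affIso θ hθ).hom.appTop.hom ((Scheme.ΓSpecIso (CommRingCat.of R)).inv r) = θ r := by
  have h : (Scheme.ΓSpecIso (CommRingCat.of R)).inv ≫ (affIso θ hθ).hom.appTop = CommRingCat.ofHom θ := by
    rw [affIso_hom, Scheme.Hom.comp_appTop, Scheme.toSpecΓ_appTop, Scheme.ΓSpecIso_naturality,
      Iso.inv_hom_id_assoc]
  exact congr($h r)

theorem affIso_inv_appTop (θ : R →+* Γ(X, ⊤)) (hθ : Function.Bijective θ) (r : R) :
    (affIso θ hθ).inv.appTop.hom (θ r) = (Scheme.ΓSpecIso (CommRingCat.of R)).inv r := by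
  have h : ((affIso θ hθ).inv ≫ (affIso θ hθ).hom).appTop = 𝟙 _ := by rw [Iso.inv_hom_id]; rfl
  rw [← affIso_hom_appTop θ hθ r]
  exact congr($h _)

/-- A map to a spectrum given by a ring map, on functions. -/
theorem affIso_comp_appTop (θ : R →+* Γ(X, ⊤)) (hθ : Function.Bijective θ) (α : C →+* R) (c : C) :
    ((affIso θ hθ).hom ≫ Spec.map (CommRingCat.ofHom α)).appTop.hom ((Scheme.ΓSpecIso (CommRingCat.of C)).inv c) =
      θ (α c) := by
  rw [← affIso_hom_appTop θ hθ (α c), Scheme.Hom.comp_appTop]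
  show (affIso θ hθ).hom.appTop.hom ((Spec.map (CommRingCat.ofHom α)).appTop.hom _) = _
  congr 1
  exact (congr($(Scheme.ΓSpecIso_inv_naturality (CommRingCat.ofHom α)) c)).symm

/-- A map out of a spectrum, on functions. -/
theorem comp_affIso_inv_appTop (θ : R →+* Γ(X, ⊤)) (hθ : Function.Bijective θ) (β : R →+* C) (r : R) :
    (Spec.map (CommRingCat.ofHom β) ≫ (affIso θ hθ).inv).appTop.hom (θ r) =
      (Scheme.ΓSpecIso (CommRingCat.of C)).inv (β r) := by
  rw [Scheme.Hom.comp_appTop]
  show (Spec.map (CommRingCat.ofHom β)).appTop.hom ((affIso θ hθ).inv.appTop.hom (θ r)) = _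
  rw [affIso_inv_appTop]
  exact (congr($(Scheme.ΓSpecIso_inv_naturality (CommRingCat.ofHom β)) r)).symm

end Hom

variable {S : Scheme.{u}} {Z U V P : Over S} [IsAffine Z.left] [IsAffine U.left] [IsAffine V.left] [IsAffine P.left]
  {A A' B C : Type u} [CommRing A] [CommRing A'] [CommRing B] [CommRing C]
  {p : A' →+* A} {q : B →+* A} {α : C →+* A'} {β : C →+* B}

/-- A square of affine schemes over `S` whose rings form a fibre product with a surjective leg is a pushout. -/
theorem isPushout_of_isFibreProd (h : RingPO.IsFibreProd p q α β) (a : Z ⟶ U) (b : Z ⟶ V) (c : U ⟶ P) (d : V ⟶ P)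
    (θZ : A →+* Γ(Z.left, ⊤)) (hZ : Function.Bijective θZ) (θU : A' →+* Γ(U.left, ⊤)) (hU : Function.Bijective θU)
    (θV : B →+* Γ(V.left, ⊤)) (hV : Function.Bijective θV) (θP : C →+* Γ(P.left, ⊤)) (hP : Function.Bijective θP)
    (ha : ∀ x, a.left.appTop.hom (θU x) = θZ (p x)) (hb : ∀ x, b.left.appTop.hom (θV x) = θZ (q x))
    (hc : ∀ x, c.left.appTop.hom (θP x) = θU (α x)) (hd : ∀ x, d.left.appTop.hom (θP x) = θV (β x)) :
    IsPushout a b c d := by
  have hs : IsPushout a.left b.left c.left d.left :=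
    h.isPushout.of_iso (affIso θZ hZ).symm (affIso θU hU).symm (affIso θV hV).symm (affIso θP hP).symm
      (affIso_naturality_inv a.left θZ hZ θU hU p ha).symm (affIso_naturality_inv b.left θZ hZ θV hV q hb).symm
      (affIso_naturality_inv c.left θU hU θP hP α hc).symm (affIso_naturality_inv d.left θV hV θP hP β hd).symm
  have hw : a ≫ c = b ≫ d := Over.OverMorphism.ext hs.w
  refine ⟨⟨hw⟩, ⟨PushoutCocone.IsColimit.mk _ (fun s => Over.homMk
    (hs.desc s.inl.left s.inr.left (congrArg Over.Hom.left s.condition)) ?_) (fun s => ?_) (fun s => ?_)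
    fun s m hm1 hm2 => ?_⟩⟩
  · refine hs.hom_ext ?_ ?_
    · rw [hs.inl_desc_assoc, Over.w, Over.w]
    · rw [hs.inr_desc_assoc, Over.w, Over.w]
  · exact Over.OverMorphism.ext (hs.inl_desc _ _ _)
  · exact Over.OverMorphism.ext (hs.inr_desc _ _ _)
  · refine Over.OverMorphism.ext (hs.hom_ext ?_ ?_)
    · exact (congrArg Over.Hom.left hm1).trans (hs.inl_desc _ _ _).symm
    · exact (congrArg Over.Hom.left hm2).trans (hs.inr_desc _ _ _).symm

end Groth.Agent.MdlA1
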