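import Groth.Agent.H23.CharPts
import Groth.Prelude.Def_Magnet4

/-! Points in terms of characters: the face morphism and the unit. -/

set_option autoImplicit false

universe u

open CategoryTheory CategoryTheory.Limits MonoidalCategory CartesianMonoidalCategory MonObj AlgebraicGeometry
open Magnet

namespace Groth.Agent.MdlA1

open Groth.Agent.H23

variable {S : Scheme.{u}} {M : Type} [AddCommMonoid M] {N F : AddSubmonoid M} {T : Over S}

theorem ringMap_faceMap (hF : IsFace N F) (x : T ⟶ AMonS S F) :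
    CharPts.ringMap (x ≫ AMonS.faceMap S hF) =
      CommRingCat.ofHom (faceAlgHom (ULift.{u} ℤ) hF).toRingHom ≫ CharPts.ringMap x := by
  have h : CharPts.toSp (x ≫ AMonS.faceMap S hF) = CharPts.toSp x ≫ (AMon.faceMap (ULift.{u} ℤ) hF).left :=
    (Category.assoc _ _ _).trans
      ((congrArg (x.left ≫ ·) (pullback.lift_fst _ _ _)).trans (Category.assoc _ _ _).symm)
  rw [CharPts.ringMap, CharPts.ringMap, h]
  refine (congrArg (_ ≫ ·) (Scheme.Hom.comp_appTop _ _)).trans ((Category.assoc _ _ _).symm.trans ?_)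
  refine (congrArg (· ≫ (CharPts.toSp x).appTop) ?_).trans (Category.assoc _ _ _)
  exact (Scheme.ΓSpecIso_inv_naturality _).symm

/-- A point of a face, read in the monoid: the character extended by zero. -/
theorem chi_faceMap_of_mem (hF : IsFace N F) (x : T ⟶ AMonS S F) (n : N) (h : (n : M) ∈ F) :
    CharPts.chi (x ≫ AMonS.faceMap S hF) (Multiplicative.ofAdd n) =
      CharPts.chi x (Multiplicative.ofAdd (⟨n, h⟩ : F)) := by
  rw [CharPts.chi_apply, ringMap_faceMap]
  show (CharPts.ringMap x).hom (faceAlgHom (ULift.{u} ℤ) hF (MonoidAlgebra.single (Multiplicative.ofAdd n) 1)) = _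
  rw [faceAlgHom_single_of_mem _ hF n h]
  rfl

theorem chi_faceMap_of_not_mem (hF : IsFace N F) (x : T ⟶ AMonS S F) (n : N) (h : (n : M) ∉ F) :
    CharPts.chi (x ≫ AMonS.faceMap S hF) (Multiplicative.ofAdd n) = 0 := by
  rw [CharPts.chi_apply, ringMap_faceMap]
  show (CharPts.ringMap x).hom (faceAlgHom (ULift.{u} ℤ) hF (MonoidAlgebra.single (Multiplicative.ofAdd n) 1)) = _
  rw [faceAlgHom_single_of_not_mem _ hF n h, map_zero]

theorem eq_one_of_chi {K : Type} [AddCommMonoid K] (p : T ⟶ AMonS S K) (h : ∀ m, CharPts.chi p m = 1) :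
    p = 1 := by
  have : p * 1 = (1 : T ⟶ AMonS S K) := CharPts.chi_injective (MonoidHom.ext fun m => by
    rw [CharPts.chi_mul, h, _root_.one_mul])
  rwa [_root_.mul_one] at this

end Groth.Agent.MdlA1
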