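import Groth.Agent.H28.MagnetTheta
import Groth.Agent.RingPO.Affine
import Groth.Agent.MdlA1.FaceChar

/-! Affine schemes recognised through a ring, and functions on products with diagonalizable monoids. -/

set_option autoImplicit false

universe u

open CategoryTheory CategoryTheory.Limits MonoidalCategory CartesianMonoidalCategory MonObj AlgebraicGeometry
open Magnet Groth.Agent.H28.MagnetAff Groth.Agent.H23.CharPts

namespace Groth.Agent.MdlA1

section Rec

variable {X Y : Scheme.{u}} [IsAffine X] [IsAffine Y] {R R' : Type u} [CommRing R] [CommRing R']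

/-- An affine scheme as the spectrum of a ring identified with its functions. -/
noncomputable def affIso (θ : R →+* Γ(X, ⊤)) (hθ : Function.Bijective θ) : X ≅ Spec (CommRingCat.of R) :=
  X.isoSpec ≪≫ Scheme.Spec.mapIso ((RingEquiv.ofBijective θ hθ).toCommRingCatIso.op)

theorem affIso_hom (θ : R →+* Γ(X, ⊤)) (hθ : Function.Bijective θ) :
    (affIso θ hθ).hom = X.toSpecΓ ≫ Spec.map (CommRingCat.ofHom θ) := rfl

theorem affIso_naturality (u : X ⟶ Y) (θX : R →+* Γ(X, ⊤)) (hX : Function.Bijective θX)
    (θY : R' →+* Γ(Y, ⊤)) (hY : Function.Bijective θY) (φ : R' →+* R)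
    (h : ∀ r, u.appTop.hom (θY r) = θX (φ r)) :
    u ≫ (affIso θY hY).hom = (affIso θX hX).hom ≫ Spec.map (CommRingCat.ofHom φ) := by
  rw [affIso_hom, affIso_hom, Category.assoc, ← Spec.map_comp, ← Category.assoc,
    Scheme.toSpecΓ_naturality, Category.assoc, ← Spec.map_comp]
  congr 2
  exact CommRingCat.hom_ext (RingHom.ext h)

theorem affIso_naturality_inv (u : X ⟶ Y) (θX : R →+* Γ(X, ⊤)) (hX : Function.Bijective θX)
    (θY : R' →+* Γ(Y, ⊤)) (hY : Function.Bijective θY) (φ : R' →+* R)
    (h : ∀ r, u.appTop.hom (θY r) = θX (φ r)) :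
    (affIso θX hX).inv ≫ u = Spec.map (CommRingCat.ofHom φ) ≫ (affIso θY hY).inv := by
  rw [Iso.inv_comp_eq, ← Category.assoc, Iso.eq_comp_inv]
  exact affIso_naturality u θX hX θY hY φ h

end Rec

variable {S : Scheme.{u}} {W W' : Over S} [IsAffine W.left] [IsAffine W'.left] {K : Type} [AddCommMonoid K]

/-- `A(K) ×_S W` as a spectrum. -/
noncomputable def prodIso (K : Type) [AddCommMonoid K] (W : Over S) [IsAffine W.left] :
    (AMonS S K ⊗ W).left ≅ Spec (CommRingCat.of (MonoidAlgebra (RR W) (Multiplicative K))) :=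
  affIso (theta K W) (theta_iso K W).2

theorem theta_one (r : RR W) :
    theta K W (MonoidAlgebra.single 1 r) = (snd (AMonS S K) W).left.appTop.hom r := by
  rw [theta_single, map_one, _root_.mul_one]

theorem theta_char (m : Multiplicative K) :
    theta K W (MonoidAlgebra.single m 1) = chi (fst (AMonS S K) W) m := by
  rw [theta_single, map_one, _root_.one_mul]

/-- Functions along the face morphism. -/
theorem theta_face {M : Type} [AddCommMonoid M] {N F : AddSubmonoid M} (hF : IsFace N F) :
    (AMonS.faceMap S hF ▷ W).left.appTop.hom.comp (theta N W) =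
      (theta F W).comp (faceAlgHom (RR W) hF).toRingHom := by
  refine MonoidAlgebra.ringHom_ext (fun r => ?_) (fun m => ?_)
  · rw [RingHom.comp_apply, RingHom.comp_apply, theta_one]
    show ((AMonS.faceMap S hF ▷ W) ≫ snd _ _).left.appTop r = _
    rw [whiskerRight_snd]
    show _ = theta F W (faceAlgHom (RR W) hF (algebraMap (RR W) (MonoidAlgebra (RR W) (Multiplicative N)) r))
    rw [(faceAlgHom (RR W) hF).commutes]
    exact (theta_one r).symm
  · obtain ⟨n, rfl⟩ := Multiplicative.ofAdd.surjective m
    rw [RingHom.comp_apply, RingHom.comp_apply, theta_char]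
    erw [← chi_comp (AMonS.faceMap S hF ▷ W) (fst _ W)]
    rw [whiskerRight_fst]
    by_cases h : (n : M) ∈ F
    · rw [chi_faceMap_of_mem hF _ n h, AlgHom.toRingHom_eq_coe, RingHom.coe_coe, faceAlgHom_single_of_mem _ hF n h,
        theta_char]
    · rw [chi_faceMap_of_not_mem hF _ n h, AlgHom.toRingHom_eq_coe, RingHom.coe_coe,
        faceAlgHom_single_of_not_mem _ hF n h, map_zero]

/-- Functions on a product with a thickened factor. -/
theorem appTop_whisker_apply (u : W' ⟶ W) (z : MonoidAlgebra (RR W) (Multiplicative K)) :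
    (AMonS S K ◁ u).left.appTop.hom (theta K W z) =
      theta K W' (MonoidAlgebra.mapRingHom (Multiplicative K) u.left.appTop.hom z) :=
  RingHom.congr_fun (theta_whisker W u) z

/-- A first order thickening of affine schemes over `S`, seen on functions. -/
structure Thick (i : W' ⟶ W) : Prop where
  surj : Function.Surjective i.left.appTop.hom
  sq : ∀ a b : RR W, i.left.appTop.hom a = 0 → i.left.appTop.hom b = 0 → a * b = 0

theorem coeff_mapRingHom_eq_zero {A B : Type u} [CommRing A] [CommRing B] (f : A →+* B)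
    (z : MonoidAlgebra A (Multiplicative K)) (h : MonoidAlgebra.mapRingHom (Multiplicative K) f z = 0)
    (m : Multiplicative K) : f (z.coeff m) = 0 := by
  rw [← MonoidAlgebra.coeff_mapRingHom, h, MonoidAlgebra.coeff_zero, Finsupp.zero_apply]

theorem mul_eq_zero_of_coeff {A : Type u} [CommRing A] {z z' : MonoidAlgebra A (Multiplicative K)}
    (h : ∀ m m', z.coeff m * z'.coeff m' = 0) : z * z' = 0 := by
  classical
  ext m
  rw [MonoidAlgebra.coeff_mul, MonoidAlgebra.coeff_zero, Finsupp.zero_apply]
  simp only [Finsupp.sum, h, ite_self,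
    Finset.sum_const_zero]

theorem mapRingHom_surjective {A B : Type u} [CommRing A] [CommRing B] {f : A →+* B} (hf : Function.Surjective f) :
    Function.Surjective (MonoidAlgebra.mapRingHom (Multiplicative K) f) := fun z => by
  induction z using MonoidAlgebra.induction_linear with
  | zero => exact ⟨0, map_zero _⟩
  | add x y hx hy =>
    obtain ⟨a, rfl⟩ := hx
    obtain ⟨b, rfl⟩ := hy
    exact ⟨a + b, map_add _ _ _⟩
  | single m r =>
    obtain ⟨a, rfl⟩ := hf r
    exact ⟨MonoidAlgebra.single m a, MonoidAlgebra.mapRingHom_single _ _ _⟩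

theorem Thick.whisker {i : W' ⟶ W} (hi : Thick i) (K : Type) [AddCommMonoid K] : Thick (AMonS S K ◁ i) where
  surj y := by
    obtain ⟨z, rfl⟩ := (theta_iso K W').2.2 y
    obtain ⟨z₀, rfl⟩ := mapRingHom_surjective hi.surj z
    exact ⟨theta K W z₀, appTop_whisker_apply i z₀⟩
  sq a b ha hb := by
    obtain ⟨z, rfl⟩ := (theta_iso K W).2.2 a
    obtain ⟨z', rfl⟩ := (theta_iso K W).2.2 b
    rw [appTop_whisker_apply, ← map_zero (theta K W')] at ha hb
    rw [← map_mul, mul_eq_zero_of_coeff fun m m' => hi.sq _ _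
      (coeff_mapRingHom_eq_zero _ z ((theta_iso K W').2.1 ha) m)
      (coeff_mapRingHom_eq_zero _ z' ((theta_iso K W').2.1 hb) m'), map_zero]

theorem Thick.ker_sq {i : W' ⟶ W} (hi : Thick i) : RingHom.ker i.left.appTop.hom ^ 2 = ⊥ := by
  rw [pow_two, eq_bot_iff, Ideal.mul_le]
  intro a ha b hb
  exact (Ideal.mem_bot).mpr (hi.sq a b ha hb)

end Groth.Agent.MdlA1
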