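import Groth.Agent.AlgSpLib.Sheaf
import Groth.Prelude.Def_Magnet4

/-! Functors of equivariant maps are fppf sheaves. -/

universe u

open CategoryTheory MonoidalCategory CartesianMonoidalCategory AlgebraicGeometry Opposite
open Magnet

namespace Groth.Agent.MdlA1

variable {S : Scheme.{u}} {A B X : Over S} [MonObj A]

theorem isSheaf_eqvHom (ρ : MonAct A B) (a : MonAct A X) :
    Presieve.IsSheaf (AlgSp.J S) (MonAct.eqvHom ρ a) := by
  let J := AlgSp.J S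
  have hy : Presieve.IsSheaf J (yoneda.obj X) := GrothendieckTopology.Subcanonical.isSheaf_of_isRepresentable _
  intro T R hR x hx
  have hc : ∀ {Y₁ Z : Over S} (g : Z ⟶ Y₁) (f : Y₁ ⟶ T) (hf : R f) (k : Z ⟶ T) (hk : R k), g ≫ f = k →
      (B ◁ g) ≫ (x f hf).1 = (x k hk).1 := fun {Y₁ Z} g f hf k hk h => by
    have := congrArg Subtype.val (hx g (𝟙 Z) hf hk (by rw [h, Category.id_comp]))
    exact this.trans (by simp)
  let x' : Presieve.FamilyOfElements (yoneda.obj X) (R.pullback (snd B T)).arrows := fun Z h hh =>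
    lift (h ≫ fst B T) (𝟙 Z) ≫ (x (h ≫ snd B T) hh).1
  have hx' : x'.Compatible := fun Y₁ Y₂ Z g₁ g₂ h₁ h₂ hh₁ hh₂ he => by
    show g₁ ≫ lift (h₁ ≫ fst B T) (𝟙 _) ≫ _ = g₂ ≫ lift (h₂ ≫ fst B T) (𝟙 _) ≫ _
    have hz : R ((g₁ ≫ h₁) ≫ snd B T) := by rw [Category.assoc]; exact R.downward_closed hh₁ g₁
    have key : ∀ {Y : Over S} (g : Z ⟶ Y) (h : Y ⟶ B ⊗ T) (hh : R (h ≫ snd B T)), g ≫ h = g₁ ≫ h₁ →
        g ≫ lift (h ≫ fst B T) (𝟙 _) ≫ (x (h ≫ snd B T) hh).1 =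
          lift ((g₁ ≫ h₁) ≫ fst B T) (𝟙 Z) ≫ (x _ hz).1 := fun g h hh hgh => by
      rw [← hc g (h ≫ snd B T) hh _ hz (by rw [← Category.assoc, hgh]), comp_lift_assoc, lift_whiskerLeft_assoc,
        Category.comp_id, Category.id_comp, ← hgh, Category.assoc]
    rw [key g₁ h₁ hh₁ rfl, key g₂ h₂ hh₂ he.symm]
  have hS := J.pullback_stable (snd B T) hR
  let y := (hy _ hS).amalgamate x' hx'
  have hy' : ∀ {Z} (h : Z ⟶ B ⊗ T) (hh : R (h ≫ snd B T)),
      h ≫ y = lift (h ≫ fst B T) (𝟙 Z) ≫ (x (h ≫ snd B T) hh).1 :=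
    fun h hh => (hy _ hS).valid_glue hx' h hh
  have hpt : ∀ {Z : Over S} (b : Z ⟶ B) (t : Z ⟶ T) (ht : R t),
      lift b t ≫ y = lift b (𝟙 Z) ≫ (x t ht).1 := fun b t ht => by
    rw [hy' (lift b t) (by rwa [lift_snd])]
    simp only [lift_fst]
    congr 3 <;> simp
  have heq : MonAct.IsEquivariant (ρ.prod (MonAct.trivial A T)) a y := by
    refine (hy _ (J.pullback_stable (snd A (B ⊗ T) ≫ snd B T) hR)).isSeparatedFor.ext fun Z h hh => ?_
    obtain ⟨g, b, t, rfl⟩ : ∃ g b t, lift g (lift b t) = h :=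
      ⟨h ≫ fst A _, h ≫ snd A _ ≫ fst B T, h ≫ snd A _ ≫ snd B T, by
        rw [← comp_lift, lift_comp_fst_snd, ← comp_lift, lift_fst_snd, Category.comp_id]⟩
    have ht : R t := by simpa using hh
    show lift g (lift b t) ≫ (ρ.prod (MonAct.trivial A T)).act ≫ y = lift g (lift b t) ≫ (A ◁ y) ≫ a.act
    rw [lift_whiskerLeft_assoc, MonAct.lift_prod_act_assoc, MonAct.lift_trivial_act, hpt _ t ht, hpt _ t ht]
    exact ((MonAct.mem_eqvHom_iff _).1 (x t ht).2) Z g b (𝟙 Z)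
  refine ⟨⟨y, heq⟩, fun Z f hf => Subtype.ext ?_, fun z hz => Subtype.ext ?_⟩
  · show (B ◁ f) ≫ y = (x f hf).1
    have h2 : R (snd B Z ≫ f) := R.downward_closed hf _
    have e : (B ◁ f) = lift (fst B Z) (snd B Z ≫ f) := by
      apply CartesianMonoidalCategory.hom_ext <;> simp
    rw [e, hpt _ _ h2, ← hc (snd B Z) f hf _ h2 rfl, lift_whiskerLeft_assoc, Category.id_comp, lift_fst_snd,
      Category.id_comp]
  · refine (hy _ hS).isSeparatedFor.ext fun h' h hh => ?_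
    show h ≫ z.1 = h ≫ y
    rw [hy' h hh, ← show (B ◁ (h ≫ snd B T)) ≫ z.1 = _ from congrArg Subtype.val (hz _ hh), lift_whiskerLeft_assoc,
      Category.id_comp, ← comp_lift_assoc, lift_fst_snd]
    exact congrArg (h ≫ ·) (Category.id_comp z.1).symm

end Groth.Agent.MdlA1
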