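import Groth.Agent.MdlA1.PointLand

/-! Scaling an element of an attractor by a point of the monoid. -/

set_option autoImplicit false

universe u

open CategoryTheory CategoryTheory.Limits MonoidalCategory CartesianMonoidalCategory MonObj AlgebraicGeometry
open Magnet Opposite Groth.Agent.H23.CharPts

namespace Groth.Agent.MdlA1

variable {S : Scheme.{u}} {M : Type} [AddCommMonoid M] {N F : AddSubmonoid M} {X : Over S}
  (a : MonAct (AMonS S M) X)

/-- The element `(b, t) ↦ x (b · g t, t)`. -/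
noncomputable def scale {T : Over S} (g : T ⟶ AMonS S N) (x : (attr a N).obj (op T)) : (attr a N).obj (op T) :=
  ⟨lift (fst _ _ * (snd _ _ ≫ g)) (snd _ _) ≫ x.1, by
    refine (MonAct.mem_eqvHom_iff _).mpr fun W c b t => ?_
    simp only [comp_lift_assoc, MonObj.comp_mul, lift_fst, lift_snd, lift_snd_assoc]
    have := (MonAct.mem_eqvHom_iff x.1).mp x.2 W c (b * (t ≫ g)) t
    rw [← this]
    simp only [subAct, MonAct.lift_restrict_act, MonAct.lift_regular_act, _root_.mul_assoc]⟩

theorem scale_apply {T : Over S} (g : T ⟶ AMonS S N) (x : (attr a N).obj (op T)) {W : Over S}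
    (b : W ⟶ AMonS S N) (t : W ⟶ T) :
    lift b t ≫ (scale a g x).1 = lift (b * (t ≫ g)) t ≫ x.1 := by
  show lift b t ≫ lift (fst _ _ * (snd _ _ ≫ g)) (snd _ _) ≫ x.1 = _
  rw [comp_lift_assoc, MonObj.comp_mul, lift_fst, lift_snd, lift_snd_assoc]

theorem map_scale {T T' : Over S} (u : T' ⟶ T) (g : T ⟶ AMonS S N) (x : (attr a N).obj (op T)) :
    (attr a N).map u.op (scale a g x) = scale a (u ≫ g) ((attr a N).map u.op x) := by
  refine Subtype.ext (hom_ext_lift₂ fun W b t => ?_)
  show lift b t ≫ (AMonS S N ◁ u) ≫ (scale a g x).1 = lift b t ≫ (scale a (u ≫ g) ((attr a N).map u.op x)).1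
  rw [lift_whiskerLeft_assoc, scale_apply, scale_apply]
  show _ = lift _ t ≫ (AMonS S N ◁ u) ≫ x.1
  rw [lift_whiskerLeft_assoc, Category.assoc]

theorem scale_one {T : Over S} (x : (attr a N).obj (op T)) : scale a 1 x = x := by
  refine Subtype.ext (hom_ext_lift₂ fun W b t => ?_)
  rw [scale_apply, MonObj.comp_one, _root_.mul_one]

theorem scale_scale {T : Over S} (g h : T ⟶ AMonS S N) (x : (attr a N).obj (op T)) :
    scale a g (scale a h x) = scale a (g * h) x := by
  refine Subtype.ext (hom_ext_lift₂ fun W b t => ?_)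
  rw [scale_apply, scale_apply, scale_apply, MonObj.comp_mul, _root_.mul_assoc]

theorem attrFace_scale (hF : IsFace N F) {T : Over S} (g : T ⟶ AMonS S N) (x : (attr a N).obj (op T))
    (hg : ∀ n : N, (n : M) ∈ F → chi g (Multiplicative.ofAdd n) = 1) :
    (attrFace a hF).app (op T) (scale a g x) = (attrFace a hF).app (op T) x := by
  refine Subtype.ext (hom_ext_lift₂ fun W b t => ?_)
  show lift b t ≫ (AMonS.faceMap S hF ▷ T) ≫ (scale a g x).1 = lift b t ≫ (AMonS.faceMap S hF ▷ T) ≫ x.1
  rw [lift_whiskerRight_assoc, lift_whiskerRight_assoc, scale_apply]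
  congr 2
  refine chi_injective (MonoidHom.ext fun n => ?_)
  obtain ⟨n, rfl⟩ := Multiplicative.ofAdd.surjective n
  rw [chi_mul, chi_comp t g]
  by_cases h : (n : M) ∈ F
  · rw [hg n h, map_one, _root_.mul_one]
  · rw [chi_faceMap_of_not_mem hF b n h, MulZeroClass.zero_mul]

theorem scale_facePt (hF : IsFace N F) {T : Over S} (x : (attr a N).obj (op T)) :
    scale a (facePt hF T) x = (attrMap a hF.le).app (op T) ((attrFace a hF).app (op T) x) := by
  refine Subtype.ext (hom_ext_lift₂ fun W b t => ?_)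
  show lift b t ≫ (scale a (facePt hF T) x).1 =
    lift b t ≫ (AMonS.map S (AddSubmonoid.inclusion hF.le) ▷ T) ≫ (AMonS.faceMap S hF ▷ T) ≫ x.1
  rw [scale_apply, comp_facePt, lift_whiskerRight_assoc, lift_whiskerRight_assoc]
  congr 2
  refine chi_injective (MonoidHom.ext fun n => ?_)
  obtain ⟨n, rfl⟩ := Multiplicative.ofAdd.surjective n
  rw [chi_mul, facePt]
  by_cases h : (n : M) ∈ F
  · rw [chi_faceMap_of_mem hF _ n h, chi_faceMap_of_mem hF _ n h, chi_one, _root_.mul_one, chi_map]
    rfl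
  · rw [chi_faceMap_of_not_mem hF _ n h, chi_faceMap_of_not_mem hF _ n h, MulZeroClass.mul_zero]

/-- The value at the unit. -/
theorem attrToX_apply {T : Over S} (x : (attr a N).obj (op T)) :
    (attrToX a N).app (op T) x = lift (1 : T ⟶ AMonS S N) (𝟙 T) ≫ x.1 := by
  show lift (toUnit T ≫ η[AMonS S N]) (𝟙 T) ≫ x.1 = _
  rw [← Hom.one_def]

theorem attrToX_attrFace (hF : IsFace N F) {T : Over S} (x : (attr a N).obj (op T)) :
    (attrToX a F).app (op T) ((attrFace a hF).app (op T) x) = lift (facePt hF T) (𝟙 T) ≫ x.1 := by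
  rw [attrToX_apply]
  show lift _ _ ≫ (AMonS.faceMap S hF ▷ T) ≫ x.1 = _
  rw [lift_whiskerRight_assoc]
  rfl

theorem attrToX_attrMap (hF : IsFace N F) {T : Over S} (y : (attr a F).obj (op T)) :
    (attrToX a N).app (op T) ((attrMap a hF.le).app (op T) y) = (attrToX a F).app (op T) y := by
  rw [attrToX_apply, attrToX_apply]
  show lift _ _ ≫ (AMonS.map S (AddSubmonoid.inclusion hF.le) ▷ T) ≫ y.1 = _
  rw [lift_whiskerRight_assoc, MonObj.one_comp]

end Groth.Agent.MdlA1
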