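import Groth.Agent.MdlA1.FaceCart
import Groth.Agent.MdlA1.AttrSheaf
import Groth.Agent.MdlA1.Scale
import Groth.Agent.H28.MagnetFixed
import Groth.Agent.MagnetLib.Mono
import Groth.Prelude.Def_Magnet3

/-! Images of attractors are detected on fixed-point reflecting atlases. -/


universe u

open CategoryTheory CategoryTheory.Limits MonoidalCategory CartesianMonoidalCategory MonObj AlgebraicGeometry
open Magnet Opposite

namespace Groth.Agent.MdlA1

variable {S : Scheme.{u}} {M : Type} [AddCommGroup M] {U X : Over S}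
  (aU : MonAct (AMonS S M) U) (aX : MonAct (AMonS S M) X)

theorem attrToX_map {K : AddSubmonoid M} {A B : Over S} (t : A ⟶ B) (ψ : (attr aX K).obj (op B)) :
    (attrToX aX K).app (op A) ((attr aX K).map t.op ψ) = t ≫ (attrToX aX K).app (op B) ψ := by
  rw [attrToX_apply, attrToX_apply]
  show lift _ _ ≫ (AMonS S K ◁ t) ≫ ψ.1 = _
  rw [lift_whiskerLeft_assoc, comp_lift_assoc, Category.comp_id, Category.id_comp, MonObj.comp_one]

theorem attrToX_postcomp {K : AddSubmonoid M} (g : U ⟶ X) (hg : MonAct.IsEquivariant aU aX g) {A : Over S}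
    (χ : (attr aU K).obj (op A)) :
    (attrToX aX K).app (op A) ((MonAct.eqvHom.postcomp (subAct S M K) g hg).app (op A) χ) =
      (attrToX aU K).app (op A) χ ≫ g := by
  rw [attrToX_apply, attrToX_apply, Category.assoc]
  rfl

theorem attrFace_map {N Q : AddSubmonoid M} (hQ : IsFace N Q) {A B : Over S} (t : A ⟶ B)
    (φ : (attr aX N).obj (op B)) :
    (attrFace aX hQ).app (op A) ((attr aX N).map t.op φ) = (attr aX Q).map t.op ((attrFace aX hQ).app (op B) φ) := by
  apply Subtype.ext
  show (AMonS.faceMap S hQ ▷ A) ≫ (AMonS S N ◁ t) ≫ φ.1 = (AMonS S Q ◁ t) ≫ (AMonS.faceMap S hQ ▷ B) ≫ φ.1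
  rw [whisker_exchange_assoc]

set_option backward.isDefEq.respectTransparency false in
set_option backward.isDefEq.respectTransparency.types false in
theorem exists_attrToX_eq_of_atlas [AddGroup.FG M] [IsAffineHom U.hom] [IsSeparated X.hom]
    [LocallyOfFinitePresentation X.hom] (g : U ⟶ X) [Etale g.left] [Surjective g.left]
    (hg : MonAct.IsEquivariant aU aX g) (Z : AddSubgroup M) {N L Q : AddSubmonoid M}
    (hQ : IsFace N Q) (hZ : Z.toAddSubmonoid = Q)
    (hgZ : MonAct.IsEquivariant (aU.restrict (AMonS.map S (QuotientAddGroup.mk' Z)))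
      (aX.restrict (AMonS.map S (QuotientAddGroup.mk' Z))) g)
    (hfpr : IsPullback (MonAct.fixedPsh.map g hgZ)
      (MonAct.fixedPshι (aU.restrict (AMonS.map S (QuotientAddGroup.mk' Z))))
      (MonAct.fixedPshι (aX.restrict (AMonS.map S (QuotientAddGroup.mk' Z))))
      (yoneda.map g))
    (hU : ∀ (T : Over S) (χ : (attr aU N).obj (op T)),
      ∃ ω : (attr aU L).obj (op T), (attrToX aU L).app (op T) ω = (attrToX aU N).app (op T) χ)
    (T : Over S) (φ : (attr aX N).obj (op T)) :
    ∃ ψ : (attr aX L).obj (op T), (attrToX aX L).app (op T) ψ = (attrToX aX N).app (op T) φ := by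
  subst hZ
  obtain ⟨εU, hεU⟩ := H28.MagnetFixed.exists_iso Z aU
  obtain ⟨εX, hεX⟩ := H28.MagnetFixed.exists_iso Z aX
  -- the limit, and its preimage in the atlas
  let ψ₀ := (attrFace aX hQ).app (op T) φ
  let x₀ : T ⟶ X := (attrToX aX Z.toAddSubmonoid).app (op T) ψ₀
  let T' : Over S := Over.mk (pullback.fst x₀.left g.left ≫ T.hom)
  let π : T' ⟶ T := Over.homMk (pullback.fst x₀.left g.left) rfl
  let v : T' ⟶ U := Over.homMk (pullback.snd x₀.left g.left) (by
    change _ ≫ U.hom = pullback.fst _ _ ≫ T.hom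
    rw [← Over.w g, ← Category.assoc, ← pullback.condition, Category.assoc, Over.w x₀])
  have hv : v ≫ g = π ≫ x₀ := Over.OverMorphism.ext pullback.condition.symm
  haveI : Etale π.left := MorphismProperty.pullback_fst _ _ ‹Etale g.left›
  haveI : Surjective π.left := MorphismProperty.pullback_fst _ _ ‹Surjective g.left›
  have hX : ∀ (K : AddSubmonoid M) {A B : Over S} (t : A ⟶ B) (ψ : (attr aX K).obj (op B)), _ :=
    fun K A B t ψ => attrToX_map aX t ψ
  have hpost : ∀ (K : AddSubmonoid M) {A : Over S} (χ : (attr aU K).obj (op A)), _ :=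
    fun K A χ => attrToX_postcomp aU aX g hg χ
  obtain ⟨w, hw⟩ : ∃ w : (MonAct.fixedPsh (aU.restrict (AMonS.map S (QuotientAddGroup.mk' Z)))).obj (op T'),
      w.1 = v := by
    obtain ⟨w, -, hw⟩ := Types.exists_of_isPullback (hfpr.map ((evaluation (Over S)ᵒᵖ (Type u)).obj (op T')))
      ((MonAct.fixedPsh _).map π.op (εX.hom.app (op T) ψ₀)) v (by
        show π ≫ (εX.hom.app (op T) ψ₀).1 = v ≫ g
        rw [hv]
        have h := ConcreteCategory.congr_hom (congr_app hεX (op T)) ψ₀
        rw [NatTrans.comp_app, ConcreteCategory.comp_apply] at h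
        exact congrArg (π ≫ ·) h)
    exact ⟨w, hw⟩
  let ω₀ := εU.inv.app (op T') w
  have hω₀v : (attrToX aU Z.toAddSubmonoid).app (op T') ω₀ = v := by
    rw [← hεU]
    show (εU.hom.app (op T') ω₀).1 = v
    rw [show εU.hom.app (op T') ω₀ = w from (Iso.app εU (op T')).toEquiv.apply_symm_apply w, hw]
  have hω₀ : (MonAct.eqvHom.postcomp (subAct S M Z.toAddSubmonoid) g hg).app (op T') ω₀ =
      (attr aX Z.toAddSubmonoid).map π.op ψ₀ := by
    apply MagnetLib.attrToX_injective aX Z.toAddSubmonoid T'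
    show (attrToX aX _).app _ _ = (attrToX aX _).app _ _
    rw [hpost, hω₀v, hX, hv]
  obtain ⟨χ, hχ, -⟩ := Types.exists_of_isPullback
    ((isPullback_attrFace aU aX g hg hQ (Or.inr ⟨‹_›, ‹_›⟩)).map ((evaluation (Over S)ᵒᵖ (Type u)).obj (op T')))
    ((attr aX N).map π.op φ) ω₀ (by
      show (attrFace aX hQ).app (op T') ((attr aX N).map π.op φ) = _
      exact (attrFace_map aX hQ π φ).trans hω₀.symm)
  obtain ⟨ω, hω⟩ := hU T' χ
  let ψ' := (MonAct.eqvHom.postcomp (subAct S M L) g hg).app (op T') ω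
  have hψ' : (attrToX aX L).app (op T') ψ' = π ≫ (attrToX aX N).app (op T) φ := by
    rw [hpost, hω, ← hpost]
    show (attrToX aX N).app (op T') ((MonAct.eqvHom.postcomp (subAct S M N) g hg).app (op T') χ) = _
    rw [show (MonAct.eqvHom.postcomp (subAct S M N) g hg).app (op T') χ = (attr aX N).map π.op φ from hχ, hX]
  -- descent
  have hR : Sieve.generate (Presieve.singleton π) ∈ AlgSp.J S T :=
    AlgSpLib.mem_J_of_fppf π (AlgSpLib.fppf_of π.left) _
      ⟨_, 𝟙 _, π, Presieve.singleton_self π, Category.id_comp _⟩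
  have hs : Presieve.IsSheafFor (attr aX L) (Presieve.singleton π) :=
    (Presieve.isSheafFor_iff_generate _).2 (isSheaf_eqvHom _ _ _ hR)
  obtain ⟨ψ, hψ, -⟩ := Presieve.isSheafFor_singleton.1 hs ψ' fun {W} a b hab => by
    apply MagnetLib.attrToX_injective aX L W
    show (attrToX aX _).app _ _ = (attrToX aX _).app _ _
    rw [hX, hX, hψ', ← Category.assoc, hab, Category.assoc]
  refine ⟨ψ, ?_⟩
  have hy : Presieve.IsSheafFor (yoneda.obj X) (Presieve.singleton π) :=
    (Presieve.isSheafFor_iff_generate _).2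
      ((GrothendieckTopology.Subcanonical.isSheaf_of_isRepresentable _ : Presieve.IsSheaf (AlgSp.J S) (yoneda.obj X)) _ hR)
  refine hy.isSeparatedFor.ext fun W h hh => ?_
  obtain ⟨⟩ := hh
  show π ≫ _ = π ≫ _
  rw [← hX, hψ, hψ']

end Groth.Agent.MdlA1
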