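import Groth.Agent.MdlA1.Scale
import Groth.Agent.H28.MagnetRep

/-! Attractors over a stable open affine over the base: the projection to the fixed attractor is affine. -/

set_option autoImplicit false

universe u

open CategoryTheory CategoryTheory.Limits MonoidalCategory CartesianMonoidalCategory MonObj AlgebraicGeometry
open Magnet Opposite Groth.Agent.H23.CharPts

namespace Groth.Agent.MdlA1

variable {S : Scheme.{u}} {M : Type} [AddCommGroup M] {N : AddSubmonoid M} {X : Over S}

/-- An open subscheme over the base. -/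
noncomputable abbrev opOver {Z : Over S} (U : Z.left.Opens) : Over S := Over.mk (U.ι ≫ Z.hom)

/-- Its inclusion. -/
noncomputable abbrev opIncl {Z : Over S} (U : Z.left.Opens) : opOver U ⟶ Z := Over.homMk U.ι rfl

theorem exists_opLift {Z T : Over S} (U : Z.left.Opens) (x : T ⟶ Z) (h : ∀ t, x.left t ∈ U) :
    ∃ y : T ⟶ opOver U, y ≫ opIncl U = x := by
  refine ⟨Over.homMk (IsOpenImmersion.lift U.ι x.left ?_) ?_, Over.OverMorphism.ext (IsOpenImmersion.lift_fac _ _ _)⟩
  · rw [Scheme.Opens.range_ι]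
    rintro _ ⟨t, rfl⟩
    exact h t
  · show _ ≫ U.ι ≫ Z.hom = _
    rw [IsOpenImmersion.lift_fac_assoc, Over.w]

theorem mem_of_comp_opIncl {Z T : Over S} {U : Z.left.Opens} (y : T ⟶ opOver U) (t : T.left) :
    (y ≫ opIncl U).left t ∈ U := (y.left t).2

instance mono_opIncl {Z : Over S} (U : Z.left.Opens) : Mono (opIncl U) :=
  haveI : Mono (opIncl U).left := inferInstanceAs (Mono U.ι)
  Over.mono_of_mono_left _

variable (a : MonAct (AMonS S M) X) (V : X.left.Opens)
  (hV : (snd (AMonS S M) X).left ⁻¹ᵁ V ≤ a.act.left ⁻¹ᵁ V)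

include hV in
theorem exists_resAct : ∃ aV : MonAct (AMonS S M) (opOver V), MonAct.IsEquivariant aV a (opIncl V) := by
  obtain ⟨m, hm⟩ := exists_opLift V ((AMonS S M ◁ opIncl V) ≫ a.act) fun t => by
    refine hV (show ((AMonS S M ◁ opIncl V) ≫ snd _ _).left t ∈ V from ?_)
    rw [whiskerLeft_snd]
    exact mem_of_comp_opIncl _ t
  have hm' : ∀ {T : Over S} (g : T ⟶ AMonS S M) (p : T ⟶ opOver V),
      lift g p ≫ m ≫ opIncl V = lift g (p ≫ opIncl V) ≫ a.act := fun g p => by
    rw [hm, lift_whiskerLeft_assoc]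
  refine ⟨MonAct.mk' m (fun T p => ?_) (fun T g h p => ?_), ?_⟩
  · rw [← cancel_mono (opIncl V), Category.assoc, hm', MonAct.lift_one_act]
  · rw [← cancel_mono (opIncl V), Category.assoc, hm', MonAct.lift_mul_act, Category.assoc, hm',
      Category.assoc, hm']
  · exact hm

section Rep

variable {ZN Z0 : Over S} (eN : (attr a N).RepresentableBy ZN) (e0 : (attr a (unitFace N)).RepresentableBy Z0)
  (j : ZN ⟶ Z0) (hj : ∀ (T : Over S) (z : T ⟶ ZN),
    e0.homEquiv (z ≫ j) = (attrFace a (isFace_unitFace N)).app (op T) (eN.homEquiv z))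

/-- The section of the projection. -/
noncomputable def sec : Z0 ⟶ ZN :=
  eN.homEquiv.symm ((attrMap a (unitFace_le N)).app (op Z0) (e0.homEquiv (𝟙 Z0)))

/-- The evaluation at the unit. -/
noncomputable def ev0 : Z0 ⟶ X := (attrToX a (unitFace N)).app (op Z0) (e0.homEquiv (𝟙 Z0))

theorem comp_ev0 {T : Over S} (y : T ⟶ Z0) :
    y ≫ ev0 a e0 = (attrToX a (unitFace N)).app (op T) (e0.homEquiv y) := by
  conv_rhs => rw [← Category.comp_id y, e0.homEquiv_comp]
  exact (ConcreteCategory.congr_hom ((attrToX a (unitFace N)).naturality y.op) _).symm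

theorem homEquiv_comp_sec {T : Over S} (y : T ⟶ Z0) :
    eN.homEquiv (y ≫ sec a eN e0) = (attrMap a (unitFace_le N)).app (op T) (e0.homEquiv y) := by
  rw [eN.homEquiv_comp, sec, Equiv.apply_symm_apply]
  conv_rhs => rw [← Category.comp_id y, e0.homEquiv_comp]
  exact (ConcreteCategory.congr_hom ((attrMap a (unitFace_le N)).naturality y.op) _).symm

include hj in
theorem sec_comp : sec a eN e0 ≫ j = 𝟙 Z0 := by
  apply e0.homEquiv.injective
  rw [hj, sec, Equiv.apply_symm_apply]
  exact ConcreteCategory.congr_hom (congr_app (attrMap_comp_attrFace a (isFace_unitFace N)) (op Z0)) _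

include hj hV in
/-- A family whose limit lies in a stable open lies in it. -/
theorem mem_of_limit {T : Over S} (z : T ⟶ ZN) (h : ∀ t, ((z ≫ j) ≫ ev0 a e0).left t ∈ V)
    (p : (AMonS S N ⊗ T).left) : (eN.homEquiv z).1.left p ∈ V := by
  refine mem_of_face a V hV (eN.homEquiv z) (fun t => ?_) p
  rw [← attrToX_attrFace, ← hj, ← comp_ev0]
  exact h t

variable {aV : MonAct (AMonS S M) (opOver V)} (hiV : MonAct.IsEquivariant aV a (opIncl V))

include hj hV hiV in
/-- Families with limit in the stable open are families in it. -/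
theorem exists_attr_open {T : Over S} (z : T ⟶ ZN) (h : ∀ t, ((z ≫ j) ≫ ev0 a e0).left t ∈ V) :
    ∃ φ : (attr aV N).obj (op T), φ.1 ≫ opIncl V = (eN.homEquiv z).1 := by
  obtain ⟨φ, hφ⟩ := exists_opLift V (eN.homEquiv z).1 (mem_of_limit a V hV eN e0 j hj z h)
  refine ⟨⟨φ, ?_⟩, hφ⟩
  unfold MonAct.IsEquivariant at hiV ⊢
  rw [← cancel_mono (opIncl V), Category.assoc, hφ, Category.assoc, hiV, ← MonoidalCategory.whiskerLeft_comp_assoc, hφ]
  exact (eN.homEquiv z).2

variable [IsSeparated (opOver V).hom]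

include hj hV hiV in
/-- Families with limit in the stable open are determined by their value at the unit. -/
theorem hom_ext_open {T : Over S} (z z' : T ⟶ ZN) (h : ∀ t, ((z ≫ j) ≫ ev0 a e0).left t ∈ V)
    (h' : ∀ t, ((z' ≫ j) ≫ ev0 a e0).left t ∈ V)
    (he : (attrToX a N).app (op T) (eN.homEquiv z) = (attrToX a N).app (op T) (eN.homEquiv z')) : z = z' := by
  obtain ⟨φ, hφ⟩ := exists_attr_open a V hV eN e0 j hj hiV z h
  obtain ⟨φ', hφ'⟩ := exists_attr_open a V hV eN e0 j hj hiV z' h'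
  rw [attrToX_apply, attrToX_apply, ← hφ, ← hφ', ← Category.assoc, ← Category.assoc, cancel_mono] at he
  have h0 : φ = φ' := MagnetLib.attrToX_injective aV N T (by
    show (attrToX aV N).app (op T) φ = (attrToX aV N).app (op T) φ'
    rw [attrToX_apply, attrToX_apply]; exact he)
  exact eN.homEquiv.injective (Subtype.ext (by rw [← hφ, ← hφ', h0]))

include hj hV hiV in
theorem mono_ev0_restrict : Mono (opIncl ((ev0 a e0).left ⁻¹ᵁ V) ≫ ev0 a e0) := by
  refine ⟨fun {T} g g' hg => ?_⟩
  rw [← cancel_mono (opIncl ((ev0 a e0).left ⁻¹ᵁ V))]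
  have hmem : ∀ (g : T ⟶ opOver ((ev0 a e0).left ⁻¹ᵁ V)) (t : T.left),
      ((((g ≫ opIncl _) ≫ sec a eN e0) ≫ j) ≫ ev0 a e0).left t ∈ V := fun g t => by
    rw [Category.assoc _ (sec a eN e0), sec_comp a eN e0 j hj, Category.comp_id]
    exact mem_of_comp_opIncl g t
  have h1 := hom_ext_open a V hV eN e0 j hj hiV _ _ (hmem g) (hmem g') (by
    rw [homEquiv_comp_sec, homEquiv_comp_sec, attrToX_attrMap a (isFace_unitFace N),
      attrToX_attrMap a (isFace_unitFace N), ← comp_ev0, ← comp_ev0, Category.assoc, Category.assoc, hg])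
  have h2 := congrArg (· ≫ j) h1
  simp only [Category.assoc, sec_comp a eN e0 j hj, Category.comp_id] at h2
  exact h2

variable [IsAffineHom (opOver V).hom]

include hj hV hiV in
/-- Over the stable open the attractor is affine over the base. -/
theorem isAffineHom_restrict :
    IsAffineHom (opOver (j.left ⁻¹ᵁ ((ev0 a e0).left ⁻¹ᵁ V))).hom := by
  set U := j.left ⁻¹ᵁ ((ev0 a e0).left ⁻¹ᵁ V) with hU
  obtain ⟨ZV, iV, eV, hiV', hiVe⟩ := H28.MagnetAff.exists_representableBy N aV
  let α : ZV ⟶ ZN := eN.homEquiv.symm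
    ((MonAct.eqvHom.postcomp (subAct S M N) (opIncl V) hiV).app (op ZV) (eV.homEquiv (𝟙 ZV)))
  have hα : ∀ {T : Over S} (y : T ⟶ ZV), (eN.homEquiv (y ≫ α)).1 = (eV.homEquiv y).1 ≫ opIncl V := fun y => by
    rw [eN.homEquiv_comp, show eN.homEquiv α = _ from Equiv.apply_symm_apply _ _]
    conv_rhs => rw [← Category.comp_id y, eV.homEquiv_comp]
    exact (Category.assoc _ _ _).symm
  obtain ⟨α', hα'⟩ := exists_opLift U α fun t => by
    show (α ≫ j ≫ ev0 a e0).left t ∈ V
    rw [← Category.assoc, comp_ev0, hj, attrToX_attrFace, ← Category.id_comp α, hα, ← Category.assoc]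
    exact mem_of_comp_opIncl _ t
  obtain ⟨ψ, hψ⟩ := exists_attr_open a V hV eN e0 j hj hiV (opIncl U) fun t => by
    rw [Category.assoc]
    exact (t.2 : (opIncl U).left t ∈ U)
  let β : opOver U ⟶ ZV := eV.homEquiv.symm ψ
  have hβα : β ≫ α = opIncl U := eN.homEquiv.injective (Subtype.ext (by
    rw [hα, show eV.homEquiv β = ψ from Equiv.apply_symm_apply _ _, hψ]))
  have e1 : β ≫ α' = 𝟙 _ := by
    rw [← cancel_mono (opIncl U), Category.assoc, hα', hβα, Category.id_comp]
  have e2 : α' ≫ β = 𝟙 _ := eV.homEquiv.injective (Subtype.ext ((cancel_mono (opIncl V)).mp (by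
    rw [← hα, ← hα, Category.assoc, hβα, hα', Category.id_comp])))
  haveI : IsIso β.left :=
    ⟨α'.left, by rw [← Over.comp_left, e1]; rfl, by rw [← Over.comp_left, e2]; rfl⟩
  haveI : IsAffineHom ZV.hom := by
    rw [← Over.w iV]
    infer_instance
  rw [← Over.w β]
  infer_instance

end Rep

end Groth.Agent.MdlA1
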