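import Groth.Agent.MdlA1.AffDesc
import Groth.Agent.MdlA1.AttrSheaf
import Groth.Agent.H28.MagnetFixed
import Groth.Agent.H28.MagnetRep
import Groth.Agent.H28.FixedDesc
import Groth.Prelude.Def_Magnet3

/-! Attractors are representable and affine over the fixed attractor when the face projection square of a
fixed-point reflecting affine atlas is cartesian. -/

set_option backward.isDefEq.respectTransparency false
set_option backward.isDefEq.respectTransparency.types false

universe u

open CategoryTheory CategoryTheory.Limits MonoidalCategory CartesianMonoidalCategory MonObj AlgebraicGeometry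
open Magnet Opposite

namespace Groth.Agent.MdlA1

variable {S : Scheme.{u}} {M : Type} [AddCommGroup M] {U X : Over S}
  (aU : MonAct (AMonS S M) U) (aX : MonAct (AMonS S M) X)

theorem exists_rep_attr_of_cartesian [IsAffineHom U.hom] (f : U ⟶ X) [Etale f.left] [Surjective f.left]
    (hf : MonAct.IsEquivariant aU aX f) (N : AddSubmonoid M) (Z : AddSubgroup M) {Q : AddSubmonoid M}
    (hQ : IsFace N Q) (hZ : Z.toAddSubmonoid = Q)
    (hfZ : MonAct.IsEquivariant (aU.restrict (AMonS.map S (QuotientAddGroup.mk' Z)))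
      (aX.restrict (AMonS.map S (QuotientAddGroup.mk' Z))) f)
    (hfpr : IsPullback (MonAct.fixedPsh.map f hfZ)
      (MonAct.fixedPshι (aU.restrict (AMonS.map S (QuotientAddGroup.mk' Z))))
      (MonAct.fixedPshι (aX.restrict (AMonS.map S (QuotientAddGroup.mk' Z))))
      (yoneda.map f))
    (hcart : IsPullback (MonAct.eqvHom.postcomp (subAct S M N) f hf) (attrFace aU hQ) (attrFace aX hQ)
      (MonAct.eqvHom.postcomp (subAct S M Q) f hf)) :
    ∃ (ZN Zs : Over S) (eN : (attr aX N).RepresentableBy ZN) (es : (attr aX Q).RepresentableBy Zs) (j : ZN ⟶ Zs),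
      IsAffineHom j.left ∧ ∀ (T : Over S) (z : T ⟶ ZN),
        es.homEquiv (z ≫ j) = (attrFace aX hQ).app (op T) (eN.homEquiv z) := by
  subst hZ
  -- the attractors of the atlas
  obtain ⟨ε, hε⟩ := H28.MagnetFixed.exists_iso Z aU
  obtain ⟨εX, hεX⟩ := H28.MagnetFixed.exists_iso Z aX
  obtain ⟨UN, iN, eUN, hiN, -⟩ := H28.MagnetAff.exists_representableBy N aU
  obtain ⟨UQ, iQ, eUQ, hiQ, hiQe⟩ := H28.MagnetAff.exists_representableBy Z.toAddSubmonoid aU
  let αU : yoneda.obj UQ ≅ MonAct.fixedPsh (aU.restrict (AMonS.map S (QuotientAddGroup.mk' Z))) :=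
    eUQ.toIso ≪≫ ε
  have hαU : αU.hom ≫ MonAct.fixedPshι _ = yoneda.map iQ := by
    rw [Iso.trans_hom, Category.assoc, hε]
    ext T z
    exact hiQe (unop T) z
  -- the fixed attractor of the base
  obtain ⟨W, iW, eW, hiW, hiWe⟩ := H28.FixedDesc.exists_representableBy _ _ f hfZ hfpr
    ⟨UQ, iQ, Functor.representableByEquiv.symm αU, hiQ, fun T w =>
      ConcreteCategory.congr_hom (congr_app hαU (op T)) w⟩
  let αX : yoneda.obj W ≅ MonAct.fixedPsh (aX.restrict (AMonS.map S (QuotientAddGroup.mk' Z))) := eW.toIso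
  have hαX : αX.hom ≫ MonAct.fixedPshι _ = yoneda.map iW := by
    ext T w
    exact hiWe (unop T) w
  let γX : yoneda.obj W ≅ attr aX Z.toAddSubmonoid := αX ≪≫ εX.symm
  let p : UQ ⟶ W := Yoneda.fullyFaithful.preimage (αU.hom ≫ MonAct.fixedPsh.map f hfZ ≫ αX.inv)
  have hp : yoneda.map p = αU.hom ≫ MonAct.fixedPsh.map f hfZ ≫ αX.inv := Yoneda.fullyFaithful.map_preimage _
  have sqp : IsPullback p iQ iW f := by
    have h : IsPullback (yoneda.map p) (yoneda.map iQ) (yoneda.map iW) (yoneda.map f) := hfpr.of_iso αU.symm αX.symm (Iso.refl _) (Iso.refl _)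
      (show MonAct.fixedPsh.map f hfZ ≫ αX.symm.hom = αU.symm.hom ≫ yoneda.map p by rw [hp]; simp)
      (show MonAct.fixedPshι _ ≫ (Iso.refl _).hom = αU.symm.hom ≫ yoneda.map iQ by rw [← hαU]; simp)
      (show MonAct.fixedPshι _ ≫ (Iso.refl _).hom = αX.symm.hom ≫ yoneda.map iW by rw [← hαX]; simp)
      (by simp)
    exact IsPullback.of_map yoneda (yoneda.map_injective (by simpa using h.w)) h
  have sql := sqp.map (Over.forget S)
  haveI : Etale p.left := MorphismProperty.of_isPullback sql.flip ‹Etale f.left›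
  haveI : Surjective p.left := MorphismProperty.of_isPullback sql.flip ‹Surjective f.left›
  have hnat : MonAct.eqvHom.postcomp (subAct S M Z.toAddSubmonoid) f hf ≫ εX.hom =
      ε.hom ≫ MonAct.fixedPsh.map f hfZ := by
    haveI : Mono (MonAct.fixedPshι (aX.restrict (AMonS.map S (QuotientAddGroup.mk' Z)))) := by
      haveI : ∀ T, Mono ((MonAct.fixedPshι (aX.restrict (AMonS.map S (QuotientAddGroup.mk' Z)))).app T) :=
        fun T => (mono_iff_injective _).2 fun x y h => Subtype.ext h
      exact NatTrans.mono_of_mono_app _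
    rw [← cancel_mono (MonAct.fixedPshι _), Category.assoc, hεX, Category.assoc, MonAct.fixedPsh.map_comp_ι,
      ← Category.assoc, hε]
    ext T φ
    exact (Category.assoc _ _ _).symm
  have hpQ : eUQ.toIso.hom ≫ MonAct.eqvHom.postcomp (subAct S M Z.toAddSubmonoid) f hf = yoneda.map p ≫ γX.hom := by
    rw [← cancel_mono εX.hom, Category.assoc, hnat, hp]
    simp [αU, γX]
  let jU : UN ⟶ UQ := Yoneda.fullyFaithful.preimage (eUN.toIso.hom ≫ attrFace aU hQ ≫ eUQ.toIso.inv)
  have hjU : yoneda.map jU = eUN.toIso.hom ≫ attrFace aU hQ ≫ eUQ.toIso.inv :=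
    Yoneda.fullyFaithful.map_preimage _
  haveI : IsAffineHom jU.left := by
    haveI : IsAffineHom UN.hom := by rw [← Over.w iN]; infer_instance
    haveI : IsAffineHom UQ.hom := by rw [← Over.w iQ]; infer_instance
    haveI : IsAffineHom (jU.left ≫ UQ.hom) := by rw [Over.w jU]; infer_instance
    exact MorphismProperty.of_postcomp (W := @IsAffineHom) (W' := @IsSeparated) jU.left UQ.hom
      (inferInstanceAs (IsSeparated UQ.hom)) ‹_›
  -- the attractor as a sheaf over the fixed attractor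
  let P : AlgSp.Sp S := ⟨attr aX N ⋙ CategoryTheory.uliftFunctor.{u + 1},
    (isSheaf_iff_isSheaf_of_type _ _).2 (Presieve.isSheaf_comp_uliftFunctor _ (isSheaf_eqvHom _ _))⟩
  let R : ((Over S)ᵒᵖ ⥤ Type u) ⥤ ((Over S)ᵒᵖ ⥤ Type (u + 1)) :=
    (Functor.whiskeringRight _ _ _).obj CategoryTheory.uliftFunctor.{u + 1}
  let q : P ⟶ (AlgSp.yon S).obj W := ⟨R.map (attrFace aX hQ ≫ γX.inv)⟩
  let w : (AlgSp.yon S).obj UN ⟶ P :=
    ⟨R.map (eUN.toIso.hom ≫ MonAct.eqvHom.postcomp (subAct S M N) f hf)⟩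
  have sq : IsPullback w ((AlgSp.yon S).map jU) q ((AlgSp.yon S).map p) := by
    have h : IsPullback (eUN.toIso.hom ≫ MonAct.eqvHom.postcomp (subAct S M N) f hf) (yoneda.map jU)
        (attrFace aX hQ ≫ γX.inv) (yoneda.map p) := by
      refine hcart.of_iso eUN.toIso.symm (Iso.refl _) eUQ.toIso.symm γX.symm (by simp) ?_ (by simp) ?_
      · rw [hjU]; simp
      · show _ ≫ γX.inv = eUQ.toIso.inv ≫ yoneda.map p
        rw [Iso.comp_inv_eq, Category.assoc, ← hpQ, Iso.inv_hom_id_assoc]
    have h' := h.map R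
    exact IsPullback.of_map (sheafToPresheaf (AlgSp.J S) _) (Sheaf.hom_ext h'.w) h'
  obtain ⟨ZN, φ, j, hj, haff⟩ := AffDesc.exists_rep p sq
  let φ₀ : yoneda.obj ZN ≅ attr aX N :=
    (Functor.FullyFaithful.whiskeringRight (fullyFaithfulULiftFunctor.{u + 1}) (Over S)ᵒᵖ).preimageIso
      ((sheafToPresheaf (AlgSp.J S) _).mapIso φ)
  refine ⟨ZN, W, Functor.representableByEquiv.symm φ₀, Functor.representableByEquiv.symm γX, j, haff, fun T z => ?_⟩
  have h1 : φ₀.hom ≫ attrFace aX hQ ≫ γX.inv = yoneda.map j := by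
    apply (Functor.FullyFaithful.whiskeringRight (fullyFaithfulULiftFunctor.{u + 1}) (Over S)ᵒᵖ).map_injective
    rw [Functor.map_comp]
    exact ((congrArg (· ≫ R.map (attrFace aX hQ ≫ γX.inv))
      ((Functor.FullyFaithful.whiskeringRight (fullyFaithfulULiftFunctor.{u + 1}) (Over S)ᵒᵖ).map_preimage
        ((sheafToPresheaf (AlgSp.J S) _).map φ.hom))).trans (congrArg (fun g => g.hom) hj))
  rw [← Category.assoc, Iso.comp_inv_eq] at h1
  exact (ConcreteCategory.congr_hom (congr_app h1 (op T)) z).symm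

end Groth.Agent.MdlA1
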