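import Groth.Agent.MdlA1.AffRec

/-! The constant coefficient of a family of maps which is constant modulo a square-zero ideal. -/

set_option autoImplicit false

universe u

open CategoryTheory CategoryTheory.Limits MonoidalCategory CartesianMonoidalCategory MonObj AlgebraicGeometry
open Magnet Groth.Agent.H28.MagnetAff Groth.Agent.H23.CharPts

namespace Groth.Agent.MdlA1

variable {S : Scheme.{u}} {K : Type} [AddCommMonoid K]

/-! ### The ring of families constant modulo the ideal -/

section Ring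

variable {R R₀ : Type u} [CommRing R] [CommRing R₀] (f : R →+* R₀)

variable (K) in
/-- Polynomials whose reduction is constant. -/
noncomputable def constMod : Subring (MonoidAlgebra R (Multiplicative K)) :=
  ((MonoidAlgebra.singleOneRingHom : R₀ →+* MonoidAlgebra R₀ (Multiplicative K)).range).comap
    (MonoidAlgebra.mapRingHom (Multiplicative K) f)

theorem map_eq_of_mem {z : MonoidAlgebra R (Multiplicative K)} (hz : z ∈ constMod K f) :
    MonoidAlgebra.mapRingHom (Multiplicative K) f z = MonoidAlgebra.single 1 (f (z.coeff 1)) := by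
  obtain ⟨b, hb⟩ := hz
  have h1 : f (z.coeff 1) = b := by
    rw [← MonoidAlgebra.coeff_mapRingHom, ← hb]
    exact Finsupp.single_eq_same
  rw [h1, ← hb]
  rfl

theorem single_one_mem (r : R) : MonoidAlgebra.single 1 r ∈ constMod K f :=
  ⟨f r, (MonoidAlgebra.mapRingHom_single _ _ _).symm⟩

/-- The reduction of a member. -/
noncomputable def constBeta : constMod K f →+* R₀ where
  toFun z := f (z.1.coeff 1)
  map_one' := by simp [MonoidAlgebra.one_def]
  map_zero' := by simp
  map_add' z w := by simp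
  map_mul' z w := by
    refine Finsupp.single_injective (1 : Multiplicative K) (congrArg MonoidAlgebra.coeff (?_ : _ = _))
    show MonoidAlgebra.single (1 : Multiplicative K) (f ((z.1 * w.1).coeff 1)) =
      MonoidAlgebra.single (1 : Multiplicative K) (f (z.1.coeff 1) * f (w.1.coeff 1))
    rw [← map_eq_of_mem f (mul_mem z.2 w.2), map_mul, map_eq_of_mem f z.2, map_eq_of_mem f w.2,
      MonoidAlgebra.single_mul_single, _root_.one_mul]

variable (K) in
theorem isFibreProd_constMod (hf : Function.Surjective f) :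
    RingPO.IsFibreProd (MonoidAlgebra.mapRingHom (Multiplicative K) f)
      (MonoidAlgebra.singleOneRingHom : R₀ →+* MonoidAlgebra R₀ (Multiplicative K))
      (constMod K f).subtype (constBeta f) where
  surj := mapRingHom_surjective hf
  comm z := map_eq_of_mem f z.2
  ext z z' h _ := Subtype.ext h
  exists_of_eq b a h := by
    refine ⟨⟨a, b, h.symm⟩, rfl, ?_⟩
    show f (a.coeff 1) = b
    rw [← MonoidAlgebra.coeff_mapRingHom, h]
    exact Finsupp.single_eq_same

variable (hsq : ∀ a b : R, f a = 0 → f b = 0 → a * b = 0)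

include hsq in
/-- The constant coefficient is multiplicative on the members. -/
noncomputable def constPi : constMod K f →+* R where
  toFun z := z.1.coeff 1
  map_one' := by simp [MonoidAlgebra.one_def]
  map_zero' := by simp
  map_add' z w := by simp
  map_mul' z w := by
    classical
    set c := z.1.coeff 1
    set d := w.1.coeff 1
    set j := z.1 - MonoidAlgebra.single 1 c with hj
    set k := w.1 - MonoidAlgebra.single 1 d with hk
    have hj0 : MonoidAlgebra.mapRingHom (Multiplicative K) f j = 0 := by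
      rw [hj, map_sub, map_eq_of_mem f z.2, MonoidAlgebra.mapRingHom_single, sub_self]
    have hk0 : MonoidAlgebra.mapRingHom (Multiplicative K) f k = 0 := by
      rw [hk, map_sub, map_eq_of_mem f w.2, MonoidAlgebra.mapRingHom_single, sub_self]
    have hjk : j * k = 0 := mul_eq_zero_of_coeff fun m m' =>
      hsq _ _ (coeff_mapRingHom_eq_zero f j hj0 m) (coeff_mapRingHom_eq_zero f k hk0 m')
    show (z.1 * w.1).coeff 1 = c * d
    rw [show z.1 * w.1 = MonoidAlgebra.single 1 c * MonoidAlgebra.single 1 d + MonoidAlgebra.single 1 c * k +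
      MonoidAlgebra.single 1 d * j + j * k by rw [hj, hk]; ring, hjk, add_zero,
      MonoidAlgebra.single_mul_single, _root_.one_mul]
    simp only [MonoidAlgebra.coeff_add, Finsupp.add_apply, MonoidAlgebra.coeff_single, Finsupp.single_eq_same]
    have e1 : ∀ (r : R) (y : MonoidAlgebra R (Multiplicative K)),
        (MonoidAlgebra.single 1 r * y).coeff 1 = r * y.coeff 1 := fun r y => by
      rw [MonoidAlgebra.coeff_single_one_mul]
    have hc : j.coeff 1 = 0 := by simp [hj, c]
    have hd : k.coeff 1 = 0 := by simp [hk, d]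
    rw [e1, e1, hc, hd, MulZeroClass.mul_zero, MulZeroClass.mul_zero, add_zero, add_zero]

theorem constBeta_eq : (constBeta f : constMod K f →+* R₀) = f.comp (constPi f hsq) := rfl

variable (K) in
/-- The members as an object. -/
noncomputable abbrev cRing : CommRingCat.{u} := CommRingCat.of (constMod K f)

variable (K) in
/-- The inclusion of the members, on spectra. -/
noncomputable def sA : Spec (CommRingCat.of (MonoidAlgebra R (Multiplicative K))) ⟶ Spec (cRing K f) :=
  Spec.map (CommRingCat.ofHom (constMod K f).subtype)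

variable (K) in
/-- The reduction, on spectra. -/
noncomputable def sB : Spec (CommRingCat.of R₀) ⟶ Spec (cRing K f) :=
  Spec.map (CommRingCat.ofHom (constBeta f))

variable (K) in
include hsq in
/-- The constant coefficient, on spectra. -/
noncomputable def sPi : Spec (CommRingCat.of R) ⟶ Spec (cRing K f) :=
  Spec.map (CommRingCat.ofHom (constPi f hsq))

/-- Constants as members. -/
noncomputable def constIn : R →+* constMod K f :=
  (MonoidAlgebra.singleOneRingHom : R →+* MonoidAlgebra R (Multiplicative K)).codRestrict _ (single_one_mem f)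

variable (K) in
/-- Constants, on spectra. -/
noncomputable def sIn : Spec (cRing K f) ⟶ Spec (CommRingCat.of R) := Spec.map (CommRingCat.ofHom (constIn f))

theorem sA_in : sA K f ≫ sIn K f =
    Spec.map (CommRingCat.ofHom (MonoidAlgebra.singleOneRingHom : R →+* MonoidAlgebra R (Multiplicative K))) := by
  rw [sA, sIn, ← Spec.map_comp]
  rfl

theorem sB_in : sB K f ≫ sIn K f = Spec.map (CommRingCat.ofHom f) := by
  rw [sB, sIn, ← Spec.map_comp]
  congr 1
  refine CommRingCat.hom_ext (RingHom.ext fun r => ?_)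
  show f ((MonoidAlgebra.single (1 : Multiplicative K) r).coeff 1) = f r
  rw [MonoidAlgebra.coeff_single, Finsupp.single_eq_same]

theorem sPi_in : sPi K f hsq ≫ sIn K f = 𝟙 _ := by
  rw [sPi, sIn, ← Spec.map_comp, ← Spec.map_id]
  congr 1
  refine CommRingCat.hom_ext (RingHom.ext fun r => ?_)
  show (MonoidAlgebra.single (1 : Multiplicative K) r).coeff 1 = r
  rw [MonoidAlgebra.coeff_single, Finsupp.single_eq_same]

theorem spec_f_sPi : Spec.map (CommRingCat.ofHom f) ≫ sPi K f hsq = sB K f := by
  rw [sPi, sB, ← Spec.map_comp]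
  rfl

variable {f} in
theorem hom_ext_cRing (hf : Function.Surjective f) {T : Scheme.{u}} {k k' : Spec (cRing K f) ⟶ T}
    (hA : sA K f ≫ k = sA K f ≫ k') (hB : sB K f ≫ k = sB K f ≫ k') : k = k' :=
  (isFibreProd_constMod K f hf).hom_ext hA hB

variable {f} in
theorem exists_desc_cRing (hf : Function.Surjective f) {T : Scheme.{u}}
    (g₁ : Spec (CommRingCat.of (MonoidAlgebra R (Multiplicative K))) ⟶ T) (g₂ : Spec (CommRingCat.of R₀) ⟶ T)
    (hg : Spec.map (CommRingCat.ofHom (MonoidAlgebra.mapRingHom (Multiplicative K) f)) ≫ g₁ =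
      Spec.map (CommRingCat.ofHom (MonoidAlgebra.singleOneRingHom : R₀ →+* MonoidAlgebra R₀ (Multiplicative K))) ≫ g₂) :
    ∃ k : Spec (cRing K f) ⟶ T, sA K f ≫ k = g₁ ∧ sB K f ≫ k = g₂ :=
  (isFibreProd_constMod K f hf).exists_desc g₁ g₂ hg

section Maps

variable {R' R₀' : Type u} [CommRing R'] [CommRing R₀'] {f' : R' →+* R₀'}
  (P : MonoidAlgebra R (Multiplicative K) →+* MonoidAlgebra R' (Multiplicative K)) (g : R →+* R') (g₀ : R₀ →+* R₀')
  (hP : ∀ z, (P z).coeff 1 = g (z.coeff 1)) (hg : ∀ r, g₀ (f r) = f' (g r))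
  (hmem : ∀ z, z ∈ constMod K f → P z ∈ constMod K f')

/-- Functoriality of the members. -/
noncomputable def sMap : Spec (cRing K f') ⟶ Spec (cRing K f) :=
  Spec.map (CommRingCat.ofHom ((P.comp (constMod K f).subtype).codRestrict (constMod K f') fun z => hmem z.1 z.2))

theorem sA_map : sA K f' ≫ sMap f P hmem = Spec.map (CommRingCat.ofHom P) ≫ sA K f := by
  rw [sA, sA, sMap, ← Spec.map_comp, ← Spec.map_comp]
  rfl

include hP hg in
theorem sB_map : sB K f' ≫ sMap f P hmem = Spec.map (CommRingCat.ofHom g₀) ≫ sB K f := by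
  rw [sB, sB, sMap, ← Spec.map_comp, ← Spec.map_comp]
  congr 1
  refine CommRingCat.hom_ext (RingHom.ext fun z => ?_)
  show f' ((P z.1).coeff 1) = g₀ (f (z.1.coeff 1))
  rw [hP, hg]

include hP in
theorem sPi_map (hsq' : ∀ a b : R', f' a = 0 → f' b = 0 → a * b = 0) :
    sPi K f' hsq' ≫ sMap f P hmem = Spec.map (CommRingCat.ofHom g) ≫ sPi K f hsq := by
  rw [sPi, sPi, sMap, ← Spec.map_comp, ← Spec.map_comp]
  congr 1
  exact CommRingCat.hom_ext (RingHom.ext fun z => hP z.1)

end Maps

end Ring

/-! ### Averages of morphisms -/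

section Avg

variable {W W' V V' X Y : Over S} [IsAffine W.left] [IsAffine W'.left] [IsAffine V.left] [IsAffine V'.left]
  {i : W ⟶ W'} {i' : V ⟶ V'}

/-- `l` is the constant coefficient of the family `Φ`, whose restriction to `W` is the constant family `x`. -/
def IsAvg (hi : Thick i) (Φ : AMonS S K ⊗ W' ⟶ X) (x : W ⟶ X) (l : W' ⟶ X) : Prop :=
  ∃ k : Spec (cRing K i.left.appTop.hom) ⟶ X.left,
    sA K i.left.appTop.hom ≫ k = (prodIso K W').inv ≫ Φ.left ∧
    sB K i.left.appTop.hom ≫ k = W.left.isoSpec.inv ≫ x.left ∧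
    l.left = W'.left.isoSpec.hom ≫ sPi K i.left.appTop.hom hi.sq ≫ k

theorem isoSpec_inv_comp (u : V ⟶ W) :
    V.left.isoSpec.inv ≫ u.left = Spec.map u.left.appTop ≫ W.left.isoSpec.inv :=
  (Scheme.isoSpec_inv_naturality u.left).symm

/-- The projection read on spectra. -/
theorem prodIso_inv_snd :
    (prodIso K W).inv ≫ (snd (AMonS S K) W).left =
      Spec.map (CommRingCat.ofHom (MonoidAlgebra.singleOneRingHom : RR W →+* _)) ≫ W.left.isoSpec.inv := by
  have := affIso_naturality_inv (snd (AMonS S K) W).left (theta K W) (theta_iso K W).2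
    (RingHom.id (RR W)) Function.bijective_id MonoidAlgebra.singleOneRingHom (fun r => (theta_one r).symm)
  rw [prodIso, this]
  congr 1
  rw [Iso.inv_eq_inv]
  exact (congrArg (W.left.toSpecΓ ≫ ·) (Spec.map_id _)).trans (Category.comp_id _)

theorem prodIso_inv_whisker (u : V ⟶ W) :
    (prodIso K V).inv ≫ (AMonS S K ◁ u).left =
      Spec.map (CommRingCat.ofHom (MonoidAlgebra.mapRingHom (Multiplicative K) u.left.appTop.hom)) ≫
        (prodIso K W).inv :=
  affIso_naturality_inv _ _ _ _ _ _ (appTop_whisker_apply u)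

theorem IsAvg.unique {hi : Thick i} {Φ : AMonS S K ⊗ W' ⟶ X} {x : W ⟶ X} {l l' : W' ⟶ X}
    (h : IsAvg hi Φ x l) (h' : IsAvg hi Φ x l') : l = l' := by
  obtain ⟨k, hk1, hk2, hk3⟩ := h
  obtain ⟨k', hk1', hk2', hk3'⟩ := h'
  rw [hom_ext_cRing hi.surj (hk1.trans hk1'.symm) (hk2.trans hk2'.symm)] at hk3
  exact Over.OverMorphism.ext (hk3.trans hk3'.symm)

theorem IsAvg.comp_postcomp {hi : Thick i} {Φ : AMonS S K ⊗ W' ⟶ X} {x : W ⟶ X} {l : W' ⟶ X}
    (h : IsAvg hi Φ x l) (g : X ⟶ Y) : IsAvg hi (Φ ≫ g) (x ≫ g) (l ≫ g) := by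
  obtain ⟨k, hk1, hk2, hk3⟩ := h
  exact ⟨k ≫ g.left, by rw [Over.comp_left, ← Category.assoc, hk1, Category.assoc],
    by rw [Over.comp_left, ← Category.assoc, hk2, Category.assoc],
    by rw [Over.comp_left, hk3, Category.assoc, Category.assoc]⟩

theorem IsAvg.restrict {hi : Thick i} {Φ : AMonS S K ⊗ W' ⟶ X} {x : W ⟶ X} {l : W' ⟶ X}
    (h : IsAvg hi Φ x l) : i ≫ l = x := by
  obtain ⟨k, hk1, hk2, hk3⟩ := h
  apply Over.OverMorphism.ext
  rw [← cancel_epi W.left.isoSpec.inv, ← hk2, ← spec_f_sPi _ hi.sq,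
    Category.assoc, Over.comp_left, hk3, ← Category.assoc, isoSpec_inv_comp i, Category.assoc,
    Iso.inv_hom_id_assoc]
  rfl

/-- A constant family averages to its value. -/
theorem isAvg_snd (hi : Thick i) (y : W' ⟶ X) : IsAvg (K := K) hi (snd _ _ ≫ y) (i ≫ y) y := by
  refine ⟨sIn K i.left.appTop.hom ≫ W'.left.isoSpec.inv ≫ y.left, ?_, ?_, ?_⟩
  · rw [← Category.assoc, sA_in, Over.comp_left, ← Category.assoc (prodIso K W').inv, prodIso_inv_snd,
      Category.assoc]
  · rw [← Category.assoc, sB_in, Over.comp_left, ← Category.assoc W.left.isoSpec.inv, isoSpec_inv_comp i,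
      Category.assoc]
    rfl
  · rw [← Category.assoc (sPi K _ hi.sq), sPi_in]
    erw [Category.id_comp, Iso.hom_inv_id_assoc]

/-- Averages commute with maps of thickenings. -/
theorem IsAvg.comp_precomp {hi : Thick i} {Φ : AMonS S K ⊗ W' ⟶ X} {x : W ⟶ X} {l : W' ⟶ X}
    (h : IsAvg hi Φ x l) (hi' : Thick i') (u : V' ⟶ W') (u₀ : V ⟶ W) (hu : u₀ ≫ i = i' ≫ u) :
    IsAvg hi' ((AMonS S K ◁ u) ≫ Φ) (u₀ ≫ x) (u ≫ l) := by
  obtain ⟨k, hk1, hk2, hk3⟩ := h
  have hcomm : ∀ r, u₀.left.appTop.hom (i.left.appTop.hom r) = i'.left.appTop.hom (u.left.appTop.hom r) := fun r =>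
    (congr(($hu).left.appTop.hom r) :)
  let P := MonoidAlgebra.mapRingHom (Multiplicative K) u.left.appTop.hom
  have hmem : ∀ z, z ∈ constMod K i.left.appTop.hom → P z ∈ constMod K i'.left.appTop.hom := by
    rintro z ⟨b, hb⟩
    refine ⟨u₀.left.appTop.hom b, ?_⟩
    ext m
    rw [MonoidAlgebra.coeff_mapRingHom, MonoidAlgebra.coeff_mapRingHom, ← hcomm, ← MonoidAlgebra.coeff_mapRingHom,
      ← hb, ← MonoidAlgebra.coeff_mapRingHom u₀.left.appTop.hom]
    congr 2
    exact (MonoidAlgebra.mapRingHom_single _ _ _).symm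
  have hP : ∀ z, (P z).coeff 1 = u.left.appTop.hom (z.coeff 1) := fun z => MonoidAlgebra.coeff_mapRingHom _ _ _
  refine ⟨sMap _ P hmem ≫ k, ?_, ?_, ?_⟩
  · rw [← Category.assoc, sA_map, Category.assoc, hk1, Over.comp_left,
      ← Category.assoc (prodIso K V').inv, prodIso_inv_whisker, Category.assoc]
  · rw [← Category.assoc, sB_map (g := u.left.appTop.hom) (g₀ := u₀.left.appTop.hom) _ _ hP hcomm, Category.assoc,
      hk2, Over.comp_left, ← Category.assoc V.left.isoSpec.inv, isoSpec_inv_comp u₀, Category.assoc]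
    rfl
  · rw [← Category.assoc (sPi K _ hi'.sq), sPi_map _ hi.sq P u.left.appTop.hom hP hmem hi'.sq, Category.assoc,
      Over.comp_left, hk3, ← Category.assoc u.left, Scheme.isoSpec_hom, Scheme.isoSpec_hom,
      Scheme.toSpecΓ_naturality, Category.assoc]
    rfl

/-- Averages are invariant under translations. -/
theorem IsAvg.translate {hi : Thick i} {Φ : AMonS S K ⊗ W' ⟶ X} {x : W ⟶ X} {l : W' ⟶ X}
    (h : IsAvg hi Φ x l) (t : W' ⟶ AMonS S K) :
    IsAvg hi (lift (fst _ _ * (snd _ _ ≫ t)) (snd _ _) ≫ Φ) x l := by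
  classical
  obtain ⟨k, hk1, hk2, hk3⟩ := h
  let σ : MonoidAlgebra (RR W') (Multiplicative K) →+* MonoidAlgebra (RR W') (Multiplicative K) :=
    (MonoidAlgebra.lift (RR W') (MonoidAlgebra (RR W') (Multiplicative K)) (Multiplicative K)
      { toFun := fun m => MonoidAlgebra.single m (chi t m)
        map_one' := by rw [map_one]; rfl
        map_mul' := fun m n => by rw [map_mul, MonoidAlgebra.single_mul_single] }).toRingHom
  have hσ : ∀ m r, σ (MonoidAlgebra.single m r) = MonoidAlgebra.single m (r * chi t m) := fun m r => by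
    show MonoidAlgebra.lift _ _ _ _ (MonoidAlgebra.single m r) = _
    rw [MonoidAlgebra.lift_single]
    exact MonoidAlgebra.smul_single _ _ _
  have hcoeff : ∀ z m, (σ z).coeff m = z.coeff m * chi t m := fun z m => by
    induction z using MonoidAlgebra.induction_linear with
    | zero => simp
    | add a b ha hb => simp only [map_add, MonoidAlgebra.coeff_add, Finsupp.add_apply, ha, hb, add_mul]
    | single n r =>
      rw [hσ, MonoidAlgebra.coeff_single, MonoidAlgebra.coeff_single, Finsupp.single_apply, Finsupp.single_apply]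
      split_ifs with hnm
      · rw [hnm]
      · rw [MulZeroClass.zero_mul]
  have hone : ∀ z, (σ z).coeff 1 = z.coeff 1 := fun z => by rw [hcoeff, map_one (chi t), _root_.mul_one]
  have hmem : ∀ z, z ∈ constMod K i.left.appTop.hom → σ z ∈ constMod K i.left.appTop.hom := by
    intro z hz
    refine ⟨i.left.appTop.hom (z.coeff 1), ?_⟩
    ext m
    have hzm : i.left.appTop.hom (z.coeff m) =
        if 1 = m then i.left.appTop.hom (z.coeff 1) else 0 := by
      rw [← MonoidAlgebra.coeff_mapRingHom, map_eq_of_mem _ hz, MonoidAlgebra.coeff_single, Finsupp.single_apply]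
    rw [MonoidAlgebra.coeff_mapRingHom, hcoeff, map_mul, hzm]
    show (MonoidAlgebra.single _ _).coeff m = _
    rw [MonoidAlgebra.coeff_single, Finsupp.single_apply]
    split_ifs with hm
    · rw [← hm, map_one (chi t), map_one i.left.appTop.hom, _root_.mul_one]
    · rw [MulZeroClass.zero_mul]
  have hτ : (prodIso K W').inv ≫ (lift (fst (AMonS S K) W' * (snd (AMonS S K) W' ≫ t)) (snd (AMonS S K) W')).left =
      Spec.map (CommRingCat.ofHom σ) ≫ (prodIso K W').inv := by
    refine affIso_naturality_inv _ _ _ _ _ _ (fun z => ?_)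
    induction z using MonoidAlgebra.induction_linear with
    | zero => simp
    | add a b ha hb => simp only [map_add, ha, hb]
    | single m r =>
      rw [hσ, theta_single, map_mul, theta_single, map_mul]
      have e := (chi_comp (lift (fst (AMonS S K) W' * (snd (AMonS S K) W' ≫ t)) (snd (AMonS S K) W')) (fst (AMonS S K) W') m).symm
      rw [lift_fst, chi_mul, chi_comp] at e
      refine (congrArg (_ * ·) e).trans ?_
      show ((lift (fst (AMonS S K) W' * (snd (AMonS S K) W' ≫ t)) (snd (AMonS S K) W')) ≫ snd _ _).left.appTop r * _ = _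
      rw [lift_snd]
      exact mul_left_comm _ _ _ |>.trans (mul_comm _ _)
  have hσ1 : ∀ z, (σ z).coeff 1 = RingHom.id (RR W') (z.coeff 1) := hone
  refine ⟨sMap _ σ hmem ≫ k, ?_, ?_, ?_⟩
  · rw [← Category.assoc, sA_map, Category.assoc, hk1, Over.comp_left,
      ← Category.assoc (prodIso K W').inv, hτ, Category.assoc]
  · rw [← hk2, ← Category.assoc,
      sB_map (g := RingHom.id (RR W')) (g₀ := RingHom.id (RR W)) _ _ hσ1 (fun _ => rfl)]
    erw [Spec.map_id, Category.id_comp]
  · rw [hk3, ← Category.assoc (sPi K _ hi.sq) (sMap _ σ hmem), sPi_map _ hi.sq σ (RingHom.id (RR W')) hσ1 hmem hi.sq]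
    erw [Spec.map_id, Category.id_comp]

/-- Every family which is constant on `W` has an average. -/
theorem exists_isAvg (hi : Thick i) (Φ : AMonS S K ⊗ W' ⟶ X) (x : W ⟶ X)
    (h : (AMonS S K ◁ i) ≫ Φ = snd _ _ ≫ x) : ∃ l, IsAvg hi Φ x l := by
  obtain ⟨k, hk1, hk2⟩ := exists_desc_cRing (K := K) hi.surj
    ((prodIso K W').inv ≫ Φ.left) (W.left.isoSpec.inv ≫ x.left) (by
      rw [← Category.assoc, ← prodIso_inv_whisker, ← Category.assoc, ← prodIso_inv_snd, Category.assoc,
        Category.assoc, ← Over.comp_left, ← Over.comp_left, h])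
  obtain ⟨k₀, hk₀1, hk₀2, hk₀3⟩ := isAvg_snd (K := K) (X := W') hi (𝟙 W')
  have hk : k ≫ X.hom = k₀ ≫ W'.hom := by
    refine hom_ext_cRing hi.surj ?_ ?_
    · rw [← Category.assoc, hk1, Category.assoc, Over.w, ← Category.assoc, hk₀1, Category.assoc, Category.comp_id,
        Over.w]
    · rw [← Category.assoc, hk2, Category.assoc, Over.w, ← Category.assoc, hk₀2, Category.assoc, Category.comp_id,
        Over.w]
  refine ⟨Over.homMk (W'.left.isoSpec.hom ≫
    sPi K i.left.appTop.hom hi.sq ≫ k) ?_, k, hk1, hk2, rfl⟩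
  show (_ ≫ _ ≫ k) ≫ X.hom = W'.hom
  rw [Category.assoc, Category.assoc, hk, ← Category.assoc, ← Category.assoc, Category.assoc W'.left.isoSpec.hom,
    ← hk₀3]
  exact Category.id_comp _

end Avg

end Groth.Agent.MdlA1
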