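import Groth.Agent.MdlA1.AttrRep
import Mathlib.GroupTheory.QuotientGroup.Defs

/-! The fibres of the projection to the fixed attractor carry an action of the sharp quotient of the monoid. -/

set_option autoImplicit false

universe u

open CategoryTheory CategoryTheory.Limits MonoidalCategory CartesianMonoidalCategory MonObj AlgebraicGeometry
open Magnet Opposite Groth.Agent.H23.CharPts

namespace Groth.Agent.MdlA1

variable {S : Scheme.{u}} {M : Type} [AddCommGroup M] (N : AddSubmonoid M)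

/-- The group of units of the monoid. -/
def unitGrp : AddSubgroup M :=
  { unitFace N with
    neg_mem' := fun {x} hx => by
      obtain ⟨hx', y, hy, h⟩ := hx
      rw [neg_eq_of_add_eq_zero_right h]
      exact ⟨hy, x, hx', by rwa [add_comm]⟩ }

/-- The sharp quotient. -/
def sharpQ : AddSubmonoid (M ⧸ unitGrp N) := N.map (QuotientAddGroup.mk' (unitGrp N))

/-- The projection to it. -/
def qN : N →+ sharpQ N :=
  ((QuotientAddGroup.mk' (unitGrp N)).comp N.subtype).codRestrict (sharpQ N) fun x => ⟨x.1, x.2, rfl⟩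

theorem qN_eq_zero (n : N) : qN N n = 0 ↔ (n : M) ∈ unitFace N := by
  show qN N n = 0 ↔ (n : M) ∈ unitGrp N
  rw [← QuotientAddGroup.eq_zero_iff (n : M)]
  exact Subtype.ext_iff

theorem sharpQ_sharp : ∀ x ∈ sharpQ N, ∀ y ∈ sharpQ N, x + y = 0 → x = 0 := by
  rintro _ ⟨x, hx, rfl⟩ _ ⟨y, hy, rfl⟩ h
  rw [← map_add] at h
  exact (QuotientAddGroup.eq_zero_iff x).mpr
    ((isFace_unitFace N).mem_of_add_mem x hx y hy ((QuotientAddGroup.eq_zero_iff (x + y)).mp h)).1

/-- The zero point of the sharp quotient. -/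
theorem exists_zeroPt (T : Over S) : ∃ e : T ⟶ AMonS S (sharpQ N),
    chi e 1 = 1 ∧ ∀ k, k ≠ 1 → chi e k = 0 := by
  classical
  let χ : Multiplicative (sharpQ N) →* Γ(T.left, ⊤) :=
    { toFun := fun k => if k = 1 then 1 else 0
      map_one' := if_pos rfl
      map_mul' := fun k l => by
        by_cases hk : k = 1
        · rw [if_pos hk, hk, _root_.one_mul, _root_.one_mul]
        · rw [if_neg hk, MulZeroClass.zero_mul, if_neg]
          intro h
          refine hk (Multiplicative.toAdd.injective (Subtype.ext ?_))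
          exact sharpQ_sharp N _ (Multiplicative.toAdd k).2 _ (Multiplicative.toAdd l).2
            (congrArg (fun z => ((Multiplicative.toAdd z : sharpQ N) : M ⧸ unitGrp N)) h) }
  obtain ⟨e, he⟩ := exists_chi_eq (S := S) χ
  exact ⟨e, by rw [he]; exact if_pos rfl, fun k hk => by rw [he]; exact if_neg hk⟩

theorem zeroPt_eq_facePt {T : Over S} (e : T ⟶ AMonS S (sharpQ N)) (h1 : chi e 1 = 1)
    (h0 : ∀ k, k ≠ 1 → chi e k = 0) : e ≫ AMonS.map S (qN N) = facePt (isFace_unitFace N) T := by
  refine chi_injective (MonoidHom.ext fun n => ?_)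
  obtain ⟨n, rfl⟩ := Multiplicative.ofAdd.surjective n
  rw [chi_map, facePt]
  by_cases h : (n : M) ∈ unitFace N
  · rw [chi_faceMap_of_mem _ _ n h, chi_one]
    show chi e (Multiplicative.ofAdd (qN N n)) = 1
    rw [(qN_eq_zero N n).mpr h]
    exact h1
  · rw [chi_faceMap_of_not_mem _ _ n h]
    exact h0 _ fun e' => h ((qN_eq_zero N n).mp (congrArg Multiplicative.toAdd e'))

theorem chi_qN_of_mem {T : Over S} (b : T ⟶ AMonS S (sharpQ N)) (n : N) (hn : (n : M) ∈ unitFace N) :
    chi (b ≫ AMonS.map S (qN N)) (Multiplicative.ofAdd n) = 1 := by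
  rw [chi_map]
  show chi b (Multiplicative.ofAdd (qN N n)) = 1
  rw [(qN_eq_zero N n).mpr hn, ofAdd_zero, map_one]

variable {N} {X : Over S} (a : MonAct (AMonS S M) X) {ZN Z0 : Over S} (eN : (attr a N).RepresentableBy ZN)
  (e0 : (attr a (unitFace N)).RepresentableBy Z0) (j : ZN ⟶ Z0)
  (hj : ∀ (T : Over S) (z : T ⟶ ZN),
    e0.homEquiv (z ≫ j) = (attrFace a (isFace_unitFace N)).app (op T) (eN.homEquiv z))

/-- The translate of a point of the attractor. -/
noncomputable def transl {T : Over S} (b : T ⟶ AMonS S (sharpQ N)) (z : T ⟶ ZN) : T ⟶ ZN :=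
  eN.homEquiv.symm (scale a (b ≫ AMonS.map S (qN N)) (eN.homEquiv z))

theorem homEquiv_transl {T : Over S} (b : T ⟶ AMonS S (sharpQ N)) (z : T ⟶ ZN) :
    eN.homEquiv (transl a eN b z) = scale a (b ≫ AMonS.map S (qN N)) (eN.homEquiv z) :=
  Equiv.apply_symm_apply _ _

include hj in
theorem transl_comp {T : Over S} (b : T ⟶ AMonS S (sharpQ N)) (z : T ⟶ ZN) : transl a eN b z ≫ j = z ≫ j :=
  e0.homEquiv.injective (by
    rw [hj, hj, homEquiv_transl, attrFace_scale a _ _ _ fun n hn => chi_qN_of_mem N b n hn])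

include hj in
/-- The action on the preimage of an open of the fixed attractor. -/
theorem exists_sharpAct (U : Z0.left.Opens) :
    ∃ aU : MonAct (AMonS S (sharpQ N)) (opOver (j.left ⁻¹ᵁ U)),
      aU.act ≫ opIncl _ ≫ j = snd _ _ ≫ opIncl _ ≫ j ∧
      ∀ e : opOver (j.left ⁻¹ᵁ U) ⟶ AMonS S (sharpQ N),
        e ≫ AMonS.map S (qN N) = facePt (isFace_unitFace N) _ →
          lift e (𝟙 _) ≫ aU.act ≫ opIncl _ = (opIncl _ ≫ j) ≫ sec a eN e0 := by
  set U' := j.left ⁻¹ᵁ U
  let A := AMonS S (sharpQ N)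
  obtain ⟨m, hm⟩ := exists_opLift U' (transl a eN (fst A (opOver U')) (snd A (opOver U') ≫ opIncl U')) fun t => by
    show (transl a eN _ _ ≫ j).left t ∈ U
    rw [transl_comp a eN e0 j hj, Category.assoc]
    exact (((snd A (opOver U')).left t).2 : _)
  have hm' : ∀ {T : Over S} (g : T ⟶ A) (p : T ⟶ opOver U'),
      eN.homEquiv ((lift g p ≫ m) ≫ opIncl U') = scale a (g ≫ AMonS.map S (qN N)) (eN.homEquiv (p ≫ opIncl U')) := by
    intro T g p
    rw [Category.assoc, hm, eN.homEquiv_comp, homEquiv_transl, map_scale, ← eN.homEquiv_comp, ← Category.assoc,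
      lift_fst, lift_snd_assoc]
  refine ⟨MonAct.mk' m (fun T p => ?_) (fun T g h p => ?_), ?_, fun e he => ?_⟩
  · rw [← cancel_mono (opIncl U')]
    apply eN.homEquiv.injective
    rw [hm', MonObj.one_comp, scale_one]
  · rw [← cancel_mono (opIncl U')]
    apply eN.homEquiv.injective
    rw [hm', hm', hm', scale_scale, MonObj.mul_comp]
  · rw [MonAct.mk'_act, ← Category.assoc, hm, transl_comp a eN e0 j hj, Category.assoc]
  · rw [MonAct.mk'_act, ← Category.assoc]
    apply eN.homEquiv.injective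
    rw [hm', he, scale_facePt, homEquiv_comp_sec, hj, Category.id_comp]

end Groth.Agent.MdlA1
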