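import Groth.Agent.MdlA1.GradSym
import Mathlib.AlgebraicGeometry.Morphisms.Smooth

/-! From a graded algebra of global functions to a bundle over an affine open. -/

set_option autoImplicit false

universe u

open CategoryTheory AlgebraicGeometry

namespace Groth.Agent.MdlA1

/-- The base of a grading replaced by an isomorphic ring. -/
noncomputable def AugGrading.changeBase {C C' A : Type u} [CommRing C] [CommRing C'] [CommRing A] [Algebra C A]
    [Algebra C' A] (τ : C ≃+* C') (hτ : ∀ c, algebraMap C A c = algebraMap C' A (τ c)) (g : AugGrading C' A) :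
    AugGrading C A where
  aug := { τ.symm.toRingHom.comp g.aug.toRingHom with
    commutes' := fun c => by
      show τ.symm (g.aug (algebraMap C A c)) = c
      rw [hτ, g.aug.commutes]
      exact τ.symm_apply_apply c }
  co := { g.co.toRingHom with
    commutes' := fun c => by
      show g.co (algebraMap C A c) = _
      rw [hτ, g.co.commutes, MonoidAlgebra.coe_algebraMap, MonoidAlgebra.coe_algebraMap]
      simp [Function.comp, hτ] }
  sum_eq := g.sum_eq
  co_coeff := g.co_coeff
  coeff_one a := by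
    show (g.co a).coeff 1 = algebraMap C A (τ.symm (g.aug a))
    rw [hτ, τ.apply_symm_apply]
    exact g.coeff_one a

/-- A symmetric algebra structure on the global functions gives a bundle. -/
theorem exists_bundle {Z : Scheme.{u}} {W : Z.Opens} (hW : IsAffineOpen W) {T : Scheme.{u}} [IsAffine T]
    (f : T ⟶ W.toScheme) [Smooth f]
    (g : letI := f.appTop.hom.toAlgebra; AugGrading Γ(W.toScheme, ⊤) Γ(T, ⊤)) :
    ∃ (P : Type u) (_ : AddCommGroup P) (_ : Module Γ(Z, W) P),
      Module.Finite Γ(Z, W) P ∧ Module.Projective Γ(Z, W) P ∧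
      ∃ e : T ≅ Spec (CommRingCat.of (SymmetricAlgebra Γ(Z, W) P)),
        e.hom ≫ Spec.map (CommRingCat.ofHom (algebraMap Γ(Z, W) (SymmetricAlgebra Γ(Z, W) P))) =
          f ≫ hW.isoSpec.hom := by
  haveI : IsAffine W.toScheme := hW
  letI := f.appTop.hom.toAlgebra
  let φ : Γ(Z, W) ⟶ Γ(T, ⊤) := W.topIso.inv ≫ f.appTop
  have hsm : φ.hom.Smooth := RingHom.Smooth.respectsIso.2 f.appTop.hom W.topIso.symm.commRingCatIsoToRingEquiv
    ((HasRingHomProperty.iff_of_isAffine (P := @Smooth)).mp inferInstance)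
  letI alg : Algebra Γ(Z, W) Γ(T, ⊤) := φ.hom.toAlgebra
  haveI : Algebra.Smooth Γ(Z, W) Γ(T, ⊤) := hsm
  haveI : Algebra.FinitePresentation Γ(Z, W) Γ(T, ⊤) := hsm.finitePresentation
  haveI : Algebra.FiniteType Γ(Z, W) Γ(T, ⊤) := inferInstance
  let g' : AugGrading Γ(Z, W) Γ(T, ⊤) :=
    g.changeBase W.topIso.symm.commRingCatIsoToRingEquiv (fun _ => rfl)
  obtain ⟨hfin, hproj, ⟨ε⟩⟩ := g'.exists_symmetricAlgebra
  refine ⟨g'.Ind, inferInstance, inferInstance, hfin, hproj,
    T.isoSpec ≪≫ Scheme.Spec.mapIso ε.toRingEquiv.toCommRingCatIso.op, ?_⟩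
  show (T.isoSpec.hom ≫ Spec.map (CommRingCat.ofHom ε.toRingEquiv.toRingHom)) ≫ Spec.map _ = _
  rw [Category.assoc, ← Spec.map_comp,
    show CommRingCat.ofHom (algebraMap Γ(Z, W) (SymmetricAlgebra Γ(Z, W) g'.Ind)) ≫
      CommRingCat.ofHom ε.toRingEquiv.toRingHom = φ from CommRingCat.hom_ext (RingHom.ext fun c => ε.commutes c)]
  show T.isoSpec.hom ≫ Spec.map (W.topIso.inv ≫ f.appTop) = f ≫ _
  rw [Spec.map_comp, ← Category.assoc, Scheme.isoSpec_hom_naturality f, Category.assoc]
  rfl

end Groth.Agent.MdlA1
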