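import Groth.Agent.H23.AMonExt
import Groth.Agent.H28.MagnetCrit
import Mathlib.CategoryTheory.Limits.Types.Pullbacks

/-! Attractors of closed stable subschemes are cut out by the value at the unit. -/

set_option autoImplicit false

universe u

open CategoryTheory CategoryTheory.Limits MonoidalCategory CartesianMonoidalCategory MonObj AlgebraicGeometry
open Magnet Opposite

namespace Groth.Agent.MdlA1

variable {S : Scheme.{u}} {M : Type} [AddCommGroup M] {X Y : Over S}
  (aX : MonAct (AMonS S M) X) (aY : MonAct (AMonS S M) Y)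

theorem isPullback_postcomp_attrToX (f : X ⟶ Y) (hf : MonAct.IsEquivariant aX aY f) [IsClosedImmersion f.left]
    (N : AddSubmonoid M) :
    IsPullback (MonAct.eqvHom.postcomp (subAct S M N) f hf) (attrToX aX N) (attrToX aY N) (yoneda.map f) := by
  haveI : Mono f := H23.AMonExt.mono_of_isClosedImmersion f
  refine IsPullback.of_forall_isPullback_app fun T => ?_
  rw [CategoryTheory.Limits.Types.isPullback_iff]
  refine ⟨?_, fun χ χ' h => Subtype.ext ((cancel_mono f).1 (congrArg Subtype.val h.1)), fun φ x h => ?_⟩
  · ext φ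
    exact (Category.assoc _ _ _).symm
  · have hφ : (attrToX aY N).app (op (unop T)) φ = x ≫ f := h
    have horb := H28.MagnetAff.orbit_of_attr N aY φ
    rw [hφ] at horb
    obtain ⟨χ, hχ⟩ := H23.AMonExt.exists_lift_AMonS_map N.subtype Subtype.val_injective (unop T) f φ.1
      ((AMonS S M ◁ x) ≫ aX.act) (by
        unfold MonAct.IsEquivariant at hf
        rw [horb, Category.assoc, hf, ← MonoidalCategory.whiskerLeft_comp_assoc])
    refine ⟨⟨χ, ?_⟩, Subtype.ext hχ, ?_⟩
    · have h2 := φ.2
      unfold MonAct.IsEquivariant at hf h2 ⊢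
      rw [← cancel_mono f, Category.assoc, hχ, h2, ← hχ, MonoidalCategory.whiskerLeft_comp_assoc,
        Category.assoc, hf]
    · refine (cancel_mono f).1 (Eq.trans ?_ hφ)
      exact (Category.assoc _ _ _).trans (congrArg (_ ≫ ·) hχ)

end Groth.Agent.MdlA1
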