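import Groth.Agent.MdlA1.AffRec
import Groth.Agent.H28.MagnetAssoc

/-! The coaction on the functions of an affine scheme with an action of a diagonalizable monoid scheme. -/

set_option autoImplicit false

universe u

open CategoryTheory CategoryTheory.Limits MonoidalCategory CartesianMonoidalCategory MonObj AlgebraicGeometry
open Magnet Groth.Agent.H28.MagnetAff Groth.Agent.H23.CharPts

namespace Groth.Agent.MdlA1

variable {S : Scheme.{u}} {K : Type} [AddCommMonoid K] {W : Over S} [IsAffine W.left]
  (aW : MonAct (AMonS S K) W)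

/-- Evaluation of coordinates at a point. -/
noncomputable def evalPt (b : W ⟶ AMonS S K) : MonoidAlgebra (RR W) (Multiplicative K) →+* RR W :=
  MonoidAlgebra.liftNCRingHom (RingHom.id (RR W)) (chi b) (fun _ _ => Commute.all _ _)

omit [IsAffine W.left] in
theorem evalPt_apply (b : W ⟶ AMonS S K) (z : MonoidAlgebra (RR W) (Multiplicative K)) :
    evalPt b z = z.coeff.sum fun m r => r * chi b m := by
  classical
  induction z using MonoidAlgebra.induction_linear with
  | zero => simp
  | add x y hx hy =>
    rw [map_add, hx, hy, MonoidAlgebra.coeff_add,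
      Finsupp.sum_add_index' (fun _ => MulZeroClass.zero_mul _) (fun _ _ _ => add_mul _ _ _)]
  | single m r =>
    rw [MonoidAlgebra.coeff_single, Finsupp.sum_single_index (MulZeroClass.zero_mul _)]
    exact MonoidAlgebra.liftNC_single _ _ _ _

theorem lift_appTop (b : W ⟶ AMonS S K) :
    (lift b (𝟙 W)).left.appTop.hom.comp (theta K W) = evalPt b := by
  refine MonoidAlgebra.ringHom_ext (fun r => ?_) (fun m => ?_)
  · rw [RingHom.comp_apply, theta_single, map_one, _root_.mul_one, evalPt_apply, MonoidAlgebra.coeff_single,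
      Finsupp.sum_single_index (MulZeroClass.zero_mul _), map_one, _root_.mul_one]
    show (lift b (𝟙 W) ≫ snd _ _).left.appTop r = r
    rw [lift_snd]
    rfl
  · rw [RingHom.comp_apply, theta_single, map_one, _root_.one_mul, evalPt_apply, MonoidAlgebra.coeff_single,
      Finsupp.sum_single_index (MulZeroClass.zero_mul _), _root_.one_mul]
    erw [← chi_comp (lift b (𝟙 W)) (fst _ W)]
    rw [lift_fst]

/-- The translate by a point, in coordinates. -/
theorem act_appTop (b : W ⟶ AMonS S K) (r : RR W) :
    (lift b (𝟙 W) ≫ aW.act).left.appTop.hom r = evalPt b (co W aW.act r) := by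
  rw [← lift_appTop b, RingHom.comp_apply, theta_co]
  rfl

/-- The coordinates of a translate of the identity add up to it. -/
theorem sum_co (r : RR W) : ((co W aW.act r).coeff.sum fun _ c => c) = r := by
  have h := act_appTop aW 1 r
  rw [MonAct.lift_one_act, evalPt_apply] at h
  refine Eq.trans ?_ h.symm
  refine Finsupp.sum_congr fun m _ => ?_
  have h1 : chi (1 : W ⟶ AMonS S K) m = 1 := by
    obtain ⟨z, hz⟩ := exists_chi_eq (S := S) (T := W) (1 : Multiplicative K →* RR W)
    have e : chi (1 : W ⟶ AMonS S K) m * chi z m = chi z m := by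
      rw [← chi_mul, _root_.one_mul]
    rw [hz] at e
    simpa using e
  rw [h1, _root_.mul_one]

theorem coassoc (r : RR W) :
    MonoidAlgebra.mapRingHom (Multiplicative K) (co W aW.act) (co W aW.act r) = diag2 _ (co W aW.act r) := by
  let A := AMonS S K
  let p : A ⊗ (A ⊗ W) ⟶ A ⊗ W := lift (fst A (A ⊗ W) * (snd A (A ⊗ W) ≫ fst A W)) (snd A (A ⊗ W) ≫ snd A W)
  have hp : (A ◁ aW.act) ≫ aW.act = p ≫ aW.act := by
    apply hom_ext_lift₂
    intro W' g z
    rw [← lift_comp_fst_snd z]
    simp only [p, A, lift_whiskerLeft_assoc, comp_lift_assoc, MonObj.comp_mul, lift_fst, lift_snd,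
      lift_snd_assoc, MonAct.lift_mul_act]
  have hθ : Function.Injective ((theta K (A ⊗ W)).comp (MonoidAlgebra.mapRingHom (Multiplicative K) (theta K W))) := by
    refine (theta_iso K (A ⊗ W)).2.1.comp fun x y h => MonoidAlgebra.ext (Finsupp.ext fun m => (theta_iso K W).2.1 ?_)
    have := congrArg (fun q => q.coeff m) h
    rwa [MonoidAlgebra.coeff_mapRingHom, MonoidAlgebra.coeff_mapRingHom] at this
  apply hθ
  have e1 : (theta K (A ⊗ W)).comp ((MonoidAlgebra.mapRingHom (Multiplicative K) (theta K W)).comp
      (MonoidAlgebra.mapRingHom (Multiplicative K) (co W aW.act))) =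
      (A ◁ aW.act).left.appTop.hom.comp (theta K W) := by
    rw [theta_whisker, ← MonoidAlgebra.mapRingHom_comp]
    congr 2
    exact RingHom.ext fun v => theta_co W aW.act v
  have e2 : (theta K (A ⊗ W)).comp ((MonoidAlgebra.mapRingHom (Multiplicative K) (theta K W)).comp (diag2 (RR W))) =
      p.left.appTop.hom.comp (theta K W) := by
    refine MonoidAlgebra.ringHom_ext (fun r => ?_) (fun m => ?_)
    · simp only [RingHom.comp_apply]
      rw [diag2_single, MonoidAlgebra.mapRingHom_single, theta_single, theta_single, map_one, map_one, _root_.mul_one,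
        _root_.mul_one]
      show (snd A (A ⊗ W) ≫ snd A W).left.appTop r = (p ≫ snd A W).left.appTop r
      rw [lift_snd]
    · simp only [RingHom.comp_apply]
      rw [diag2_single, MonoidAlgebra.mapRingHom_single, theta_single, theta_single, map_one, _root_.one_mul]
      erw [← chi_comp p (fst A W), ← chi_comp (snd A (A ⊗ W)) (fst A W)]
      rw [lift_fst, chi_mul, mul_comm]
  show (theta K (A ⊗ W)).comp ((MonoidAlgebra.mapRingHom (Multiplicative K) (theta K W)).comp
      (MonoidAlgebra.mapRingHom (Multiplicative K) (co W aW.act))) (co W aW.act r) =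
    (theta K (A ⊗ W)).comp ((MonoidAlgebra.mapRingHom (Multiplicative K) (theta K W)).comp (diag2 (RR W)))
      (co W aW.act r)
  rw [e1, e2, RingHom.comp_apply, RingHom.comp_apply, theta_co]
  show ((A ◁ aW.act) ≫ aW.act).left.appTop r = (p ≫ aW.act).left.appTop r
  rw [hp]

/-- Every coordinate is homogeneous. -/
theorem co_coeff (r : RR W) (m : Multiplicative K) :
    co W aW.act ((co W aW.act r).coeff m) = MonoidAlgebra.single m ((co W aW.act r).coeff m) := by
  have h := congrArg (fun q => q.coeff m) (coassoc aW r)
  simpa only [MonoidAlgebra.coeff_mapRingHom, coeff_diag2] using h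

/-- Invariant functions are constant. -/
theorem co_of_invariant {V : Over S} (j : W ⟶ V) (hj : aW.act ≫ j = snd _ _ ≫ j) (v : RR V) :
    co W aW.act (j.left.appTop.hom v) = MonoidAlgebra.single 1 (j.left.appTop.hom v) := by
  refine (theta_iso K W).2.1 ?_
  rw [theta_co, theta_one]
  exact congr(($hj).left.appTop v)

end Groth.Agent.MdlA1
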