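import Groth.Agent.MdlA1.Theta
import Groth.Agent.MorLib.SmoothLocus
import Groth.Agent.MorLib.UnramLocus
import Groth.Agent.SrcDescent.SchemeFppf
import Groth.Agent.Synt29.FibreLocal
import Mathlib.AlgebraicGeometry.Morphisms.Etale

/-! The étale locus of an equivariant morphism is stable under translations. -/

set_option autoImplicit false

universe u

open CategoryTheory CategoryTheory.Limits MonoidalCategory CartesianMonoidalCategory MonObj AlgebraicGeometry
open Magnet

namespace Groth.Agent.MdlA1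

section Basic

variable {X Y : Scheme.{u}} (f : X ⟶ Y)

/-- Étale near a point. -/
def EtAt (z : X) : Prop := ∃ U : X.Opens, z ∈ U ∧ Etale (U.ι ≫ f)

/-- The étale locus. -/
noncomputable def etOpen : X.Opens := ⨆ (U : X.Opens) (_ : Etale (U.ι ≫ f)), U

theorem mem_etOpen {z : X} : z ∈ etOpen f ↔ EtAt f z := by
  simp only [etOpen, TopologicalSpace.Opens.mem_iSup, EtAt, exists_prop]
  exact ⟨fun ⟨U, h1, h2⟩ => ⟨U, h2, h1⟩, fun ⟨U, h1, h2⟩ => ⟨U, h2, h1⟩⟩

theorem etAt_of_loc [LocallyOfFinitePresentation f] {z : X} (h1 : z ∈ f.smoothLocus)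
    (h2 : MorLib.UnrLocus.Loc f z) : EtAt f z := by
  obtain ⟨U, hU, hUs⟩ := (Synt29.FibreLocal.exists_smooth_iff f z).mpr h1
  obtain ⟨V, hV, hVu⟩ := h2
  refine ⟨U ⊓ V, ⟨hU, hV⟩, ?_⟩
  have : Smooth ((U ⊓ V).ι ≫ f) := by
    rw [← X.homOfLE_ι (inf_le_left : U ⊓ V ≤ U), Category.assoc]; infer_instance
  have : FormallyUnramified ((U ⊓ V).ι ≫ f) := by
    rw [← X.homOfLE_ι (inf_le_right : U ⊓ V ≤ V), Category.assoc]
    exact MorphismProperty.comp_mem _ _ _ inferInstance hVu
  exact Etale.of_formallyUnramified_of_flat _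

theorem etAt_descend {X' Y' : Scheme.{u}} (g : Y' ⟶ Y) (f' : X' ⟶ Y') (g' : X' ⟶ X)
    (hc : IsPullback g' f' f g) [LocallyOfFinitePresentation f] [Flat g] (w : X') (h : EtAt f' w) :
    EtAt f (g' w) := by
  obtain ⟨U, hwU, hU⟩ := h
  have : LocallyOfFinitePresentation f' := MorphismProperty.of_isPullback hc inferInstance
  apply etAt_of_loc
  · exact MorLib.SmoothLoc.sm_descend f g f' g' hc w
      ((Synt29.FibreLocal.exists_smooth_iff f' w).mp ⟨U, hwU, inferInstance⟩)
  · have hl : MorLib.UnrLocus.Loc f' w := ⟨U, hwU, inferInstance⟩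
    rw [← hc.isoPullback_hom_snd, MorLib.UnrLocus.loc_comp_left, MorLib.UnrLocus.loc_pullback,
      ← Scheme.Hom.comp_apply, hc.isoPullback_hom_fst] at hl
    exact hl

end Basic

variable {S : Scheme.{u}} {A X Y G : Over S} [MonObj A]

theorem isPullback_whiskerRight (f : X ⟶ Y) :
    IsPullback (fst X G).left (f ▷ G).left f.left (fst Y G).left := by
  have big : IsPullback (fst X G).left ((f ▷ G).left ≫ (snd Y G).left) (f.left ≫ Y.hom) G.hom := by
    rw [← Over.comp_left, whiskerRight_snd, Over.w f]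
    exact IsPullback.of_hasPullback X.hom G.hom
  exact big.of_bot (by rw [← Over.comp_left, ← Over.comp_left, whiskerRight_fst])
    (IsPullback.of_hasPullback Y.hom G.hom)

/-- Translates of points of the étale locus are in the étale locus. -/
theorem etAt_theta {a : MonAct A X} {b : MonAct A Y} {f : X ⟶ Y} (hf : MonAct.IsEquivariant a b f)
    (g g' : G ⟶ A) (h : g * g' = 1) (h' : g' * g = 1) [Flat G.hom] [LocallyOfFinitePresentation G.hom]
    (w : ↑(X ⊗ G).left) (hw : EtAt f.left ((fst X G).left w)) :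
    EtAt f.left ((theta a g).left w) := by
  obtain ⟨V, hwV, hV⟩ := hw
  let U : (X ⊗ G).left.Opens := (fst X G).left ⁻¹ᵁ V
  have := theta_flat a g g' h h'
  have := theta_lfp a g g' h h'
  have := theta_flat b g g' h h'
  have := theta_lfp b g g' h h'
  let m := U.ι ≫ (theta a g).left
  let O : X.left.Opens := ⟨Set.range m.base, m.isOpenMap.isOpen_range⟩
  have hF : Etale (U.ι ≫ (f ▷ G).left) := MorphismProperty.of_isPullback
    ((isPullback_morphismRestrict (fst X G).left V).paste_vert (isPullback_whiskerRight f)) hV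
  let π := m ∣_ O
  have : Surjective π := by
    refine ⟨fun o => ?_⟩
    obtain ⟨q, hq⟩ := o.2
    exact ⟨⟨q, show m.base q ∈ O from ⟨q, rfl⟩⟩, Subtype.ext ((morphismRestrict_base_coe m O _).trans hq)⟩
  have : LocallyOfFinitePresentation (π ≫ O.ι ≫ f.left) := by
    rw [← Category.assoc π, morphismRestrict_ι, Category.assoc, Category.assoc, ← Over.comp_left,
      theta_natural hf, Over.comp_left, ← Category.assoc U.ι]
    infer_instance
  have : LocallyOfFinitePresentation (O.ι ≫ f.left) :=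
    SrcDescent.locallyOfFinitePresentation_of_fppf_comp π _
  let U1 : (X ⊗ G).left.Opens := (fst X G).left ⁻¹ᵁ O
  have hwO : (theta a g).left w ∈ O := ⟨⟨w, hwV⟩, rfl⟩
  have := isIso_trans_left a g g' h h'
  have := isIso_trans_left b g g' h h'
  have hτ : EtAt (f ▷ G).left ((trans a g).left w) := by
    refine ⟨(U.ι ≫ (trans a g).left).opensRange, ⟨⟨w, hwV⟩, rfl⟩, ?_⟩
    rw [show (U.ι ≫ (trans a g).left).opensRange.ι =
      (U.ι ≫ (trans a g).left).isoOpensRange.inv ≫ U.ι ≫ (trans a g).left from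
      (Scheme.Hom.isoOpensRange_inv_comp _).symm, Category.assoc, Category.assoc,
      ← Over.comp_left _ _ _ (trans a g), trans_natural hf, Over.comp_left, ← Category.assoc U.ι]
    infer_instance
  have hfst : (fst X G).left ((trans a g).left w) = (theta a g).left w := by
    rw [← Scheme.Hom.comp_apply, ← Over.comp_left, trans_fst]
  let w1 : U1 := ⟨(trans a g).left w, show (fst X G).left ((trans a g).left w) ∈ O from hfst.symm ▸ hwO⟩
  have hτ1 : EtAt (U1.ι ≫ (f ▷ G).left) w1 := by
    obtain ⟨U2, hm, hU2⟩ := hτ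
    refine ⟨U1.ι ⁻¹ᵁ U2, hm, ?_⟩
    rw [← morphismRestrict_ι_assoc U1.ι U2]
    infer_instance
  obtain ⟨W, hW, hWe⟩ := etAt_descend (O.ι ≫ f.left) (fst Y G).left _ _
    ((isPullback_morphismRestrict (fst X G).left O).paste_vert (isPullback_whiskerRight f)) w1 hτ1
  refine ⟨(W.ι ≫ O.ι).opensRange, ⟨⟨_, hW⟩, ?_⟩, ?_⟩
  · show O.ι (((fst X G).left ∣_ O) w1) = _
    rw [← Scheme.Hom.comp_apply, morphismRestrict_ι]
    exact hfst
  · rw [show (W.ι ≫ O.ι).opensRange.ι = (W.ι ≫ O.ι).isoOpensRange.inv ≫ W.ι ≫ O.ι from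
      (Scheme.Hom.isoOpensRange_inv_comp _).symm, Category.assoc, Category.assoc]
    infer_instance

end Groth.Agent.MdlA1
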