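import Groth.Agent.MdlA1.Points
import Mathlib.RingTheory.Localization.Away.Basic
import Mathlib.AlgebraicGeometry.Morphisms.FinitePresentation
import Mathlib.AlgebraicGeometry.Morphisms.Flat
import Mathlib.RingTheory.Flat.Basic
import Mathlib.RingTheory.RingHom.Flat
import Mathlib.RingTheory.Polynomial.Basic

/-! The family of invertible scalars over a field. -/

set_option autoImplicit false

universe u

open CategoryTheory CategoryTheory.Limits MonoidalCategory CartesianMonoidalCategory MonObj AlgebraicGeometry
open Magnet

namespace Groth.Agent.MdlA1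

variable (k : Type u) [Field k]

/-- `k[t, t⁻¹]`. -/
abbrev GmRing : Type u := Localization.Away (Polynomial.X : Polynomial k)

/-- `Spec k[t, t⁻¹]` over `Spec k`. -/
noncomputable abbrev gm : Over (Spec (CommRingCat.of k)) :=
  aff (Spec.map (CommRingCat.ofHom (algebraMap k (GmRing k))))

/-- The tautological invertible function. -/
noncomputable def gmUnit : Γ((gm k).left, ⊤)ˣ :=
  Units.map (fn (Spec.map (CommRingCat.ofHom (algebraMap k (GmRing k))))).toMonoidHom
    (IsLocalization.Away.algebraMap_isUnit (S := GmRing k) (Polynomial.X : Polynomial k)).unit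

instance gm_flat : Flat (gm k).hom := by
  show Flat (Spec.map (CommRingCat.ofHom (algebraMap k (GmRing k))))
  rw [HasRingHomProperty.Spec_iff (P := @Flat), CommRingCat.hom_ofHom, RingHom.flat_algebraMap_iff]
  infer_instance

instance gm_lfp : LocallyOfFinitePresentation (gm k).hom := by
  show LocallyOfFinitePresentation (Spec.map (CommRingCat.ofHom (algebraMap k (GmRing k))))
  rw [HasRingHomProperty.Spec_iff (P := @LocallyOfFinitePresentation), CommRingCat.hom_ofHom,
    RingHom.finitePresentation_algebraMap]
  have : Algebra.FinitePresentation (Polynomial k) (GmRing k) :=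
    IsLocalization.Away.finitePresentation (Polynomial.X : Polynomial k)
  exact Algebra.FinitePresentation.trans k (Polynomial k) (GmRing k)

/-- An invertible scalar in a field extension is a point of the family. -/
theorem exists_gm_point {K : Type u} [Field K] (φ : Spec (CommRingCat.of K) ⟶ Spec (CommRingCat.of k))
    (c : K) (hc : c ≠ 0) :
    ∃ γ : aff φ ⟶ gm k, γ.left.appTop (gmUnit k : Γ((gm k).left, ⊤)) = fn φ c := by
  obtain ⟨ψ, rfl⟩ := Spec.map_surjective φ
  have hu : IsUnit ((Polynomial.eval₂RingHom ψ.hom c) (Polynomial.X : Polynomial k)) := by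
    rw [Polynomial.coe_eval₂RingHom, Polynomial.eval₂_X]
    exact hc.isUnit
  let ev : GmRing k →+* K := IsLocalization.Away.lift (Polynomial.X : Polynomial k) hu
  have hev : CommRingCat.ofHom (algebraMap k (GmRing k)) ≫ CommRingCat.ofHom ev = ψ := by
    ext r
    show ev (algebraMap k (GmRing k) r) = ψ.hom r
    rw [IsScalarTower.algebraMap_apply k (Polynomial k) (GmRing k)]
    exact (IsLocalization.Away.lift_eq (S := GmRing k) _ hu _).trans (Polynomial.eval₂_C _ _)
  let γ : aff (Spec.map ψ) ⟶ gm k := Over.homMk (Spec.map (CommRingCat.ofHom ev)) (by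
    show Spec.map (CommRingCat.ofHom ev) ≫ Spec.map _ = Spec.map ψ
    rw [← Spec.map_comp, hev])
  refine ⟨γ, ?_⟩
  have h := congr($(Scheme.ΓSpecIso_inv_naturality (CommRingCat.ofHom ev))
    (algebraMap (Polynomial k) (GmRing k) Polynomial.X))
  refine h.symm.trans (congrArg (fn (Spec.map ψ)) ?_)
  exact (IsLocalization.Away.lift_eq (S := GmRing k) _ hu _).trans (Polynomial.eval₂_X _ _)

end Groth.Agent.MdlA1
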