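import Groth.Agent.MdlA1.Orbit
import Groth.Agent.MdlA1.EtTrans
import Groth.Agent.MdlA1.Gm
import Groth.Agent.MagnetLib.Formal
import Groth.Agent.H28.StableOpen
import Mathlib.AlgebraicGeometry.Morphisms.FlatMono
import Mathlib.CategoryTheory.Comma.Over.Pullback

/-! Equivariant morphisms of schemes with actions of the affine line which are étale near fixed points. -/

set_option autoImplicit false

universe u

open CategoryTheory CategoryTheory.Limits MonoidalCategory CartesianMonoidalCategory MonObj AlgebraicGeometry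
open Magnet Opposite

namespace Groth.Agent.MdlA1

section General

variable {S : Scheme.{u}} {N : Type} [AddCommMonoid N] {X Y : Over S}

/-- An equivariant open immersion through which all fixed points factor is an isomorphism. -/
theorem isIso_of_openImmersion_fixed (e : N ≃+ ℕ) {a : MonAct (AMonS S N) X} {b : MonAct (AMonS S N) Y}
    (f : X ⟶ Y) (hf : MonAct.IsEquivariant a b f) [IsOpenImmersion f.left]
    (hfix : ∀ (T : Over S) (y : T ⟶ Y),
      (∀ (T' : Over S) (t : T' ⟶ T) (g : T' ⟶ AMonS S N), lift g (t ≫ y) ≫ b.act = t ≫ y) →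
      ∃ x : T ⟶ X, x ≫ f = y) :
    IsIso f := by
  have htop : f.left.opensRange = ⊤ := by
    refine eq_top_of_fixed e b _ (fun K _ φ y c _ hy z => ?_) (fun K _ φ y hy z => ?_)
    · obtain ⟨q, rfl⟩ := H28.StableOpen.exists_lift f y (by rintro _ ⟨z, rfl⟩; exact hy z)
      rw [← (MonAct.isEquivariant_iff a b f).mp hf, ← Category.assoc]
      exact H28.StableOpen.range_comp_subset f _ ⟨z, rfl⟩
    · obtain ⟨x, rfl⟩ := hfix _ y hy
      exact H28.StableOpen.range_comp_subset f x ⟨z, rfl⟩
  have : IsIso ((Over.forget S).map f) := (isIso_iff_isOpenImmersion_and_epi_base _).mpr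
    ⟨‹_›, (TopCat.epi_iff_surjective _).mpr fun y => by
      have hy : y ∈ f.left.opensRange := htop ▸ trivial
      exact hy⟩
  exact isIso_of_reflects_iso f (Over.forget S)

end General

variable {k : Type u} [Field k] {X Y : Over (Spec (CommRingCat.of k))}

/-- An equivariant morphism étale near the fixed points, inducing a bijection on fixed points, is an
isomorphism. -/
theorem isIso_of_etale_fixed (e : (ℕ : Type) ≃+ ℕ) {a : MonAct (AMonS (Spec (CommRingCat.of k)) ℕ) X}
    {b : MonAct (AMonS (Spec (CommRingCat.of k)) ℕ) Y} (f : X ⟶ Y) (hf : MonAct.IsEquivariant a b f)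
    (hbij : ∀ T, Function.Bijective ((MonAct.fixedPsh.map f hf).app T))
    (V : X.left.Opens) [Etale (V.ι ≫ f.left)]
    (hV : ∀ (T : Over (Spec (CommRingCat.of k))) (x : (MonAct.fixedPsh a).obj (op T)), x.1.left ⁻¹ᵁ V = ⊤) :
    IsIso f := by
  have hΩ : etOpen f.left = ⊤ := by
    refine eq_top_of_fixed e a _ (fun K _ φ x c hc hx z => ?_) (fun K _ φ x hx z => ?_)
    · obtain ⟨v, hv⟩ := exists_gm_point k φ c hc
      have hgg : (pt e (gmUnit k : Γ((gm k).left, ⊤)) : gm k ⟶ _) *
          pt e ((gmUnit k)⁻¹ : Γ((gm k).left, ⊤)ˣ).val = 1 := by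
        rw [pt_mul, Units.mul_inv, pt_one]
      have hgg' : (pt e ((gmUnit k)⁻¹ : Γ((gm k).left, ⊤)ˣ).val : gm k ⟶ _) *
          pt e (gmUnit k : Γ((gm k).left, ⊤)) = 1 := by
        rw [pt_mul, Units.inv_mul, pt_one]
      have hw : (fst X (gm k)).left ((lift x v).left z) = x.left z := by
        rw [← Scheme.Hom.comp_apply, ← Over.comp_left, lift_fst]
      have h := etAt_theta hf _ _ hgg hgg' ((lift x v).left z)
        (hw.symm ▸ (mem_etOpen f.left).mp (hx z))
      rw [← Scheme.Hom.comp_apply, ← Over.comp_left, lift_theta, comp_pt, hv] at h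
      exact (mem_etOpen f.left).mpr h
    · have h : z ∈ x.left ⁻¹ᵁ V := by rw [hV _ ⟨x, hx⟩]; trivial
      exact (mem_etOpen f.left).mpr ⟨V, h, inferInstance⟩
  have hetale : Etale f.left := by
    refine IsZariskiLocalAtSource.of_iSup_eq_top (P := @Etale)
      (fun U : {U : X.left.Opens // Etale (U.ι ≫ f.left)} => U.1) ?_ fun U => U.2
    rw [← hΩ, etOpen, iSup_subtype']
  -- the fibre product with the induced action
  let P := Limits.pullback f f
  obtain ⟨aP, ⟨hP1, hP2⟩, -⟩ := MagnetLib.existsUnique_monAct_of_isPullback a b a f f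
    (pullback.fst f f) (pullback.snd f f) (IsPullback.of_hasPullback f f) hf hf
  let δ : X ⟶ P := pullback.lift (𝟙 X) (𝟙 X) rfl
  have hδ : MonAct.IsEquivariant a aP δ := by
    unfold MonAct.IsEquivariant at hP1 hP2 ⊢
    apply pullback.hom_ext
    · rw [Category.assoc, pullback.lift_fst, Category.comp_id, Category.assoc, hP1,
        ← MonoidalCategory.whiskerLeft_comp_assoc, pullback.lift_fst, MonoidalCategory.whiskerLeft_id,
        Category.id_comp]
    · rw [Category.assoc, pullback.lift_snd, Category.comp_id, Category.assoc, hP2,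
        ← MonoidalCategory.whiskerLeft_comp_assoc, pullback.lift_snd, MonoidalCategory.whiskerLeft_id,
        Category.id_comp]
  have hsq : IsPullback (pullback.fst f f).left (pullback.snd f f).left f.left f.left :=
    (IsPullback.of_hasPullback f f).map (Over.forget _)
  have : Etale (pullback.fst f f).left := MorphismProperty.of_isPullback hsq.flip hetale
  have hδ1 : δ.left ≫ (pullback.fst f f).left = 𝟙 _ := by
    rw [← Over.comp_left, pullback.lift_fst]; rfl
  have : Mono δ.left := SplitMono.mono ⟨_, hδ1⟩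
  have : Etale (δ.left ≫ (pullback.fst f f).left) := by rw [hδ1]; infer_instance
  have : Etale δ.left := Etale.of_comp δ.left (pullback.fst f f).left
  have : IsOpenImmersion δ.left := IsOpenImmersion.of_flat_of_mono δ.left
  have : IsIso δ := isIso_of_openImmersion_fixed e δ hδ fun T z hz => by
    have hfix1 : ∀ (T' : Over _) (t : T' ⟶ T) (g : T' ⟶ _),
        lift g (t ≫ z ≫ pullback.fst f f) ≫ a.act = t ≫ z ≫ pullback.fst f f := fun T' t g => by
      rw [← Category.assoc, ← (MonAct.isEquivariant_iff aP a _).mp hP1, ← Category.assoc, hz T' t g,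
        Category.assoc]
    have hfix2 : ∀ (T' : Over _) (t : T' ⟶ T) (g : T' ⟶ _),
        lift g (t ≫ z ≫ pullback.snd f f) ≫ a.act = t ≫ z ≫ pullback.snd f f := fun T' t g => by
      rw [← Category.assoc, ← (MonAct.isEquivariant_iff aP a _).mp hP2, ← Category.assoc, hz T' t g,
        Category.assoc]
    have heq : (⟨_, hfix1⟩ : (MonAct.fixedPsh a).obj (op T)) = ⟨_, hfix2⟩ := by
      refine (hbij (op T)).1 (Subtype.ext ?_)
      show (z ≫ pullback.fst f f) ≫ f = (z ≫ pullback.snd f f) ≫ f
      rw [Category.assoc, Category.assoc, pullback.condition]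
    refine ⟨z ≫ pullback.fst f f, pullback.hom_ext ?_ ?_⟩
    · rw [Category.assoc, pullback.lift_fst, Category.comp_id]
    · rw [Category.assoc, pullback.lift_snd, Category.comp_id]
      exact congrArg Subtype.val heq
  have hfs : pullback.fst f f = pullback.snd f f := by
    rw [← cancel_epi δ, pullback.lift_fst, pullback.lift_snd]
  have : Mono f := ⟨fun p q h => by
    rw [← pullback.lift_fst p q h, hfs, pullback.lift_snd]⟩
  have : Mono f.left := Over.mono_left_of_mono f
  have : IsOpenImmersion f.left := IsOpenImmersion.of_flat_of_mono f.left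
  exact isIso_of_openImmersion_fixed e f hf fun T y hy => by
    obtain ⟨x, hx⟩ := (hbij (op T)).2 ⟨y, hy⟩
    exact ⟨x.1, congrArg Subtype.val hx⟩

end Groth.Agent.MdlA1
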