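import Groth.Prelude.Def_Magnet4
import Mathlib.GroupTheory.FiniteAbelian.Basic
import Mathlib.LinearAlgebra.FreeModule.PID
import Mathlib.LinearAlgebra.Basis.VectorSpace
import Mathlib.Algebra.Module.ZLattice.Basic

/-! A grading of a finitely generated monoid with prescribed degree zero face. -/

set_option autoImplicit false

universe u v

open Magnet

namespace Groth.Agent.MdlA1

variable {M : Type} [AddCommGroup M] [AddGroup.FG M]

theorem exists_pos_of_not_torsion {w : M} (h : ∀ n : ℕ, n • w = 0 → n = 0) :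
    ∃ ρ : M →+ ℤ, 0 < ρ w := by
  have : Module.Finite ℤ M := Module.Finite.iff_addGroup_fg.mpr inferInstance
  let T := Submodule.torsion ℤ M
  have : Module.IsTorsionFree ℤ (M ⧸ T) := inferInstance
  have : Module.Free ℤ (M ⧸ T) := inferInstance
  have hw : Submodule.Quotient.mk (p := T) w ≠ 0 := by
    rw [Ne, Submodule.Quotient.mk_eq_zero]
    rintro ⟨⟨a, ha⟩, hmul⟩
    have ha' : a ≠ 0 := nonZeroDivisors.ne_zero ha
    refine ha' (Int.natAbs_eq_zero.mp (h a.natAbs ?_))
    have h1 : a • w = 0 := hmul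
    rcases Int.natAbs_eq a with e | e
    · rw [← natCast_zsmul, ← e, h1]
    · rw [← natCast_zsmul, ← neg_neg (a.natAbs : ℤ), ← e, neg_zsmul, h1, neg_zero]
  let b := Module.Free.chooseBasis ℤ (M ⧸ T)
  obtain ⟨i, hi⟩ : ∃ i, b.repr (Submodule.Quotient.mk (p := T) w) i ≠ 0 := by
    by_contra hc
    push Not at hc
    exact hw (b.repr.map_eq_zero_iff.mp (Finsupp.ext hc))
  let f : M →+ ℤ := ((b.coord i).comp T.mkQ).toAddMonoidHom
  rcases lt_or_gt_of_ne hi with h1 | h1
  · exact ⟨-f, by simpa [f] using h1⟩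
  · exact ⟨f, by simpa [f] using h1⟩

/-- Gordan's alternative: finitely many vectors with no non-trivial vanishing combination with
non-negative coefficients are positive for some additive functional. -/
theorem exists_pos_functional : ∀ (r : ℕ) (v : Fin r → M),
    (∀ c : Fin r → ℕ, ∑ i, c i • v i = 0 → c = 0) → ∃ φ : M →+ ℤ, ∀ i, 0 < φ (v i)
  | 0, v, _ => ⟨0, fun i => i.elim0⟩
  | r + 1, v, hv => by
    have hw : ∀ n : ℕ, n • v 0 = 0 → n = 0 := fun n hn => by
      have := congrFun (hv (Fin.cons n 0) (by simp [Fin.sum_univ_succ, hn])) 0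
      simpa using this
    obtain ⟨φ, hφ⟩ := exists_pos_functional r (fun i => v i.succ) fun c hc => by
      have := hv (Fin.cons 0 c) (by simp [Fin.sum_univ_succ, hc])
      funext i
      simpa using congrFun this i.succ
    by_cases ha : 0 < φ (v 0)
    · exact ⟨φ, Fin.cases ha hφ⟩
    push Not at ha
    obtain ⟨ρ, hρ⟩ := exists_pos_of_not_torsion hw
    -- a functional vanishing on `v 0` and positive on the others
    obtain ⟨χ, hχ0, hχ⟩ : ∃ χ : M →+ ℤ, χ (v 0) = 0 ∧ ∀ i : Fin r, 0 < χ (v i.succ) := by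
      rcases ha.lt_or_eq with h | h
      · let p : Fin r → ℕ := fun i => (φ (v i.succ)).toNat
        let q : ℕ := (-φ (v 0)).toNat
        have hp : ∀ i, (p i : ℤ) = φ (v i.succ) := fun i => Int.toNat_of_nonneg (hφ i).le
        have hq : (q : ℤ) = -φ (v 0) := Int.toNat_of_nonneg (by omega)
        obtain ⟨ψ, hψ⟩ := exists_pos_functional r (fun i => p i • v 0 + q • v i.succ) fun c hc => by
          have := hv (Fin.cons (∑ i, c i * p i) (fun i => c i * q)) (by
            rw [Fin.sum_univ_succ]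
            simpa [Finset.sum_add_distrib, Finset.sum_smul, smul_add, mul_smul] using hc)
          funext i
          have h2 := congrFun this i.succ
          simp only [Fin.cons_succ, Pi.zero_apply, Nat.mul_eq_zero] at h2
          exact h2.resolve_right (by omega)
        refine ⟨(q : ℤ) • ψ + (ψ (v 0)) • φ, ?_, fun i => ?_⟩
        · simp only [AddMonoidHom.add_apply, AddMonoidHom.smul_apply, smul_eq_mul, hq]
          ring
        · have := hψ i
          simp only [map_add, map_nsmul, nsmul_eq_mul] at this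
          simp only [AddMonoidHom.add_apply, AddMonoidHom.smul_apply, smul_eq_mul]
          rw [← hp]
          linarith
      · exact ⟨φ, h, hφ⟩
    let K : ℤ := ∑ i : Fin r, |ρ (v i.succ)| + 1
    refine ⟨K • χ + ρ, Fin.cases ?_ fun i => ?_⟩
    · simpa [hχ0] using hρ
    · have hK : |ρ (v i.succ)| < K :=
        Int.lt_add_one_iff.mpr (Finset.single_le_sum (fun j _ => abs_nonneg (ρ (v (Fin.succ j)))) (Finset.mem_univ i))
      simp only [AddMonoidHom.add_apply, AddMonoidHom.smul_apply, smul_eq_mul]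
      nlinarith [hχ i, neg_abs_le (ρ (v i.succ)), abs_nonneg (ρ (v i.succ))]

/-- A finitely generated monoid has a grading whose degree zero part is a given face. -/
theorem exists_degree {N F : AddSubmonoid M} (hN : N.FG) (hF : IsFace N F) :
    ∃ d : N →+ ℕ, ∀ n : N, d n = 0 ↔ (n : M) ∈ F := by
  classical
  obtain ⟨S, hS⟩ := hN
  let S' := S.filter (· ∉ F)
  let G : AddSubgroup M := AddSubgroup.closure (F : Set M)
  have hG : ∀ x ∈ G, ∃ a ∈ F, ∃ b ∈ F, x + b = a := by
    intro x hx
    induction hx using AddSubgroup.closure_induction with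
    | mem x hx => exact ⟨x, hx, 0, F.zero_mem, add_zero _⟩
    | zero => exact ⟨0, F.zero_mem, 0, F.zero_mem, add_zero _⟩
    | add x y _ _ hx hy =>
      obtain ⟨a, ha, b, hb, hab⟩ := hx
      obtain ⟨a', ha', b', hb', hab'⟩ := hy
      exact ⟨a + a', add_mem ha ha', b + b', add_mem hb hb', by rw [← hab, ← hab']; abel⟩
    | neg x _ hx =>
      obtain ⟨a, ha, b, hb, hab⟩ := hx
      exact ⟨b, hb, a, ha, by rw [← hab]; abel⟩
  have hGN : ∀ x ∈ N, x ∈ G → x ∈ F := fun x hx hxG => by
    obtain ⟨a, ha, b, hb, hab⟩ := hG x hxG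
    exact (hF.mem_of_add_mem x hx b (hF.le hb) (hab ▸ ha)).1
  let e := S'.equivFin.symm
  have : AddGroup.FG (M ⧸ G) := QuotientAddGroup.fg G
  obtain ⟨φ, hφ⟩ := exists_pos_functional (M := M ⧸ G) _ (fun i => QuotientAddGroup.mk (e i : M)) fun c hc => by
    rw [← map_zero (QuotientAddGroup.mk' G)] at hc
    have hsum : (∑ i, c i • (e i : M)) ∈ G := by
      rw [← QuotientAddGroup.eq_zero_iff]
      simpa using hc
    have hmem : ∀ i, (e i : M) ∈ N ∧ (e i : M) ∉ F := fun i => by
      have := Finset.mem_filter.mp (e i).2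
      exact ⟨hS ▸ AddSubmonoid.subset_closure this.1, this.2⟩
    have hF' := hGN _ (sum_mem fun i _ => nsmul_mem (hmem i).1 _) hsum
    funext i
    by_contra hci
    obtain ⟨j, hj⟩ := Nat.exists_eq_succ_of_ne_zero hci
    have hrest : (∑ k ∈ Finset.univ.erase i, c k • (e k : M)) + j • (e i : M) ∈ N :=
      add_mem (sum_mem fun k _ => nsmul_mem (hmem k).1 _) (nsmul_mem (hmem i).1 _)
    refine (hmem i).2 (hF.mem_of_add_mem _ (hmem i).1 _ hrest ?_).1
    rw [← Finset.add_sum_erase _ _ (Finset.mem_univ i), hj, succ_nsmul] at hF'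
    convert hF' using 1
    abel
  let ψ : M →+ ℤ := φ.comp (QuotientAddGroup.mk' G)
  have hF0 : ∀ x ∈ F, ψ x = 0 := fun x hx => by
    show φ (QuotientAddGroup.mk x) = 0
    rw [(QuotientAddGroup.eq_zero_iff x).mpr (AddSubgroup.subset_closure hx), map_zero]
  have key : ∀ x, x ∈ N → 0 ≤ ψ x ∧ (ψ x = 0 → x ∈ F) := by
    intro x hx
    rw [← hS] at hx
    induction hx using AddSubmonoid.closure_induction with
    | mem x hx =>
      by_cases hxF : x ∈ F
      · exact ⟨(hF0 x hxF).ge, fun _ => hxF⟩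
      · have h1 := hφ (e.symm ⟨x, Finset.mem_filter.mpr ⟨hx, hxF⟩⟩)
        rw [Equiv.apply_symm_apply] at h1
        exact ⟨h1.le, fun h0 => absurd h0 h1.ne'⟩
    | zero => exact ⟨(map_zero ψ).ge, fun _ => F.zero_mem⟩
    | add x y _ _ hx hy =>
      rw [map_add]
      exact ⟨add_nonneg hx.1 hy.1, fun h => add_mem (hx.2 (by linarith [hx.1, hy.1])) (hy.2 (by linarith [hx.1, hy.1]))⟩
  refine ⟨{ toFun := fun n => (ψ n).toNat
            map_zero' := by simp
            map_add' := fun a b => by
              rw [AddSubmonoid.coe_add, map_add, Int.toNat_add (key _ a.2).1 (key _ b.2).1] }, fun n => ?_⟩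
  show (ψ n).toNat = 0 ↔ _
  rw [Int.toNat_eq_zero]
  exact ⟨fun h => (key _ n.2).2 (le_antisymm h (key _ n.2).1), fun h => (hF0 _ h).le⟩

end Groth.Agent.MdlA1
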