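import Groth.Agent.PopescuLib.FPColim
import Mathlib.AlgebraicGeometry.AffineTransitionLimit
import Mathlib.AlgebraicGeometry.Morphisms.FinitePresentation

/-! A morphism through which maps from cofiltered affine limits descend is locally of finite presentation. -/

set_option autoImplicit false

universe u

open CategoryTheory CategoryTheory.Limits Opposite AlgebraicGeometry
open Groth.Agent.PopescuLib

namespace Groth.Agent.MdlA1

/-- An algebra retract of a finitely presented algebra is finitely presented. -/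
theorem finitePresentation_of_retract {R A P : Type u} [CommRing R] [CommRing A] [CommRing P] [Algebra R A]
    [Algebra R P] [Algebra.FinitePresentation R P] (π : P →ₐ[R] A) (σ : A →ₐ[R] P)
    (h : ∀ a, π (σ a) = a) : Algebra.FinitePresentation R A := by
  classical
  obtain ⟨s, hs⟩ := Algebra.FiniteType.out (R := R) (A := P)
  let e : P →ₐ[R] P := σ.comp π
  let K : Ideal P := Ideal.span (s.image fun x => x - e x : Set P)
  refine Algebra.FinitePresentation.of_surjective (f := π) (fun a => ⟨σ a, h a⟩)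
    ⟨s.image fun x => x - e x, le_antisymm (Ideal.span_le.mpr fun y hy => ?_) fun y hy => ?_⟩
  · obtain ⟨x, -, rfl⟩ := Finset.mem_image.mp (Finset.mem_coe.mp hy)
    show π (x - σ (π x)) = 0
    rw [map_sub, h, sub_self]
  · have hall : (Ideal.Quotient.mkₐ R K) = (Ideal.Quotient.mkₐ R K).comp e :=
      AlgHom.ext_of_adjoin_eq_top hs fun x hx => Ideal.Quotient.eq.mpr
        (Ideal.subset_span (Finset.mem_coe.mpr (Finset.mem_image_of_mem (fun x => x - e x) hx)))
    have hy0 : π y = 0 := hy
    have h0 : Ideal.Quotient.mk K y = Ideal.Quotient.mk K (e y) := congr($hall y)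
    rw [show e y = 0 from (congrArg σ hy0).trans (map_zero σ), map_zero, Ideal.Quotient.eq_zero_iff_mem] at h0
    exact h0

/-- The spectra of the finitely presented models. -/
noncomputable def fpSch (R A : Type u) [CommRing R] [CommRing A] [Algebra R A] :
    (FPModel R A)ᵒᵖ ⥤ Scheme.{u} :=
  (fpDiagram R A ⋙ Under.forget _).op ⋙ Scheme.Spec

/-- Their cone. -/
noncomputable def fpSchCone (R A : Type u) [CommRing R] [CommRing A] [Algebra R A] : Cone (fpSch R A) :=
  Scheme.Spec.mapCone ((Under.forget _).mapCocone (fpCocone R A)).op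

/-- The limit property. -/
theorem nonempty_isLimit_fpSchCone (R A : Type u) [CommRing R] [CommRing A] [Algebra R A] :
    Nonempty (IsLimit (fpSchCone R A)) := by
  haveI : IsConnected (FPModel R A) := IsFiltered.isConnected _
  haveI : PreservesLimitsOfSize.{u, u} Scheme.Spec.{u} := ΓSpec.adjunction.rightAdjoint_preservesLimits
  exact ⟨isLimitOfPreserves Scheme.Spec (isColimitOfPreserves (Under.forget _) (fpIsColimit R A)).op⟩

/-- Descent of maps from affine limits gives local finite presentation. -/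
theorem lfp_of_exists_factor {Z Y : Scheme.{u}} (j : Z ⟶ Y)
    (H : ∀ (I : Type u) [SmallCategory I] [IsCofiltered I] (D : I ⥤ Scheme.{u}) [∀ i, IsAffine (D.obj i)]
      (t : D ⟶ (Functor.const I).obj Y) (c : Cone D), IsLimit c → IsAffine c.pt →
      ∀ z : c.pt ⟶ Z, (∀ i, c.π.app i ≫ t.app i = z ≫ j) →
      ∃ (i : I) (z₀ : D.obj i ⟶ Z), z₀ ≫ j = t.app i ∧ c.π.app i ≫ z₀ = z) :
    LocallyOfFinitePresentation j := by
  rw [HasRingHomProperty.iff_appLE (P := @LocallyOfFinitePresentation)]
  intro V U e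
  let R := Γ(Y, V.1)
  let A := Γ(Z, U.1)
  letI : Algebra R A := (j.appLE V.1 U.1 e).hom.toAlgebra
  show Algebra.FinitePresentation R A
  haveI : ∀ i, IsAffine ((fpSch R A).obj i) := fun i => inferInstanceAs (IsAffine (Spec _))
  haveI : ∀ {i i'} (f : i ⟶ i'), IsAffineHom ((fpSch R A).map f) := fun f => inferInstance
  haveI : ∀ i, CompactSpace ((fpSch R A).obj i) := fun i => inferInstance
  obtain ⟨hc⟩ := nonempty_isLimit_fpSchCone R A
  let t : fpSch R A ⟶ (Functor.const _).obj Y :=
    { app := fun i => Spec.map (CommRingCat.ofHom (algebraMap R i.unop.Alg)) ≫ V.2.fromSpec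
      naturality := fun i i' f => by
        dsimp [fpSch, fpDiagram]
        rw [Category.comp_id, ← Spec.map_comp_assoc]
        congr 2
        exact CommRingCat.hom_ext (RingHom.ext fun r => f.unop.1.commutes r) }
  have hz : ∀ i, (fpSchCone R A).π.app i ≫ t.app i = U.2.fromSpec ≫ j := fun i => by
    refine (Spec.map_comp_assoc _ _ _).symm.trans ?_
    rw [← V.2.SpecMap_appLE_fromSpec j U.2 e]
    congr 2
    exact CommRingCat.hom_ext (RingHom.ext fun r => i.unop.toB.commutes r)
  obtain ⟨i, z₀, hz₀, hz₀'⟩ := H _ (fpSch R A) t (fpSchCone R A) hc (inferInstanceAs (IsAffine (Spec _)))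
    U.2.fromSpec hz
  obtain ⟨k, f, hk⟩ := exists_map_eq_top (fpSch R A) (fpSchCone R A) hc (z₀ ⁻¹ᵁ U.1) (by
    rw [← Scheme.Hom.comp_preimage, hz₀']
    exact U.2.fromSpec_preimage_self)
  haveI : IsAffine U.1.toScheme := U.2
  let w : (fpSch R A).obj k ⟶ Spec Γ(Z, U.1) :=
    IsOpenImmersion.lift U.2.fromSpec ((fpSch R A).map f ≫ z₀) (by
      rw [U.2.range_fromSpec]
      rintro _ ⟨x, rfl⟩
      exact (hk.ge (Set.mem_univ x) : x ∈ (fpSch R A).map f ⁻¹ᵁ (z₀ ⁻¹ᵁ U.1)))
  have hw : w ≫ U.2.fromSpec = (fpSch R A).map f ≫ z₀ := IsOpenImmersion.lift_fac _ _ _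
  obtain ⟨s, hs⟩ : ∃ s, Spec.map s = w := Spec.map_surjective w
  have hsR : j.appLE V.1 U.1 e ≫ s = CommRingCat.ofHom (algebraMap R k.unop.Alg) := by
    apply Spec.map_injective
    rw [← cancel_mono V.2.fromSpec, Spec.map_comp, Category.assoc, V.2.SpecMap_appLE_fromSpec j U.2 e, hs]
    refine (Category.assoc w _ _).symm.trans ((congrArg (· ≫ j) hw).trans ?_)
    rw [Category.assoc, hz₀]
    exact (t.naturality f).trans (Category.comp_id _)
  have hsA : s ≫ CommRingCat.ofHom k.unop.toB.toRingHom = 𝟙 _ := by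
    apply Spec.map_injective
    rw [Spec.map_comp, Spec.map_id, ← cancel_mono U.2.fromSpec, Category.assoc, hs]
    refine (congrArg (_ ≫ ·) hw).trans (Eq.trans ?_ (Category.id_comp U.2.fromSpec).symm)
    refine ((Category.assoc _ _ _).symm.trans ?_).trans hz₀'
    exact congrArg (· ≫ z₀) ((fpSchCone R A).w f)
  exact finitePresentation_of_retract k.unop.toB
    { s.hom with commutes' := fun r => congr(($hsR).hom r) } (fun a => congr(($hsA).hom a))

end Groth.Agent.MdlA1
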