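import Groth.Agent.MdlA1.AffRec
import Groth.Agent.MdlA1.LfpCrit
import Mathlib.CategoryTheory.Limits.Constructions.Over.Connected

/-! Descent of maps out of `A(K) ×_S T` along cofiltered limits of affine schemes `T`. -/

set_option autoImplicit false

universe u

open CategoryTheory CategoryTheory.Limits MonoidalCategory CartesianMonoidalCategory MonObj AlgebraicGeometry
open Magnet Opposite

namespace Groth.Agent.MdlA1

/-- Multiplying by a fixed object preserves connected limits. -/
noncomputable def isLimitTensor {C : Type*} [Category C] [CartesianMonoidalCategory C] {I : Type*} [Category I]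
    [IsConnected I] {D : I ⥤ C} (B : C) (c : Cone D) (hc : IsLimit c) :
    IsLimit ((tensorLeft B).mapCone c) :=
  have hconst : ∀ (s : Cone (D ⋙ tensorLeft B)) (i i' : I),
      s.π.app i ≫ fst B (D.obj i) = s.π.app i' ≫ fst B (D.obj i') := fun s i i' =>
    constant_of_preserves_morphisms (fun i => s.π.app i ≫ fst B (D.obj i)) (fun a b f => by
      rw [← s.w f, Category.assoc]
      exact congrArg (s.π.app a ≫ ·) (whiskerLeft_fst _ _).symm) i i'
  let sc : ∀ s : Cone (D ⋙ tensorLeft B), Cone D := fun s =>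
    { pt := s.pt
      π := { app := fun i => s.π.app i ≫ snd B (D.obj i)
             naturality := fun a b f => by
               show 𝟙 _ ≫ s.π.app b ≫ snd _ _ = (s.π.app a ≫ snd _ _) ≫ D.map f
               rw [Category.id_comp, ← s.w f, Category.assoc, Category.assoc]
               exact congrArg (s.π.app a ≫ ·) (whiskerLeft_snd _ _) } }
  { lift := fun s => lift (s.π.app (Classical.arbitrary I) ≫ fst _ _) (hc.lift (sc s))
    fac := fun s i => by
      show lift _ _ ≫ (B ◁ c.π.app i) = s.π.app i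
      rw [lift_whiskerLeft, hc.fac, hconst s _ i]
      exact lift_comp_fst_snd _
    uniq := fun s m hm => by
      have hm' : ∀ i, m ≫ (B ◁ c.π.app i) = s.π.app i := hm
      apply CartesianMonoidalCategory.hom_ext
      · rw [lift_fst, ← hm', Category.assoc, whiskerLeft_fst]
      · rw [lift_snd]
        refine hc.hom_ext fun i => ?_
        rw [hc.fac, Category.assoc]
        show _ = s.π.app i ≫ snd _ _
        rw [← hm', Category.assoc, whiskerLeft_snd] }

variable {S Y : Scheme.{u}} {I : Type u} [SmallCategory I]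

/-- A diagram over `Y` regarded over `S`. -/
noncomputable def overDiag (Z : Over S) (D : I ⥤ Scheme.{u}) (t : D ⟶ (Functor.const I).obj Z.left) :
    I ⥤ Over S where
  obj i := Over.mk (t.app i ≫ Z.hom)
  map f := Over.homMk (D.map f) (by
    show D.map f ≫ t.app _ ≫ Z.hom = t.app _ ≫ Z.hom
    rw [← Category.assoc, t.naturality]
    exact congrArg (· ≫ Z.hom) (Category.comp_id _))

variable [IsCofiltered I]

variable (E : I ⥤ Over S) [hE : ∀ i, IsAffine (E.obj i).left] (c : Cone E) (hc : IsLimit c)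

/-- The diagram `A(K) ×_S E`. -/
noncomputable abbrev prodDiag (K : Type) [AddCommMonoid K] : I ⥤ Scheme.{u} :=
  (E ⋙ tensorLeft (AMonS S K)) ⋙ Over.forget S

/-- Its cone. -/
noncomputable abbrev prodCone (K : Type) [AddCommMonoid K] : Cone (prodDiag E K) :=
  (Over.forget S).mapCone ((tensorLeft (AMonS S K)).mapCone c)

include hc in
omit hE in
theorem nonempty_isLimit_prodCone (K : Type) [AddCommMonoid K] : Nonempty (IsLimit (prodCone E c K)) := by
  haveI : IsConnected I := IsCofiltered.isConnected _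
  exact ⟨isLimitOfPreserves (Over.forget S) (isLimitTensor (AMonS S K) c hc)⟩

instance (K : Type) [AddCommMonoid K] (i : I) : IsAffine ((prodDiag E K).obj i) :=
  inferInstanceAs (IsAffine (AMonS S K ⊗ E.obj i).left)

include hc in
/-- Descent of existence along a morphism locally of finite presentation. -/
theorem exists_descend_map {X Y : Over S} (f : X ⟶ Y) [LocallyOfFinitePresentation f.left] (K : Type)
    [AddCommMonoid K] (y : ∀ i, AMonS S K ⊗ E.obj i ⟶ Y)
    (hy : ∀ {i i'} (g : i ⟶ i'), (AMonS S K ◁ E.map g) ≫ y i' = y i)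
    (x : AMonS S K ⊗ c.pt ⟶ X) (hx : ∀ i, (AMonS S K ◁ c.π.app i) ≫ y i = x ≫ f) :
    ∃ (i : I) (x₀ : AMonS S K ⊗ E.obj i ⟶ X), x₀ ≫ f = y i ∧ (AMonS S K ◁ c.π.app i) ≫ x₀ = x := by
  obtain ⟨hl⟩ := nonempty_isLimit_prodCone E c hc K
  haveI : ∀ {i i'} (g : i ⟶ i'), IsAffineHom ((prodDiag E K).map g) := fun g => inferInstance
  haveI : ∀ i, CompactSpace ((prodDiag E K).obj i) := fun i => inferInstance
  haveI : ∀ i, QuasiSeparatedSpace ((prodDiag E K).obj i) := fun i => inferInstance
  let t : prodDiag E K ⟶ (Functor.const I).obj Y.left :=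
    { app := fun i => (y i).left
      naturality := fun i i' g => by
        refine Eq.trans ?_ (Category.comp_id _).symm
        exact congrArg Over.Hom.left (hy g) }
  obtain ⟨i, x₀, hx₀, hx₀'⟩ := Scheme.exists_π_app_comp_eq_of_locallyOfFinitePresentation (prodDiag E K) t f.left
    (prodCone E c K) hl x.left (by
      refine NatTrans.ext (funext fun i => ?_)
      exact congrArg Over.Hom.left (hx i))
  refine ⟨i, Over.homMk x₀ ?_, Over.OverMorphism.ext hx₀', Over.OverMorphism.ext hx₀⟩
  rw [← Over.w f]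
  refine (Category.assoc _ _ _).symm.trans ?_
  exact (congrArg (· ≫ Y.hom) hx₀').trans (Over.w _)

include hc in
/-- Descent of equality along a morphism locally of finite type. -/
theorem exists_descend_eq {X Y : Over S} (f : X ⟶ Y) [LocallyOfFiniteType f.left] (K : Type)
    [AddCommMonoid K] {i : I} (a b : AMonS S K ⊗ E.obj i ⟶ X) (y : ∀ i, AMonS S K ⊗ E.obj i ⟶ Y)
    (hy : ∀ {i i'} (g : i ⟶ i'), (AMonS S K ◁ E.map g) ≫ y i' = y i) (ha : a ≫ f = y i) (hb : b ≫ f = y i)
    (hab : (AMonS S K ◁ c.π.app i) ≫ a = (AMonS S K ◁ c.π.app i) ≫ b) :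
    ∃ (k : I) (g : k ⟶ i), (AMonS S K ◁ E.map g) ≫ a = (AMonS S K ◁ E.map g) ≫ b := by
  obtain ⟨hl⟩ := nonempty_isLimit_prodCone E c hc K
  haveI : ∀ {i i'} (g : i ⟶ i'), IsAffineHom ((prodDiag E K).map g) := fun g => inferInstance
  haveI : ∀ i, CompactSpace ((prodDiag E K).obj i) := fun i => inferInstance
  let t : prodDiag E K ⟶ (Functor.const I).obj Y.left :=
    { app := fun i => (y i).left
      naturality := fun i i' g => by
        refine Eq.trans ?_ (Category.comp_id _).symm
        exact congrArg Over.Hom.left (hy g) }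
  obtain ⟨k, g, hk⟩ := Scheme.exists_hom_comp_eq_comp_of_locallyOfFiniteType (prodDiag E K) t f.left
    (prodCone E c K) hl a.left b.left (congrArg Over.Hom.left ha).symm (congrArg Over.Hom.left hb).symm
    (congrArg Over.Hom.left hab)
  exact ⟨k, g, Over.OverMorphism.ext hk⟩

include hc in
/-- Descent of an equivariant map along a morphism locally of finite presentation. -/
theorem exists_descend_eqv {M K : Type} [AddCommMonoid M] [AddCommMonoid K]
    (ρ : MonAct (AMonS S M) (AMonS S K)) {X Y : Over S} (aX : MonAct (AMonS S M) X)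
    (aY : MonAct (AMonS S M) Y) (f : X ⟶ Y) (hf : MonAct.IsEquivariant aX aY f)
    [LocallyOfFinitePresentation f.left] (y : ∀ i, (MonAct.eqvHom ρ aY).obj (op (E.obj i)))
    (hy : ∀ {i i'} (g : i ⟶ i'), (AMonS S K ◁ E.map g) ≫ (y i').1 = (y i).1)
    (x : (MonAct.eqvHom ρ aX).obj (op c.pt)) (hx : ∀ i, (AMonS S K ◁ c.π.app i) ≫ (y i).1 = x.1 ≫ f) :
    ∃ (i : I) (x₀ : (MonAct.eqvHom ρ aX).obj (op (E.obj i))),
      x₀.1 ≫ f = (y i).1 ∧ (AMonS S K ◁ c.π.app i) ≫ x₀.1 = x.1 := by
  obtain ⟨i, x₀, hx₀, hx₀'⟩ := exists_descend_map E c hc f K (fun i => (y i).1) (fun g => hy g) x.1 hx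
  haveI : IsConnected I := IsCofiltered.isConnected _
  -- the two composites out of `A(M) ×_S A(K) ×_S T`
  let E' : I ⥤ Over S := E ⋙ tensorLeft (AMonS S K)
  haveI : ∀ i, IsAffine (E'.obj i).left := fun i => inferInstanceAs (IsAffine (AMonS S K ⊗ E.obj i).left)
  let c' : Cone E' := (tensorLeft (AMonS S K)).mapCone c
  let act : ∀ T : Over S, AMonS S M ⊗ (AMonS S K ⊗ T) ⟶ AMonS S K ⊗ T := fun T => (ρ.prod (MonAct.trivial _ T)).act
  obtain ⟨k, g, hk⟩ := exists_descend_eq E' c' (isLimitTensor (AMonS S K) c hc) f M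
    (i := i) (act (E.obj i) ≫ x₀) ((AMonS S M ◁ x₀) ≫ aX.act) (fun i => act (E.obj i) ≫ (y i).1)
    (fun {j j'} g => by
      show (AMonS S M ◁ (AMonS S K ◁ E.map g)) ≫ act (E.obj j') ≫ (y j').1 = _
      rw [← Category.assoc, ← MonAct.prod_trivial_act_whiskerLeft, Category.assoc, hy g])
    (by rw [Category.assoc, hx₀])
    (by
      rw [Category.assoc, hf, ← Category.assoc, ← MonoidalCategory.whiskerLeft_comp, hx₀]
      exact (y i).2.symm)
    (by
      show (AMonS S M ◁ (AMonS S K ◁ c.π.app i)) ≫ act (E.obj i) ≫ x₀ =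
        (AMonS S M ◁ (AMonS S K ◁ c.π.app i)) ≫ (AMonS S M ◁ x₀) ≫ aX.act
      rw [← Category.assoc, ← MonAct.prod_trivial_act_whiskerLeft, Category.assoc, hx₀', ← Category.assoc,
        ← MonoidalCategory.whiskerLeft_comp, hx₀']
      exact x.2)
  refine ⟨k, ⟨(AMonS S K ◁ E.map g) ≫ x₀, ?_⟩, ?_, ?_⟩
  · show act (E.obj k) ≫ (AMonS S K ◁ E.map g) ≫ x₀ = (AMonS S M ◁ ((AMonS S K ◁ E.map g) ≫ x₀)) ≫ aX.act
    rw [← Category.assoc, MonAct.prod_trivial_act_whiskerLeft, Category.assoc, MonoidalCategory.whiskerLeft_comp,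
      Category.assoc]
    exact hk
  · rw [Category.assoc, hx₀, hy g]
  · rw [← Category.assoc, ← MonoidalCategory.whiskerLeft_comp, c.w g, hx₀']

end Groth.Agent.MdlA1
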