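import Mathlib

/-!
# Algebra for stalks at generic points of reduced special fibres over a DVR
-/

universe u

set_option autoImplicit false
set_option linter.style.haveILetI false

open TensorProduct

namespace Groth.Agent.MdlA1.DvrAlg

/-- Localization at a minimal prime over a radical ideal: the ideal becomes maximal. -/
theorem map_eq_maximalIdeal {A S : Type u} [CommRing A] [CommRing S] [Algebra A S] (P : Ideal A) [P.IsPrime]
    [IsLocalization.AtPrime S P] [IsLocalRing S] (J : Ideal A) (hJ : J.IsRadical) (hJP : J ≤ P)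
    (hmin : ∀ Q : Ideal A, Q.IsPrime → J ≤ Q → Q ≤ P → Q = P) :
    J.map (algebraMap A S) = IsLocalRing.maximalIdeal S := by
  refine le_antisymm ?_ ?_
  · rw [← IsLocalization.AtPrime.map_eq_maximalIdeal P S]
    exact Ideal.map_mono hJP
  · have hrad : (J.map (algebraMap A S)).radical = J.map (algebraMap A S) := by
      rw [← IsLocalization.map_radical P.primeCompl, hJ.radical]
    rw [← hrad, Ideal.radical_eq_sInf]
    refine le_sInf fun Q ⟨hJQ, hQ⟩ => ?_
    haveI := hQ
    have h1 : J ≤ Q.comap (algebraMap A S) := Ideal.map_le_iff_le_comap.1 hJQ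
    have h2 : Q.comap (algebraMap A S) ≤ P := by
      calc Q.comap (algebraMap A S) ≤ (IsLocalRing.maximalIdeal S).comap (algebraMap A S) :=
            Ideal.comap_mono (IsLocalRing.le_maximalIdeal hQ.ne_top)
        _ = P := IsLocalization.AtPrime.comap_maximalIdeal S P
    have h3 := hmin _ inferInstance h1 h2
    rw [← IsLocalization.AtPrime.map_eq_maximalIdeal P S, ← h3]
    exact Ideal.map_comap_le

section Field

variable (R : Type u) [CommRing R] [IsDomain R] [IsDiscreteValuationRing R]
  (B : Type u) [CommRing B] [IsDomain B] [IsDiscreteValuationRing B] [Algebra R B]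
  (hmax : IsLocalRing.maximalIdeal B = Ideal.map (algebraMap R B) (IsLocalRing.maximalIdeal R))

include hmax in
theorem exists_uniformizer :
    ∃ π : R, π ≠ 0 ∧ IsLocalRing.maximalIdeal R = Ideal.span {π} ∧ Irreducible (algebraMap R B π) := by
  obtain ⟨π, hπ⟩ := IsDiscreteValuationRing.exists_irreducible R
  refine ⟨π, hπ.ne_zero, hπ.maximalIdeal_eq, ?_⟩
  rw [IsDiscreteValuationRing.irreducible_iff_uniformizer, hmax, hπ.maximalIdeal_eq, Ideal.map_span,
    Set.image_singleton]

include hmax in
theorem algebraMap_injective : Function.Injective (algebraMap R B) := by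
  obtain ⟨π, hπ0, hπ, hirr⟩ := exists_uniformizer R B hmax
  refine (injective_iff_map_eq_zero _).2 fun a ha => ?_
  by_contra h0
  obtain ⟨n, u, rfl⟩ := IsDiscreteValuationRing.eq_unit_mul_pow_irreducible h0
    ((IsDiscreteValuationRing.irreducible_iff_uniformizer π).2 hπ)
  rw [map_mul, map_pow, mul_eq_zero] at ha
  exact ha.elim (Units.map (algebraMap R B).toMonoidHom u).ne_zero (pow_ne_zero n hirr.ne_zero)

variable (K : Type u) [Field K] [Algebra R K] [IsFractionRing R K]

include hmax in
/-- `K ⊗ B` is the fraction field of `B`. -/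
theorem isField_fraction_tensor : IsField (B ⊗[R] K) := by
  obtain ⟨π, hπ0, hπ, hirr⟩ := exists_uniformizer R B hmax
  have hinj := algebraMap_injective R B hmax
  let M := Algebra.algebraMapSubmonoid B (nonZeroDivisors R)
  haveI : IsLocalization M (B ⊗[R] K) := inferInstance
  have hM : M ≤ nonZeroDivisors B := by
    rintro _ ⟨r, hr, rfl⟩
    exact mem_nonZeroDivisors_of_ne_zero
      ((map_ne_zero_iff _ hinj).2 (nonZeroDivisors.ne_zero hr))
  have hinjL : Function.Injective (algebraMap B (B ⊗[R] K)) := IsLocalization.injective _ hM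
  haveI : Nontrivial (B ⊗[R] K) := hinjL.nontrivial
  refine ⟨exists_pair_ne _, mul_comm, fun {z} hz => ?_⟩
  obtain ⟨b, s, rfl⟩ := IsLocalization.exists_mk'_eq M z
  have hb : b ≠ 0 := fun h => hz (by rw [h, IsLocalization.mk'_zero])
  obtain ⟨n, u, rfl⟩ := IsDiscreteValuationRing.eq_unit_mul_pow_irreducible hb hirr
  have hπu : IsUnit (algebraMap B (B ⊗[R] K) (algebraMap R B π)) :=
    IsLocalization.map_units (B ⊗[R] K)
      (⟨algebraMap R B π, π, mem_nonZeroDivisors_of_ne_zero hπ0, rfl⟩ : M)
  have hu : IsUnit (IsLocalization.mk' (B ⊗[R] K) ((u : B) * algebraMap R B π ^ n) s) := by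
    rw [IsLocalization.mk'_eq_mul_mk'_one, map_mul, map_pow]
    refine ((u.isUnit.map _).mul (hπu.pow n)).mul ?_
    refine ⟨⟨IsLocalization.mk' _ 1 s, algebraMap B (B ⊗[R] K) s, ?_, ?_⟩, rfl⟩
    · exact (IsLocalization.mk'_spec _ _ _).trans (map_one _)
    · rw [mul_comm]; exact (IsLocalization.mk'_spec _ _ _).trans (map_one _)
  exact hu.exists_right_inv

variable (F : Type u) [Field F] [Algebra R F] [Algebra K F] [IsScalarTower R K F] [Algebra.IsAlgebraic K F]

include hmax K in
/-- `F ⊗ B` is a field as soon as it is a domain. -/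
theorem isField_tensor_of_isDomain [IsDomain (F ⊗[R] B)] : IsField (F ⊗[R] B) := by
  have hM : IsField (K ⊗[R] B) :=
    (Algebra.TensorProduct.comm R K B).toRingEquiv.toMulEquiv.isField (isField_fraction_tensor R B hmax K)
  letI := hM.toField
  let e : F ⊗[K] (K ⊗[R] B) ≃ₐ[K] F ⊗[R] B :=
    (Algebra.TensorProduct.cancelBaseChange R K K F B)
  let e' : (K ⊗[R] B) ⊗[K] F ≃+* F ⊗[R] B :=
    ((Algebra.TensorProduct.comm K (K ⊗[R] B) F).trans e).toRingEquiv
  haveI : IsDomain ((K ⊗[R] B) ⊗[K] F) := e'.toMulEquiv.isDomain _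
  haveI : Algebra.IsIntegral K F := Algebra.IsAlgebraic.isIntegral
  haveI : Algebra.IsIntegral (K ⊗[R] B) ((K ⊗[R] B) ⊗[K] F) := inferInstance
  exact e'.symm.toMulEquiv.isField (isField_of_isIntegral_of_isField' hM)

end Field

section Loc

variable {R : Type u} [CommRing R] {A B : Type u} [CommRing A] [CommRing B] [Algebra R A] [Algebra R B]
  [Algebra A B] [IsScalarTower R A B] (M : Submonoid A) [IsLocalization M B]
  (F : Type u) [CommRing F] [Algebra R F]

/-- Localizing inside a domain tensor product. -/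
theorem isDomain_tensor_localization [IsDomain (F ⊗[R] A)]
    (h0 : ∀ m ∈ M, Algebra.TensorProduct.includeRight (R := R) (A := F) m ≠ 0) : IsDomain (F ⊗[R] B) := by
  let i : F ⊗[R] A →ₐ[F] F ⊗[R] B :=
    Algebra.TensorProduct.map (AlgHom.id F F) (IsScalarTower.toAlgHom R A B)
  letI : Algebra (F ⊗[R] A) (F ⊗[R] B) := i.toRingHom.toAlgebra
  let M' : Submonoid (F ⊗[R] A) := M.map (Algebra.TensorProduct.includeRight (R := R) (A := F) (B := A))
  have hsurj : ∀ z : F ⊗[R] B, ∃ m ∈ M', ∃ w, z * i m = i w := by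
    intro z
    induction z using TensorProduct.induction_on with
    | zero => exact ⟨1, one_mem _, 0, by simp⟩
    | tmul c b =>
      obtain ⟨⟨a, s⟩, hs⟩ := IsLocalization.surj M b
      refine ⟨_, ⟨s.1, s.2, rfl⟩, c ⊗ₜ a, ?_⟩
      change c ⊗ₜ[R] b * ((1 : F) ⊗ₜ[R] algebraMap A B s.1) = c ⊗ₜ[R] algebraMap A B a
      rw [Algebra.TensorProduct.tmul_mul_tmul, mul_one]
      exact congrArg _ hs
    | add x y hx hy =>
      obtain ⟨m, hm, w, hw⟩ := hx
      obtain ⟨m', hm', w', hw'⟩ := hy
      refine ⟨m * m', mul_mem hm hm', w * m' + w' * m, ?_⟩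
      rw [map_mul, map_add, map_mul, map_mul, ← hw, ← hw']
      ring
  have hunit : ∀ m ∈ M', IsUnit (i m) := by
    rintro _ ⟨a, ha, rfl⟩
    exact (IsLocalization.map_units B (⟨a, ha⟩ : M)).map (Algebra.TensorProduct.includeRight (R := R) (A := F) (B := B))
  have hne : ∀ m ∈ M', m ≠ 0 := by
    rintro _ ⟨a, ha, rfl⟩
    exact h0 a ha
  -- the localization of the domain maps onto the tensor product
  let L := Localization M'
  haveI : IsDomain L := IsLocalization.isDomain_localization
    (fun m hm => mem_nonZeroDivisors_of_ne_zero (hne m hm))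
  let j : L →+* F ⊗[R] B := IsLocalization.lift (M := M') (g := i.toRingHom) (fun m => hunit m.1 m.2)
  have hji : ∀ w, j (algebraMap _ L w) = i w := fun w =>
    IsLocalization.lift_eq (M := M') (g := i.toRingHom) _ w
  -- the inverse
  let l : A →+* L := (algebraMap (F ⊗[R] A) L).comp
    (Algebra.TensorProduct.includeRight (R := R) (A := F) (B := A)).toRingHom
  have hl : ∀ a : M, IsUnit (l a) := fun a =>
    IsLocalization.map_units L (⟨_, a.1, a.2, rfl⟩ : M')
  let lB : B →+* L := IsLocalization.lift hl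
  haveI : IsScalarTower R (F ⊗[R] A) L := inferInstance
  let lB' : B →ₐ[R] L :=
    { lB with
      commutes' := fun r => by
        show lB (algebraMap R B r) = algebraMap R L r
        rw [IsScalarTower.algebraMap_apply R A B, IsLocalization.lift_eq]
        show algebraMap (F ⊗[R] A) L (Algebra.TensorProduct.includeRight (algebraMap R A r)) = _
        rw [AlgHom.commutes, ← IsScalarTower.algebraMap_apply] }
  let k : F ⊗[R] B →ₐ[R] L := Algebra.TensorProduct.lift
    ((IsScalarTower.toAlgHom R (F ⊗[R] A) L).comp (Algebra.TensorProduct.includeLeft)) lB'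
    (fun _ _ => Commute.all _ _)
  have hk : ∀ w, k (i w) = algebraMap _ L w := by
    intro w
    induction w using TensorProduct.induction_on with
    | zero => simp
    | tmul c a =>
      show k (c ⊗ₜ algebraMap A B a) = _
      rw [Algebra.TensorProduct.lift_tmul]
      show algebraMap (F ⊗[R] A) L (c ⊗ₜ 1) * lB (algebraMap A B a) = _
      rw [IsLocalization.lift_eq]
      show _ * algebraMap (F ⊗[R] A) L (1 ⊗ₜ a) = _
      rw [← map_mul, Algebra.TensorProduct.tmul_mul_tmul, mul_one, one_mul]
    | add x y hx hy => rw [map_add, map_add, map_add, hx, hy]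
  have hinj : Function.Injective k := by
    refine (injective_iff_map_eq_zero _).2 fun z hz => ?_
    obtain ⟨m, hm, w, hw⟩ := hsurj z
    have hw0 : algebraMap _ L w = 0 := by rw [← hk, ← hw, map_mul, hz, zero_mul]
    have : z * i m = 0 := by rw [hw, ← hji, hw0, map_zero]
    exact (hunit m hm).mul_left_eq_zero.1 this
  exact hinj.isDomain k.toRingHom

end Loc

section Res

variable (R R' : Type u) [CommRing R] [IsDomain R] [IsDiscreteValuationRing R]
  [CommRing R'] [IsDomain R'] [IsDiscreteValuationRing R'] [Algebra R R'] [IsLocalHom (algebraMap R R')]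
  [IsAlgClosed (IsLocalRing.ResidueField R)] [Algebra.IsAlgebraic R R']

/-- An algebraic local extension has trivial residue extension over an algebraically closed residue field. -/
theorem exists_sub_mem_maximalIdeal (hinj : Function.Injective (algebraMap R R')) (x : R') :
    ∃ r : R, x - algebraMap R R' r ∈ IsLocalRing.maximalIdeal R' := by
  obtain ⟨p, hp0, hpx⟩ := Algebra.IsAlgebraic.isAlgebraic (R := R) x
  obtain ⟨π, hπ⟩ := IsDiscreteValuationRing.exists_irreducible R
  have hprime : Prime (Polynomial.C π) := Polynomial.prime_C_iff.2 hπ.prime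
  obtain ⟨n, q, hq, hpq⟩ := WfDvdMonoid.max_power_factor hp0 hprime.irreducible
  have hqx : Polynomial.aeval x q = 0 := by
    rw [hpq, map_mul, map_pow, Polynomial.aeval_C] at hpx
    exact (mul_eq_zero.1 hpx).resolve_left
      (pow_ne_zero n ((map_ne_zero_iff _ hinj).2 hπ.ne_zero))
  let σ := IsLocalRing.ResidueField.map (algebraMap R R')
  have hq0 : q.map (IsLocalRing.residue R) ≠ 0 := by
    intro h
    refine hq ((Polynomial.C_dvd_iff_dvd_coeff _ _).2 fun i => ?_)
    have hc : (q.map (IsLocalRing.residue R)).coeff i = 0 := by rw [h, Polynomial.coeff_zero]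
    rw [Polynomial.coeff_map, IsLocalRing.residue_eq_zero_iff, hπ.maximalIdeal_eq,
      Ideal.mem_span_singleton] at hc
    exact hc
  letI := σ.toAlgebra
  set y := IsLocalRing.residue R' x with hy
  have hy0 : Polynomial.aeval y (q.map (IsLocalRing.residue R)) = 0 := by
    rw [Polynomial.aeval_def, Polynomial.eval₂_map, hy]
    have h2 : (algebraMap (IsLocalRing.ResidueField R) (IsLocalRing.ResidueField R')).comp (IsLocalRing.residue R) =
        (IsLocalRing.residue R').comp (algebraMap R R') :=
      RingHom.ext fun r => IsLocalRing.ResidueField.map_residue (algebraMap R R') r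
    rw [h2, ← Polynomial.hom_eval₂, ← Polynomial.aeval_def, hqx, map_zero]
  have halg : IsAlgebraic (IsLocalRing.ResidueField R) y := ⟨_, hq0, hy0⟩
  obtain ⟨c, hc⟩ := minpoly.mem_range_of_degree_eq_one (IsLocalRing.ResidueField R) y
    (IsAlgClosed.degree_eq_one_of_irreducible _ (minpoly.irreducible halg.isIntegral))
  obtain ⟨r, rfl⟩ := IsLocalRing.residue_surjective c
  refine ⟨r, ?_⟩
  rw [← IsLocalRing.residue_eq_zero_iff, map_sub, sub_eq_zero]
  exact hc.symm.trans (IsLocalRing.ResidueField.map_residue (algebraMap R R') r)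

end Res

/-- Finiteness of the generic fibre makes an extension of a DVR algebraic. -/
theorem isAlgebraic_of_finite_tensor (R R' : Type u) [CommRing R] [IsDomain R] [CommRing R'] [Algebra R R']
    [Module.Flat R R'] (K : Type u) [Field K] [Algebra R K] [IsFractionRing R K]
    [Module.Finite K (K ⊗[R] R')] : Algebra.IsAlgebraic R R' := by
  refine ⟨fun x => ?_⟩
  have hinj : Function.Injective (Algebra.TensorProduct.includeRight (R := R) (A := K) (B := R')) :=
    Algebra.TensorProduct.includeRight_injective (IsFractionRing.injective R K)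
  have h1 : IsAlgebraic K (Algebra.TensorProduct.includeRight (R := R) (A := K) x) :=
    (Algebra.IsIntegral.isIntegral _).isAlgebraic
  exact (isAlgebraic_algHom_iff _ hinj).1 ((IsFractionRing.isAlgebraic_iff R K (K ⊗[R] R')).2 h1)

section Dvr

variable (R : Type u) [CommRing R] [IsDomain R] [IsDiscreteValuationRing R]
  [IsAlgClosed (IsLocalRing.ResidueField R)]
  (B : Type u) [CommRing B] [IsDomain B] [IsDiscreteValuationRing B] [Algebra R B]
  (hmax : IsLocalRing.maximalIdeal B = Ideal.map (algebraMap R B) (IsLocalRing.maximalIdeal R))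
  (F : Type u) [Field F] [IsAlgClosed F] [Algebra R F] (hRF : Function.Injective (algebraMap R F))
  (R' : Type u) [CommRing R'] [IsDomain R'] [IsDiscreteValuationRing R'] [Algebra R R']
  (hinj : Function.Injective (algebraMap R R')) [IsLocalHom (algebraMap R R')]
  [Algebra.IsAlgebraic R R']

include hRF hinj hmax in
theorem isDomain_tensor [IsDomain (F ⊗[R] B)] : IsDomain (B ⊗[R] R') := by
  haveI : Module.IsTorsionFree R R' := Module.isTorsionFree_iff_algebraMap_injective.2 hinj
  haveI : Module.IsTorsionFree R F := Module.isTorsionFree_iff_algebraMap_injective.2 hRF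
  haveI : Module.IsTorsionFree R B :=
    Module.isTorsionFree_iff_algebraMap_injective.2 (algebraMap_injective R B hmax)
  haveI : Module.Flat R B := Module.Flat.flat_iff_torsion_eq_bot_of_isBezout.2
    (Submodule.isTorsionFree_iff_torsion_eq_bot.1 inferInstance)
  let σ : R' →ₐ[R] F := IsAlgClosed.lift (R := R) (S := R') (M := F)
  have hσ : Function.Injective σ := by
    refine (injective_iff_map_eq_zero _).2 fun x hx => ?_
    by_contra h0
    obtain ⟨r, hr0, hr⟩ := Submodule.exists_mem_ne_zero_of_ne_bot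
      (Ideal.comap_ne_bot_of_algebraic_mem (I := RingHom.ker σ.toRingHom) h0 hx
        (Algebra.IsAlgebraic.isAlgebraic (R := R) x))
    have h2 : σ (algebraMap R R' r) = 0 := hr0
    rw [AlgHom.commutes] at h2
    exact hr ((map_eq_zero_iff _ hRF).1 h2)
  let j := ((Algebra.TensorProduct.comm R B F).toAlgHom).comp (Algebra.TensorProduct.map (AlgHom.id R B) σ)
  have hj : Function.Injective j :=
    (Algebra.TensorProduct.comm R B F).injective.comp
      (Module.Flat.lTensor_preserves_injective_linearMap σ.toLinearMap hσ)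
  exact hj.isDomain j.toRingHom

include hinj hmax in
theorem isDiscreteValuationRing_tensor [IsDomain (B ⊗[R] R')] :
    IsDiscreteValuationRing (B ⊗[R] R') := by
  obtain ⟨π, hπ0, hπ, hirr⟩ := exists_uniformizer R B hmax
  obtain ⟨p, hp⟩ := IsDiscreteValuationRing.exists_irreducible R'
  have hRB := algebraMap_injective R B hmax
  haveI : Module.IsTorsionFree R R' := Module.isTorsionFree_iff_algebraMap_injective.2 hinj
  haveI : Module.Flat R R' := Module.Flat.flat_iff_torsion_eq_bot_of_isBezout.2
    (Submodule.isTorsionFree_iff_torsion_eq_bot.1 inferInstance)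
  let i₂ : R' →ₐ[R] B ⊗[R] R' := Algebra.TensorProduct.includeRight
  have hi₂ : Function.Injective i₂ := Algebra.TensorProduct.includeRight_injective hRB
  set t : B ⊗[R] R' := i₂ p with ht
  have ht0 : t ≠ 0 := (map_ne_zero_iff _ hi₂).2 hp.ne_zero
  -- the residue map
  have hres : ∀ x : R', ∃ r : R, x - algebraMap R R' r ∈ IsLocalRing.maximalIdeal R' :=
    exists_sub_mem_maximalIdeal R R' hinj
  have hπR' : algebraMap R R' π ∈ IsLocalRing.maximalIdeal R' := by
    refine map_nonunit (algebraMap R R') π ?_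
    rw [hπ]; exact Ideal.mem_span_singleton_self π
  have hπt : algebraMap R (B ⊗[R] R') π ∈ Ideal.span {t} := by
    rw [hp.maximalIdeal_eq, Ideal.mem_span_singleton] at hπR'
    rw [Ideal.mem_span_singleton, ← i₂.commutes π]
    exact map_dvd i₂ hπR'
  let σ : IsLocalRing.ResidueField R →+* IsLocalRing.ResidueField R' :=
    IsLocalRing.ResidueField.map (algebraMap R R')
  have hσ : Function.Bijective σ := by
    refine ⟨σ.injective, fun y => ?_⟩
    obtain ⟨x, rfl⟩ := IsLocalRing.residue_surjective y
    obtain ⟨r, hr⟩ := hres x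
    refine ⟨IsLocalRing.residue R r, (IsLocalRing.ResidueField.map_residue _ r).trans ?_⟩
    rw [eq_comm, ← sub_eq_zero, ← map_sub, IsLocalRing.residue_eq_zero_iff]
    exact hr
  haveI : IsLocalHom (algebraMap R B) := by
    refine ((IsLocalRing.local_hom_TFAE _).out 3 0).1 ?_
    exact Ideal.map_le_iff_le_comap.1 hmax.ge
  let rB : B →ₐ[R] IsLocalRing.ResidueField B := IsScalarTower.toAlgHom R B _
  let r' : R' →+* IsLocalRing.ResidueField B := (IsLocalRing.ResidueField.map (algebraMap R B)).comp
    ((RingEquiv.ofBijective σ hσ).symm.toRingHom.comp (IsLocalRing.residue R'))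
  let rR : R' →ₐ[R] IsLocalRing.ResidueField B :=
    { r' with
      commutes' := fun r => by
        show IsLocalRing.ResidueField.map (algebraMap R B)
          ((RingEquiv.ofBijective σ hσ).symm (IsLocalRing.residue R' (algebraMap R R' r))) = _
        rw [show IsLocalRing.residue R' (algebraMap R R' r) =
            (RingEquiv.ofBijective σ hσ) (IsLocalRing.residue R r) from
          (IsLocalRing.ResidueField.map_residue _ r).symm, RingEquiv.symm_apply_apply,
          IsLocalRing.ResidueField.map_residue]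
        exact (IsScalarTower.algebraMap_apply R B _ r).symm }
  have hnu : ¬ IsUnit t := fun h => by
    have h0 : Algebra.TensorProduct.lift rB rR (fun _ _ => Commute.all _ _) t = 0 := by
      rw [ht]
      show Algebra.TensorProduct.lift rB rR _ ((1 : B) ⊗ₜ[R] p) = 0
      rw [Algebra.TensorProduct.lift_tmul, map_one, one_mul]
      show IsLocalRing.ResidueField.map (algebraMap R B)
        ((RingEquiv.ofBijective σ hσ).symm (IsLocalRing.residue R' p)) = 0
      rw [(IsLocalRing.residue_eq_zero_iff p).2
        (by rw [hp.maximalIdeal_eq]; exact Ideal.mem_span_singleton_self p), map_zero, map_zero]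
    exact (h.map (Algebra.TensorProduct.lift rB rR fun _ _ => Commute.all _ _)).ne_zero h0
  -- modulo `t`, everything comes from `B`
  have hb : ∀ c : B ⊗[R] R', ∃ b : B, c - b ⊗ₜ 1 ∈ Ideal.span {t} := by
    intro c
    induction c using TensorProduct.induction_on with
    | zero => exact ⟨0, by simp⟩
    | tmul b x =>
      obtain ⟨r, hr⟩ := hres x
      rw [hp.maximalIdeal_eq, Ideal.mem_span_singleton'] at hr
      obtain ⟨w, hw⟩ := hr
      refine ⟨r • b, ?_⟩
      rw [Ideal.mem_span_singleton']
      refine ⟨b ⊗ₜ w, ?_⟩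
      show b ⊗ₜ[R] w * ((1 : B) ⊗ₜ[R] p) = _
      rw [Algebra.TensorProduct.tmul_mul_tmul, mul_one, hw, TensorProduct.tmul_sub,
        Algebra.algebraMap_eq_smul_one, TensorProduct.tmul_smul, TensorProduct.smul_tmul']
    | add c d hc hd =>
      obtain ⟨b, hb⟩ := hc
      obtain ⟨b', hb'⟩ := hd
      refine ⟨b + b', ?_⟩
      rw [TensorProduct.add_tmul, show c + d - (b ⊗ₜ[R] (1:R') + b' ⊗ₜ[R] (1:R')) =
        (c - b ⊗ₜ[R] (1:R')) + (d - b' ⊗ₜ[R] (1:R')) by ring]
      exact add_mem hb hb'
  have hmaxT : (Ideal.span {t}).IsMaximal := by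
    rw [Ideal.isMaximal_iff]
    refine ⟨fun h => hnu (by rwa [Ideal.mem_span_singleton, ← isUnit_iff_dvd_one] at h), ?_⟩
    intro J c hJ hc hcJ
    obtain ⟨b, hb⟩ := hb c
    have hbu : IsUnit b := by
      by_contra h
      refine hc ((sub_add_cancel c (b ⊗ₜ[R] (1:R'))) ▸ add_mem hb ?_)
      have hbm : b ∈ IsLocalRing.maximalIdeal B := h
      rw [hmax, hπ, Ideal.map_span, Set.image_singleton, Ideal.mem_span_singleton'] at hbm
      obtain ⟨b', rfl⟩ := hbm
      rw [← mul_one (1 : R'), ← Algebra.TensorProduct.tmul_mul_tmul,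
        show (algebraMap R B π) ⊗ₜ[R] (1 : R') = algebraMap R (B ⊗[R] R') π from
          (Algebra.TensorProduct.algebraMap_apply π).symm]
      exact Ideal.mul_mem_left _ _ hπt
    have : J = ⊤ := Ideal.eq_top_of_isUnit_mem _ (x := b ⊗ₜ[R] (1:R'))
      (by simpa using sub_mem hcJ (hJ hb))
      (hbu.map (Algebra.TensorProduct.includeLeft (R := R) (S := R) (A := B) (B := R')))
    rw [this]; trivial
  -- every nonzero prime is `(t)`
  have halg : ∀ c : B ⊗[R] R', IsAlgebraic B c := by
    intro c
    induction c using TensorProduct.induction_on with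
    | zero => exact isAlgebraic_zero
    | tmul b x =>
      obtain ⟨f, hf0, hfx⟩ := Algebra.IsAlgebraic.isAlgebraic (R := R) x
      have h1 : IsAlgebraic B ((1 : B) ⊗ₜ[R] x) := by
        refine ⟨f.map (algebraMap R B), (Polynomial.map_ne_zero_iff hRB).2 hf0, ?_⟩
        rw [Polynomial.aeval_map_algebraMap]
        show Polynomial.aeval (i₂ x) f = 0
        rw [Polynomial.aeval_algHom_apply, hfx, map_zero]
      have h2 := (isAlgebraic_algebraMap (R := B) (A := B ⊗[R] R') b).mul h1
      rwa [Algebra.TensorProduct.algebraMap_apply, Algebra.TensorProduct.tmul_mul_tmul,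
        one_mul, Algebra.algebraMap_self, RingHom.id_apply, mul_one] at h2
    | add c d hc hd => exact hc.add hd
  have hprimes : ∀ Q : Ideal (B ⊗[R] R'), Q.IsPrime → Q ≠ ⊥ → Q = Ideal.span {t} := by
    intro Q hQ hQ0
    obtain ⟨c, hc, hc0⟩ := Submodule.exists_mem_ne_zero_of_ne_bot hQ0
    obtain ⟨b, hb, hb0⟩ := Submodule.exists_mem_ne_zero_of_ne_bot
      (Ideal.comap_ne_bot_of_algebraic_mem hc0 hc (halg c))
    obtain ⟨n, u, rfl⟩ := IsDiscreteValuationRing.eq_unit_mul_pow_irreducible hb0 hirr
    have hπQ : algebraMap R (B ⊗[R] R') π ∈ Q := by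
      rw [IsScalarTower.algebraMap_apply R B (B ⊗[R] R')]
      have h := (Ideal.unit_mul_mem_iff_mem _ (u.isUnit.map (algebraMap B (B ⊗[R] R')))).1
        (by rw [← map_mul]; exact hb)
      rw [map_pow] at h
      exact hQ.mem_of_pow_mem n h
    obtain ⟨m, v, hv⟩ := IsDiscreteValuationRing.eq_unit_mul_pow_irreducible
      ((map_ne_zero_iff _ hinj).2 hπ0) hp
    rw [← i₂.commutes π, hv, map_mul, map_pow, Ideal.unit_mul_mem_iff_mem _ (v.isUnit.map i₂)] at hπQ
    have htQ : t ∈ Q := hQ.mem_of_pow_mem m hπQ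
    exact (hmaxT.eq_of_le hQ.ne_top ((Ideal.span_singleton_le_iff_mem Q).2 htQ)).symm
  haveI : IsPrincipalIdealRing (B ⊗[R] R') := IsPrincipalIdealRing.of_prime fun Q hQ => by
    by_cases h : Q = ⊥
    · exact ⟨⟨0, by rw [h]; simp⟩⟩
    · exact ⟨⟨t, by rw [hprimes Q hQ h]⟩⟩
  have hne : Ideal.span {t} ≠ (⊥ : Ideal (B ⊗[R] R')) := by
    rwa [Ne, Ideal.span_singleton_eq_bot]
  have hnf : ¬ IsField (B ⊗[R] R') := fun hf => by
    letI := hf.toField
    exact hnu (isUnit_iff_ne_zero.2 ht0)
  haveI : IsLocalRing (B ⊗[R] R') := IsLocalRing.of_unique_max_ideal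
    ⟨Ideal.span {t}, hmaxT, fun M hM =>
      hprimes M hM.isPrime (Ring.ne_bot_of_isMaximal_of_not_isField hM hnf)⟩
  exact { not_a_field' := fun h => hne ((IsLocalRing.eq_maximalIdeal hmaxT).trans h) }

end Dvr

end Groth.Agent.MdlA1.DvrAlg
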