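import Groth.Agent.MdlA1.DvrAlg
import Groth.Agent.GeomField.GlobalFunctions
import Groth.Agent.GrpSchLib.IsogenyFibre
import Groth.Agent.H23.GeomConnGamma
import Groth.Agent.CurveCohLib.SmoothCurve
import Groth.Prelude.Def_Coh

/-!
# Generic points of the reduced special fibre of a proper flat family over a DVR
-/

universe u

set_option autoImplicit false
set_option linter.style.haveILetI false

open CategoryTheory CategoryTheory.Limits AlgebraicGeometry Opposite
open scoped TensorProduct

namespace Groth.Agent.MdlA1.DvrComp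

/-- `R → Γ(X, U)`. -/
noncomputable def secMap {R : Type u} [CommRing R] {X : Scheme.{u}} (f : X ⟶ Spec (CommRingCat.of R))
    (U : X.Opens) : CommRingCat.of R ⟶ Γ(X, U) :=
  (Scheme.ΓSpecIso (CommRingCat.of R)).inv ≫ f.appLE ⊤ U (fun _ _ => trivial)

theorem secMap_map {R : Type u} [CommRing R] {X : Scheme.{u}} (f : X ⟶ Spec (CommRingCat.of R))
    {U V : X.Opens} (h : V ≤ U) : secMap f U ≫ X.presheaf.map (homOfLE h).op = secMap f V := by
  rw [secMap, Category.assoc, Scheme.Hom.appLE_map]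
  rfl

theorem secMap_germ {R : Type u} [CommRing R] {X : Scheme.{u}} (f : X ⟶ Spec (CommRingCat.of R))
    (U : X.Opens) (x : X) (hx : x ∈ U) :
    (X.presheaf.germ U x hx).hom.comp (secMap f U).hom =
      (X.presheaf.germ ⊤ x trivial).hom.comp (Coh.toGlobal f) := by
  rw [← secMap_map f (le_top : U ≤ ⊤), ← CommRingCat.hom_comp, Category.assoc]
  erw [X.presheaf.germ_res]
  rw [secMap, Scheme.Hom.appLE, CommRingCat.hom_comp]
  simp [Coh.toGlobal, RingHom.comp_assoc]

theorem secMap_flat {R : Type u} [CommRing R] {X : Scheme.{u}} (f : X ⟶ Spec (CommRingCat.of R)) [Flat f]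
    {U : X.Opens} (hU : IsAffineOpen U) : (secMap f U).hom.Flat := by
  rw [secMap, CommRingCat.hom_comp]
  refine RingHom.Flat.comp ?_ (f.flat_appLE (isAffineOpen_top _) hU _)
  exact RingHom.Flat.of_bijective (Scheme.ΓSpecIso (CommRingCat.of R)).symm.commRingCatIsoToRingEquiv.bijective

section BaseChange

variable {R S : Type u} [CommRing R] [CommRing S] {φ : R →+* S} {X Y : Scheme.{u}}
  {f : X ⟶ Spec (CommRingCat.of R)} {g : Y ⟶ X} {q : Y ⟶ Spec (CommRingCat.of S)}

theorem isPushout_aux (H : IsPullback g q f (Spec.map (CommRingCat.ofHom φ))) (U : X.Opens)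
    (h : IsIso (pushoutSection H (US := ⊤) (UT := ⊤) (UX := U) (UY := g ⁻¹ᵁ U)
      le_top (fun _ _ => trivial) (by simp))) :
    IsPushout (secMap f U) (CommRingCat.ofHom φ) (g.app U) (secMap q (g ⁻¹ᵁ U)) := by
  rw [isIso_pushoutSection_iff] at h
  refine h.of_iso (Scheme.ΓSpecIso (CommRingCat.of R)) (Iso.refl _) (Scheme.ΓSpecIso (CommRingCat.of S))
    (Iso.refl _) ?_ ?_ ?_ ?_
  · simp [secMap]
  · rw [show (Spec.map (CommRingCat.ofHom φ)).appLE ⊤ ⊤ le_top = (Spec.map (CommRingCat.ofHom φ)).appTop by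
      simp [Scheme.Hom.appLE]]
    exact Scheme.ΓSpecIso_naturality (CommRingCat.ofHom φ)
  · simp [Scheme.Hom.app_eq_appLE]
  · simp [secMap]

theorem isPushout_of_affine (H : IsPullback g q f (Spec.map (CommRingCat.ofHom φ))) {U : X.Opens}
    (hU : IsAffineOpen U) :
    IsPushout (secMap f U) (CommRingCat.ofHom φ) (g.app U) (secMap q (g ⁻¹ᵁ U)) :=
  isPushout_aux H U (isIso_pushoutSection_of_isAffineOpen H _ _ _ (isAffineOpen_top _) (isAffineOpen_top _) hU)

theorem isPushout_top_of_flat (H : IsPullback g q f (Spec.map (CommRingCat.ofHom φ))) (hφ : φ.Flat)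
    [CompactSpace X] [QuasiSeparatedSpace X] :
    IsPushout (secMap f ⊤) (CommRingCat.ofHom φ) (g.app ⊤) (secMap q (g ⁻¹ᵁ ⊤)) := by
  haveI : Flat (Spec.map (CommRingCat.ofHom φ)) := Flat.SpecMap_iff.2 hφ
  exact isPushout_aux H ⊤ (isIso_pushoutSection_of_isQuasiSeparated_of_flat_right H _ _ _
    (isAffineOpen_top _) (isAffineOpen_top _) isCompact_univ isQuasiSeparated_univ)

/-- Kernel of a pushout of a surjection. -/
theorem ker_inl_le {A P : CommRingCat.{u}} {ψ : CommRingCat.of R ⟶ A} {a : A ⟶ P} {b : CommRingCat.of S ⟶ P}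
    (h : IsPushout ψ (CommRingCat.ofHom φ) a b) (hφ : Function.Surjective φ) :
    RingHom.ker a.hom ≤ (RingHom.ker φ).map ψ.hom := by
  intro x hx
  let J := (RingHom.ker φ).map ψ.hom
  let l : S →+* A ⧸ J := φ.liftOfSurjective hφ
    ⟨(Ideal.Quotient.mk J).comp ψ.hom, fun r hr => RingHom.mem_ker.2
      (Ideal.Quotient.eq_zero_iff_mem.2 (Ideal.mem_map_of_mem _ hr))⟩
  have hl : l.comp φ = (Ideal.Quotient.mk J).comp ψ.hom := φ.liftOfRightInverse_comp _ _ _
  have hw : ψ ≫ CommRingCat.ofHom (Ideal.Quotient.mk J) = CommRingCat.ofHom φ ≫ CommRingCat.ofHom l :=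
    CommRingCat.hom_ext hl.symm
  have h2 : Ideal.Quotient.mk J x = 0 := by
    have h3 : (h.desc _ _ hw).hom (a.hom x) = Ideal.Quotient.mk J x :=
      ConcreteCategory.congr_hom (h.inl_desc _ _ hw) x
    rw [RingHom.mem_ker.1 hx, map_zero] at h3
    exact h3.symm
  exact Ideal.Quotient.eq_zero_iff_mem.1 h2

/-- Injectivity of a pushout of an injection along a flat map. -/
theorem inl_injective {A P : CommRingCat.{u}} {ψ : CommRingCat.of R ⟶ A} {a : A ⟶ P} {b : CommRingCat.of S ⟶ P}
    (h : IsPushout ψ (CommRingCat.ofHom φ) a b) (hφ : Function.Injective φ) (hψ : ψ.hom.Flat) :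
    Function.Injective a.hom := by
  letI := φ.toAlgebra
  letI := ψ.hom.toAlgebra
  haveI : Module.Flat R A := hψ
  have h' : IsPushout ψ (CommRingCat.ofHom φ)
      (CommRingCat.ofHom (Algebra.TensorProduct.includeLeftRingHom (R := R) (A := A) (B := S)))
      (CommRingCat.ofHom (Algebra.TensorProduct.includeRight (R := R) (A := A) (B := S)).toRingHom) :=
    CommRingCat.isPushout_tensorProduct R A S
  let e := h'.isoIsPushout _ _ h
  have he : CommRingCat.ofHom (Algebra.TensorProduct.includeLeftRingHom (R := R) (A := A) (B := S)) ≫ e.hom = a :=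
    IsPushout.inl_isoIsPushout_hom _ _ _ _
  rw [← he, CommRingCat.hom_comp]
  exact e.commRingCatIsoToRingEquiv.injective.comp
    (Algebra.TensorProduct.includeLeft_injective (S := R) (A := A) hφ)

end BaseChange

section Main

variable {R : Type u} [CommRing R] [IsDomain R] [IsDiscreteValuationRing R]
  {X : Scheme.{u}} {f : X ⟶ Spec (CommRingCat.of R)}
  {Xs : Scheme.{u}} {gs : Xs ⟶ X} {fs : Xs ⟶ Spec (CommRingCat.of (IsLocalRing.ResidueField R))}

theorem isRadical_map (hs : IsPullback gs fs f (Spec.map (CommRingCat.ofHom (IsLocalRing.residue R))))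
    [IsReduced Xs] {U : X.Opens} (hU : IsAffineOpen U) :
    RingHom.ker (gs.app U).hom = (IsLocalRing.maximalIdeal R).map (secMap f U).hom ∧
      ((IsLocalRing.maximalIdeal R).map (secMap f U).hom).IsRadical := by
  have h := isPushout_of_affine hs hU
  have hk : RingHom.ker (gs.app U).hom = (IsLocalRing.maximalIdeal R).map (secMap f U).hom := by
    refine le_antisymm ?_ (Ideal.map_le_iff_le_comap.2 fun r hr => ?_)
    · have := ker_inl_le h IsLocalRing.residue_surjective
      rwa [IsLocalRing.ker_residue] at this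
    · show (secMap f U ≫ gs.app U) r = 0
      rw [h.w, CommRingCat.comp_apply]
      show secMap fs _ (IsLocalRing.residue R r) = 0
      rw [(IsLocalRing.residue_eq_zero_iff r).2 hr, map_zero]
  refine ⟨hk, hk ▸ ?_⟩
  rintro a ⟨n, hn⟩
  rw [RingHom.mem_ker, map_pow] at hn
  exact RingHom.mem_ker.2 (IsReduced.eq_zero _ ⟨n, hn⟩)

theorem isClosedImmersion_gs (hs : IsPullback gs fs f (Spec.map (CommRingCat.ofHom (IsLocalRing.residue R)))) :
    IsClosedImmersion gs := by
  haveI : IsClosedImmersion (Spec.map (CommRingCat.ofHom (IsLocalRing.residue R))) :=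
    IsClosedImmersion.spec_of_surjective _ IsLocalRing.residue_surjective
  exact MorphismProperty.of_isPullback (P := @IsClosedImmersion) hs.flip inferInstance

/-- The prime of a generization of the image of a component generic point is that point. -/
theorem minimal_prime (hs : IsPullback gs fs f (Spec.map (CommRingCat.ofHom (IsLocalRing.residue R))))
    {U : X.Opens} (hU : IsAffineOpen U) (ξ : Xs) (hξ : closure ({ξ} : Set Xs) ∈ irreducibleComponents Xs)
    (hx : gs.base ξ ∈ U) :
    RingHom.ker (gs.app U).hom ≤ (hU.primeIdealOf ⟨gs.base ξ, hx⟩).asIdeal ∧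
    ∀ Q : Ideal Γ(X, U), Q.IsPrime → RingHom.ker (gs.app U).hom ≤ Q →
      Q ≤ (hU.primeIdealOf ⟨gs.base ξ, hx⟩).asIdeal → Q = (hU.primeIdealOf ⟨gs.base ξ, hx⟩).asIdeal := by
  haveI := isClosedImmersion_gs hs
  have hV : IsAffineOpen (gs ⁻¹ᵁ U) := hU.preimage gs
  have hcomm : Spec.map (gs.app U) ≫ hU.fromSpec = hV.fromSpec ≫ gs := by
    rw [Scheme.Hom.app_eq_appLE]
    exact hU.SpecMap_appLE_fromSpec gs hV le_rfl
  have hpt : ∀ p : PrimeSpectrum Γ(Xs, gs ⁻¹ᵁ U),
      hU.fromSpec (PrimeSpectrum.comap (gs.app U).hom p) = gs (hV.fromSpec p) := fun p =>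
    congr($hcomm p)
  have hξp : hU.primeIdealOf ⟨gs.base ξ, hx⟩ =
      PrimeSpectrum.comap (gs.app U).hom (hV.primeIdealOf ⟨ξ, hx⟩) := by
    refine hU.fromSpec.isOpenEmbedding.injective ?_
    rw [hU.fromSpec_primeIdealOf]
    exact ((hpt _).trans (by rw [hV.fromSpec_primeIdealOf])).symm
  refine ⟨fun a ha => ?_, fun Q hQ hJQ hQP => ?_⟩
  · rw [hξp]
    show (gs.app U).hom a ∈ (hV.primeIdealOf ⟨ξ, hx⟩).asIdeal
    rw [RingHom.mem_ker.1 ha]
    exact zero_mem _
  · have hsurj : Function.Surjective (gs.app U).hom := gs.app_surjective U hU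
    obtain ⟨p, hp⟩ : ∃ p : PrimeSpectrum Γ(Xs, gs ⁻¹ᵁ U), PrimeSpectrum.comap (gs.app U).hom p = ⟨Q, hQ⟩ := by
      have := range_comap_of_surjective _ (gs.app U).hom hsurj
      exact this.ge (show (⟨Q, hQ⟩ : PrimeSpectrum Γ(X, U)) ∈ _ from hJQ)
    have hsp : hV.fromSpec p ⤳ ξ := by
      rw [← gs.isClosedEmbedding.isInducing.specializes_iff, ← hpt, hp]
      have h1 : (⟨Q, hQ⟩ : PrimeSpectrum Γ(X, U)) ⤳ hU.primeIdealOf ⟨gs.base ξ, hx⟩ :=
        (PrimeSpectrum.le_iff_specializes _ _).1 hQP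
      have h2 := h1.map hU.fromSpec.continuous
      rw [hU.fromSpec_primeIdealOf] at h2
      exact h2
    have heq : hV.fromSpec p = ξ := by
      have h1 : closure ({ξ} : Set Xs) ⊆ closure {hV.fromSpec p} := specializes_iff_closure_subset.1 hsp
      have h2 : closure ({hV.fromSpec p} : Set Xs) = closure {ξ} :=
        le_antisymm (hξ.2 isIrreducible_singleton.closure h1) h1
      exact ((inseparable_iff_closure_eq.2 h2).eq)
    have h3 : hU.fromSpec ⟨Q, hQ⟩ = gs.base ξ := by rw [← hp, hpt, heq]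
    have h4 : (⟨Q, hQ⟩ : PrimeSpectrum Γ(X, U)) = hU.primeIdealOf ⟨gs.base ξ, hx⟩ := by
      refine hU.fromSpec.isOpenEmbedding.injective ?_
      rw [hU.fromSpec_primeIdealOf]
      exact h3
    exact congrArg PrimeSpectrum.asIdeal h4

/-- A uniformizer of `R` is a uniformizer of the stalk at a component generic point. -/
theorem maximalIdeal_eq_map (hs : IsPullback gs fs f (Spec.map (CommRingCat.ofHom (IsLocalRing.residue R))))
    [IsReduced Xs] (ξ : Xs) (hξ : closure ({ξ} : Set Xs) ∈ irreducibleComponents Xs)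
    (B : Type u) [CommRing B] [IsLocalRing B] [Algebra R B]
    (e : X.presheaf.stalk (gs.base ξ) ≅ CommRingCat.of B)
    (he : e.hom.hom.comp ((X.presheaf.germ ⊤ (gs.base ξ) trivial).hom.comp (Coh.toGlobal f)) =
      algebraMap R B) :
    IsLocalRing.maximalIdeal B = Ideal.map (algebraMap R B) (IsLocalRing.maximalIdeal R) := by
  obtain ⟨_, ⟨U, hU, rfl⟩, hxU, -⟩ := X.isBasis_affineOpens.exists_subset_of_mem_open
    (Set.mem_univ (gs.base ξ)) isOpen_univ
  replace hU : IsAffineOpen U := hU
  obtain ⟨hk, hrad⟩ := isRadical_map hs hU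
  obtain ⟨hle, hmin⟩ := minimal_prime hs hU ξ hξ hxU
  letI := TopCat.Presheaf.algebra_section_stalk X.presheaf ⟨gs.base ξ, hxU⟩
  haveI := hU.isLocalization_stalk ⟨gs.base ξ, hxU⟩
  rw [hk] at hle hmin
  have h1 : ((IsLocalRing.maximalIdeal R).map (secMap f U).hom).map (X.presheaf.germ U (gs.base ξ) hxU).hom =
      IsLocalRing.maximalIdeal (X.presheaf.stalk (gs.base ξ)) :=
    DvrAlg.map_eq_maximalIdeal (S := X.presheaf.stalk (gs.base ξ))
      (hU.primeIdealOf ⟨gs.base ξ, hxU⟩).asIdeal _ hrad hle hmin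
  rw [Ideal.map_map, secMap_germ] at h1
  rw [← he, ← Ideal.map_map, h1]
  show _ = (IsLocalRing.maximalIdeal _).map e.commRingCatIsoToRingEquiv
  exact (IsLocalRing.eq_maximalIdeal
    (Ideal.map_isMaximal_of_equiv e.commRingCatIsoToRingEquiv)).symm

variable (f) in
/-- Torsion freeness of sections. -/
theorem eq_zero_of_mul_eq_zero [Flat f] {r : R} (hr : r ≠ 0) {U : X.Opens} (a : Γ(X, U))
    (ha : secMap f U r * a = 0) : a = 0 := by
  refine X.IsSheaf.section_ext fun x hx => ?_
  obtain ⟨_, ⟨V, hV, rfl⟩, hxV, hVU⟩ := X.isBasis_affineOpens.exists_subset_of_mem_open hx U.isOpen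
  refine ⟨V, hVU, hxV, ?_⟩
  rw [map_zero]
  letI := (secMap f V).hom.toAlgebra
  haveI : Module.Flat R Γ(X, V) := secMap_flat f hV
  refine Module.Flat.isSMulRegular_of_nonZeroDivisors (M := Γ(X, V)) (mem_nonZeroDivisors_of_ne_zero hr) ?_
  show r • _ = r • (0 : Γ(X, V))
  rw [smul_zero, Algebra.smul_def]
  show secMap f V r * X.presheaf.map (homOfLE hVU).op a = 0
  rw [← secMap_map f (show V ≤ U from hVU), CommRingCat.comp_apply]
  refine (map_mul (X.presheaf.map _).hom _ _).symm.trans ?_
  rw [ha, map_zero]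

/-- Sections vanishing on the special fibre are divisible by the uniformizer. -/
theorem exists_eq_mul [Flat f] (hs : IsPullback gs fs f (Spec.map (CommRingCat.ofHom (IsLocalRing.residue R))))
    [IsReduced Xs] {π : R} (hπ : IsLocalRing.maximalIdeal R = Ideal.span {π}) (hπ0 : π ≠ 0)
    (a : Γ(X, ⊤)) (ha : gs.app ⊤ a = 0) : ∃ b : Γ(X, ⊤), secMap f ⊤ π * b = a := by
  have hloc : ∀ V : X.affineOpens, ∃ b : Γ(X, V.1), secMap f V.1 π * b = X.presheaf.map (homOfLE le_top).op a := by
    intro V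
    have hmem : X.presheaf.map (homOfLE (le_top : V.1 ≤ ⊤)).op a ∈ RingHom.ker (gs.app V.1).hom := by
      rw [RingHom.mem_ker]
      have := ConcreteCategory.congr_hom (gs.naturality (homOfLE (le_top : V.1 ≤ ⊤)).op) a
      simp only [CommRingCat.comp_apply] at this
      rw [ha, map_zero] at this
      exact this
    rw [(isRadical_map hs V.2).1, hπ, Ideal.map_span, Set.image_singleton, Ideal.mem_span_singleton'] at hmem
    obtain ⟨b, hb⟩ := hmem
    exact ⟨b, (mul_comm _ _).trans hb⟩
  choose b hb using hloc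
  have hcov : (⊤ : X.Opens) ≤ iSup fun V : X.affineOpens => V.1 := fun x _ => by
    obtain ⟨_, ⟨V, hV, rfl⟩, hxV, -⟩ := X.isBasis_affineOpens.exists_subset_of_mem_open (Set.mem_univ x) isOpen_univ
    exact TopologicalSpace.Opens.mem_iSup.2 ⟨⟨V, hV⟩, hxV⟩
  have hcompat : TopCat.Presheaf.IsCompatible X.sheaf.1 (fun V : X.affineOpens => V.1) b := by
    intro V W
    have h : ∀ (V : X.affineOpens) (O : X.Opens) (hO : O ≤ V.1),
        secMap f O π * X.presheaf.map (homOfLE hO).op (b V) = X.presheaf.map (homOfLE le_top).op a := by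
      intro V O hO
      rw [← secMap_map f hO, CommRingCat.comp_apply, ← map_mul, hb, ← CommRingCat.comp_apply, ← Functor.map_comp]
      rfl
    have e := (h V _ (inf_le_left : V.1 ⊓ W.1 ≤ V.1)).trans (h W _ (inf_le_right : V.1 ⊓ W.1 ≤ W.1)).symm
    refine sub_eq_zero.1 (eq_zero_of_mul_eq_zero f hπ0 (U := V.1 ⊓ W.1)
      (X.presheaf.map (homOfLE (inf_le_left : V.1 ⊓ W.1 ≤ V.1)).op (b V) -
        X.presheaf.map (homOfLE (inf_le_right : V.1 ⊓ W.1 ≤ W.1)).op (b W)) ?_)
    rw [mul_sub, sub_eq_zero]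
    exact e
  obtain ⟨s, hs', -⟩ := X.sheaf.existsUnique_gluing' (fun V : X.affineOpens => V.1) ⊤ (fun V => homOfLE le_top) hcov b hcompat
  refine ⟨s, X.IsSheaf.section_ext fun x _ => ?_⟩
  obtain ⟨V, hxV⟩ := TopologicalSpace.Opens.mem_iSup.1 (hcov (x := x) trivial)
  refine ⟨V.1, le_top, hxV, ?_⟩
  rw [map_mul, ← CommRingCat.comp_apply, secMap_map, ← hb V]
  exact congrArg _ (hs' V)

variable {XK : Scheme.{u}} {gK : XK ⟶ X} {fK : XK ⟶ Spec (CommRingCat.of (FractionRing R))}

/-- The global functions of the family are the constants. -/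
theorem secMap_bijective [IsAlgClosed (IsLocalRing.ResidueField R)] [IsProper f] [Flat f]
    (hK : IsPullback gK fK f (Spec.map (CommRingCat.ofHom (algebraMap R (FractionRing R)))))
    [Smooth fK] [ConnectedSpace XK]
    (hs : IsPullback gs fs f (Spec.map (CommRingCat.ofHom (IsLocalRing.residue R))))
    [ConnectedSpace Xs] [IsReduced Xs] :
    Function.Bijective (secMap f ⊤).hom := by
  obtain ⟨π, hπirr⟩ := IsDiscreteValuationRing.exists_irreducible R
  have hπ := hπirr.maximalIdeal_eq
  have hπ0 := hπirr.ne_zero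
  haveI : CompactSpace X := QuasiCompact.compactSpace_of_compactSpace f
  haveI : QuasiSeparatedSpace X := (quasiSeparated_iff_quasiSeparatedSpace f).mp inferInstance
  haveI : UniversallyClosed fK := MorphismProperty.of_isPullback (P := @UniversallyClosed) hK inferInstance
  haveI : LocallyOfFiniteType fK := MorphismProperty.of_isPullback (P := @LocallyOfFiniteType) hK inferInstance
  haveI : IsReduced XK := GrpSchLib.isReduced_of_smooth_field fK
  haveI : GeometricallyReduced fK := GrpSchLib.IsogenyFibre.geometricallyReduced_of_smooth' fK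
  haveI : UniversallyClosed fs := MorphismProperty.of_isPullback (P := @UniversallyClosed) hs inferInstance
  haveI : LocallyOfFiniteType fs := MorphismProperty.of_isPullback (P := @LocallyOfFiniteType) hs inferInstance
  -- the two fibres
  letI : XK.Over (Spec (CommRingCat.of (FractionRing R))) := ⟨fK⟩
  letI : Xs.Over (Spec (CommRingCat.of (IsLocalRing.ResidueField R))) := ⟨fs⟩
  letI := GeomField.globalAlgebra (FractionRing R) XK
  letI := GeomField.globalAlgebra (IsLocalRing.ResidueField R) Xs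
  haveI : UniversallyClosed (XK ↘ Spec (CommRingCat.of (FractionRing R))) := ‹UniversallyClosed fK›
  haveI : LocallyOfFiniteType (XK ↘ Spec (CommRingCat.of (FractionRing R))) := ‹LocallyOfFiniteType fK›
  haveI : GeometricallyReduced (XK ↘ Spec (CommRingCat.of (FractionRing R))) := ‹GeometricallyReduced fK›
  haveI : UniversallyClosed (Xs ↘ Spec (CommRingCat.of (IsLocalRing.ResidueField R))) := ‹UniversallyClosed fs›
  haveI : LocallyOfFiniteType (Xs ↘ Spec (CommRingCat.of (IsLocalRing.ResidueField R))) := ‹LocallyOfFiniteType fs›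
  haveI : Algebra.IsSeparable (FractionRing R) Γ(XK, ⊤) := GeomField.globalFunctions_separable _ XK
  haveI : Module.Finite (FractionRing R) Γ(XK, ⊤) := GeomField.finite_globalFunctions _ XK
  letI : Field Γ(XK, ⊤) := (GeomField.isField_globalFunctions (FractionRing R) XK).toField
  haveI : Module.Finite (IsLocalRing.ResidueField R) Γ(Xs, ⊤) := GeomField.finite_globalFunctions _ Xs
  haveI : IsDomain Γ(Xs, ⊤) := (GeomField.isField_globalFunctions (IsLocalRing.ResidueField R) Xs).isDomain
  -- the ring of global functions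
  letI : Algebra R Γ(X, ⊤) := (secMap f ⊤).hom.toAlgebra
  haveI hint : Algebra.IsIntegral R Γ(X, ⊤) := by
    refine algebraMap_isIntegral_iff.1 ?_
    refine RingHom.IsIntegral.trans _ _
      (RingHom.isIntegral_of_surjective _ (Scheme.ΓSpecIso (CommRingCat.of R)).symm.commRingCatIsoToRingEquiv.surjective) ?_
    show (f.appLE ⊤ ⊤ _).hom.IsIntegral
    rw [show f.appLE ⊤ ⊤ le_top = f.appTop by simp [Scheme.Hom.appLE]]
    exact isIntegral_appTop_of_universallyClosed f
  haveI : Module.Flat R Γ(X, ⊤) := by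
    refine Module.Flat.flat_iff_torsion_eq_bot_of_isBezout.2 (eq_bot_iff.2 ?_)
    rintro a ⟨⟨r, hr⟩, hra⟩
    exact eq_zero_of_mul_eq_zero f (nonZeroDivisors.ne_zero hr) a hra
  have hKflat : (algebraMap R (FractionRing R)).Flat := RingHom.flat_algebraMap_iff.2 inferInstance
  have hpK := isPushout_top_of_flat hK hKflat
  have hgK : Function.Injective (gK.app ⊤).hom :=
    inl_injective hpK (IsFractionRing.injective R _) (RingHom.flat_algebraMap_iff.2 ‹Module.Flat R Γ(X, ⊤)›)
  have hfKtop : ∀ c, algebraMap (FractionRing R) Γ(XK, ⊤) c = secMap fK (gK ⁻¹ᵁ ⊤) c := by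
    intro c
    show _ = ((Scheme.ΓSpecIso (CommRingCat.of (FractionRing R))).inv ≫ fK.appLE ⊤ ⊤ le_top) c
    rw [show fK.appLE ⊤ ⊤ le_top = fK.appTop by simp [Scheme.Hom.appLE]]
    rfl
  -- finiteness over `R`
  letI : Algebra R Γ(XK, ⊤) := ((algebraMap (FractionRing R) Γ(XK, ⊤)).comp (algebraMap R (FractionRing R))).toAlgebra
  haveI : IsScalarTower R (FractionRing R) Γ(XK, ⊤) := IsScalarTower.of_algebraMap_eq fun _ => rfl
  let res : Γ(X, ⊤) →ₐ[R] Γ(XK, ⊤) :=
    { (gK.app ⊤).hom with
      commutes' := fun r => by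
        show (secMap f ⊤ ≫ gK.app ⊤) r = algebraMap (FractionRing R) Γ(XK, ⊤) (algebraMap R (FractionRing R) r)
        rw [hpK.w, hfKtop]
        rfl }
  haveI : Module.Finite R (integralClosure R Γ(XK, ⊤)) := IsIntegralClosure.finite R (FractionRing R) Γ(XK, ⊤) _
  haveI : Module.Finite R Γ(X, ⊤) := by
    let res' : Γ(X, ⊤) →ₐ[R] integralClosure R Γ(XK, ⊤) :=
      res.codRestrict _ fun a => (Algebra.IsIntegral.isIntegral (R := R) a).map res
    haveI : IsNoetherian R (integralClosure R Γ(XK, ⊤)) := isNoetherian_of_isNoetherianRing_of_finite _ _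
    exact Module.Finite.of_injective res'.toLinearMap fun a b hab => hgK (congrArg Subtype.val hab)
  -- generation by one element
  have hcl : ∀ y : Γ(Xs, ⊤), ∃ c : IsLocalRing.ResidueField R, algebraMap _ Γ(Xs, ⊤) c = y := fun y => by
    haveI : Algebra.IsIntegral (IsLocalRing.ResidueField R) Γ(Xs, ⊤) := Algebra.IsIntegral.of_finite _ _
    exact (IsAlgClosed.algebraMap_bijective_of_isIntegral (k := IsLocalRing.ResidueField R) (K := Γ(Xs, ⊤))).2 y
  have hsec : ∀ a : Γ(X, ⊤), ∃ r : R, ∃ b : Γ(X, ⊤), secMap f ⊤ π * b = a - secMap f ⊤ r := by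
    intro a
    obtain ⟨c, hc⟩ := hcl (gs.app ⊤ a)
    obtain ⟨r, rfl⟩ := IsLocalRing.residue_surjective c
    refine ⟨r, exists_eq_mul hs hπ hπ0 _ ?_⟩
    rw [map_sub, sub_eq_zero, ← hc, ← CommRingCat.comp_apply]
    have hw : (secMap f ⊤ ≫ gs.app ⊤) r = secMap fs (gs ⁻¹ᵁ ⊤) (IsLocalRing.residue R r) := by
      have h := congr_arg (fun φ => φ.hom r)
        (show secMap f ⊤ ≫ gs.app ⊤ = CommRingCat.ofHom (IsLocalRing.residue R) ≫ secMap fs (gs ⁻¹ᵁ ⊤) by
          rw [secMap, secMap, Category.assoc, Scheme.Hom.app_eq_appLE, Scheme.Hom.appLE_comp_appLE,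
            ← Category.assoc, Scheme.ΓSpecIso_inv_naturality, Category.assoc]
          congr 1
          rw [show (Spec.map (CommRingCat.ofHom (IsLocalRing.residue R))).appTop =
            (Spec.map (CommRingCat.ofHom (IsLocalRing.residue R))).appLE ⊤ ⊤ le_top by simp [Scheme.Hom.appLE],
            Scheme.Hom.appLE_comp_appLE]
          simp only [hs.w])
      exact h
    rw [hw]
    show algebraMap _ Γ(Xs, ⊤) _ = ((Scheme.ΓSpecIso _).inv ≫ fs.appLE ⊤ ⊤ le_top) (IsLocalRing.residue R r)
    rw [show fs.appLE ⊤ ⊤ le_top = fs.appTop by simp [Scheme.Hom.appLE]]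
    rfl
  have htop : (⊤ : Submodule R Γ(X, ⊤)) ≤ Submodule.span R {1} := by
    refine Submodule.le_of_le_smul_of_le_jacobson_bot Module.Finite.fg_top
      (IsLocalRing.maximalIdeal_le_jacobson _) fun a _ => ?_
    obtain ⟨r, b, hb⟩ := hsec a
    refine Submodule.mem_sup.2 ⟨algebraMap R _ r, ?_, secMap f ⊤ π * b, ?_, ?_⟩
    · rw [Algebra.algebraMap_eq_smul_one]
      exact Submodule.smul_mem _ _ (Submodule.mem_span_singleton_self _)
    · show algebraMap R _ π * b ∈ _
      rw [← Algebra.smul_def]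
      exact Submodule.smul_mem_smul (hπ ▸ Ideal.mem_span_singleton_self π) trivial
    · rw [hb]; exact add_sub_cancel (algebraMap R _ r) a
  refine ⟨?_, fun a => ?_⟩
  · refine (injective_iff_map_eq_zero _).2 fun r hr => ?_
    by_contra h0
    have h1 : (1 : Γ(X, ⊤)) = 0 := eq_zero_of_mul_eq_zero f h0 1 (by rw [mul_one]; exact hr)
    exact one_ne_zero (α := Γ(XK, ⊤)) (by rw [← map_one res, h1, map_zero])
  · obtain ⟨r, hr⟩ := Submodule.mem_span_singleton.1 (htop (x := a) trivial)
    exact ⟨r, by rw [← hr, Algebra.smul_def, mul_one]; rfl⟩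

/-- The generic fibre is geometrically connected. -/
theorem geometricallyConnected [IsAlgClosed (IsLocalRing.ResidueField R)] [IsProper f] [Flat f]
    (hK : IsPullback gK fK f (Spec.map (CommRingCat.ofHom (algebraMap R (FractionRing R)))))
    [Smooth fK] [ConnectedSpace XK]
    (hs : IsPullback gs fs f (Spec.map (CommRingCat.ofHom (IsLocalRing.residue R))))
    [ConnectedSpace Xs] [IsReduced Xs] : GeometricallyConnected fK := by
  haveI : CompactSpace X := QuasiCompact.compactSpace_of_compactSpace f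
  haveI : QuasiSeparatedSpace X := (quasiSeparated_iff_quasiSeparatedSpace f).mp inferInstance
  haveI : IsProper fK := MorphismProperty.of_isPullback (P := @IsProper) hK inferInstance
  refine H23.GeomConnGamma.geometricallyConnected_of_gamma fK ?_
  have h1 : IsIso (secMap f ⊤) := (ConcreteCategory.isIso_iff_bijective _).2 (secMap_bijective hK hs)
  have h2 : IsIso (secMap fK (gK ⁻¹ᵁ ⊤)) :=
    (isPushout_top_of_flat hK (RingHom.flat_algebraMap_iff.2 inferInstance)).isIso_inr_of_isIso h1
  have h3 : IsIso (fK.appLE ⊤ (gK ⁻¹ᵁ ⊤) (fun _ _ => trivial)) :=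
    haveI : IsIso ((Scheme.ΓSpecIso (CommRingCat.of (FractionRing R))).inv ≫
      fK.appLE ⊤ (gK ⁻¹ᵁ ⊤) (fun _ _ => trivial)) := h2
    IsIso.of_isIso_comp_left (Scheme.ΓSpecIso (CommRingCat.of (FractionRing R))).inv _
  have h4 := ConcreteCategory.bijective_of_isIso (fK.appLE ⊤ (gK ⁻¹ᵁ ⊤) (fun _ _ => trivial))
  rwa [show fK.appLE ⊤ (gK ⁻¹ᵁ ⊤) (fun _ _ => trivial) = fK.appTop by simp [Scheme.Hom.appLE]] at h4

/-- Sections over a non-empty affine open are geometrically integral. -/
theorem isDomain_tensor_sections [IsAlgClosed (IsLocalRing.ResidueField R)] [IsProper f] [Flat f]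
    (hK : IsPullback gK fK f (Spec.map (CommRingCat.ofHom (algebraMap R (FractionRing R)))))
    [Smooth fK] [ConnectedSpace XK]
    (hs : IsPullback gs fs f (Spec.map (CommRingCat.ofHom (IsLocalRing.residue R))))
    [ConnectedSpace Xs] [IsReduced Xs] (F : Type u) [Field F] [Algebra R F] [Algebra (FractionRing R) F]
    [IsScalarTower R (FractionRing R) F] {U : X.Opens} (hU : IsAffineOpen U) [Nonempty U] :
    letI := (secMap f U).hom.toAlgebra
    IsDomain (F ⊗[R] Γ(X, U)) := by
  letI := (secMap f U).hom.toAlgebra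
  haveI : Module.Flat R Γ(X, U) := secMap_flat f hU
  haveI := geometricallyConnected hK hs
  haveI : IsProper fK := MorphismProperty.of_isPullback (P := @IsProper) hK inferInstance
  let t : Spec (CommRingCat.of F) ⟶ Spec (CommRingCat.of (FractionRing R)) :=
    Spec.map (CommRingCat.ofHom (algebraMap (FractionRing R) F))
  let Z := pullback fK t
  let q : Z ⟶ Spec (CommRingCat.of F) := pullback.snd fK t
  haveI : ConnectedSpace Z := by
    have h : geometrically (fun Y => ConnectedSpace Y) fK := by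
      have hh : GeometricallyConnected fK := inferInstance
      rwa [GeometricallyConnected.eq_geometrically] at hh
    exact h t (pullback.fst fK t) q (IsPullback.of_hasPullback fK t)
  haveI : CompactSpace Z := QuasiCompact.compactSpace_of_compactSpace q
  haveI : Smooth q := MorphismProperty.pullback_snd _ _ inferInstance
  haveI : IsIntegral Z := CurveCohLib.isIntegral_of_smooth_connected q
  let g : Z ⟶ X := pullback.fst fK t ≫ gK
  have H : IsPullback g q f (Spec.map (CommRingCat.ofHom (algebraMap R F))) := by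
    have := (IsPullback.of_hasPullback fK t).paste_horiz hK
    rwa [← Spec.map_comp, ← CommRingCat.ofHom_comp, ← IsScalarTower.algebraMap_eq] at this
  have hp := isPushout_of_affine H hU
  have h' : IsPushout (secMap f U) (CommRingCat.ofHom (algebraMap R F))
      (CommRingCat.ofHom (Algebra.TensorProduct.includeLeftRingHom (R := R) (A := Γ(X, U)) (B := F)))
      (CommRingCat.ofHom (Algebra.TensorProduct.includeRight (R := R) (A := Γ(X, U)) (B := F)).toRingHom) :=
    CommRingCat.isPushout_tensorProduct R Γ(X, U) F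
  let e : Γ(X, U) ⊗[R] F ≃+* Γ(Z, g ⁻¹ᵁ U) := (h'.isoIsPushout _ _ hp).commRingCatIsoToRingEquiv
  have hRF : Function.Injective (algebraMap R F) := by
    rw [IsScalarTower.algebraMap_eq R (FractionRing R) F]
    exact (algebraMap (FractionRing R) F).injective.comp (IsFractionRing.injective R _)
  haveI : Nontrivial (Γ(X, U) ⊗[R] F) :=
    (Algebra.TensorProduct.includeLeft_injective (S := R) (A := Γ(X, U)) hRF).nontrivial
  haveI : Nontrivial Γ(Z, g ⁻¹ᵁ U) := e.injective.nontrivial
  haveI : Nonempty (g ⁻¹ᵁ U : Z.Opens) := by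
    by_contra h
    rw [not_nonempty_iff] at h
    refine not_subsingleton Γ(Z, g ⁻¹ᵁ U) ⟨fun a b => Z.IsSheaf.section_ext fun x hx => ?_⟩
    exact h.elim ⟨x, hx⟩
  haveI : IsDomain (Γ(X, U) ⊗[R] F) := e.toMulEquiv.isDomain _
  exact (Algebra.TensorProduct.comm R F Γ(X, U)).toRingEquiv.toMulEquiv.isDomain _

/-- The stalk at a component generic point is geometrically a field over the generic point. -/
theorem isDomain_tensor_stalk [IsAlgClosed (IsLocalRing.ResidueField R)] [IsProper f] [Flat f]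
    (hK : IsPullback gK fK f (Spec.map (CommRingCat.ofHom (algebraMap R (FractionRing R)))))
    [Smooth fK] [ConnectedSpace XK]
    (hs : IsPullback gs fs f (Spec.map (CommRingCat.ofHom (IsLocalRing.residue R))))
    [ConnectedSpace Xs] [IsReduced Xs] (F : Type u) [Field F] [Algebra R F] [Algebra (FractionRing R) F]
    [IsScalarTower R (FractionRing R) F] (x : X)
    (B : Type u) [CommRing B] [Algebra R B]
    (e : X.presheaf.stalk x ≅ CommRingCat.of B)
    (he : e.hom.hom.comp ((X.presheaf.germ ⊤ x trivial).hom.comp (Coh.toGlobal f)) = algebraMap R B) :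
    IsDomain (F ⊗[R] B) := by
  obtain ⟨_, ⟨U, hU, rfl⟩, hxU, -⟩ := X.isBasis_affineOpens.exists_subset_of_mem_open
    (Set.mem_univ x) isOpen_univ
  replace hU : IsAffineOpen U := hU
  haveI : Nonempty U := ⟨⟨x, hxU⟩⟩
  letI := (secMap f U).hom.toAlgebra
  haveI := isDomain_tensor_sections hK hs F hU
  letI := TopCat.Presheaf.algebra_section_stalk X.presheaf ⟨x, hxU⟩
  haveI := hU.isLocalization_stalk ⟨x, hxU⟩
  letI : Algebra R (X.presheaf.stalk x) :=
    ((X.presheaf.germ ⊤ x trivial).hom.comp (Coh.toGlobal f)).toAlgebra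
  haveI : IsScalarTower R Γ(X, U) (X.presheaf.stalk x) :=
    IsScalarTower.of_algebraMap_eq' (secMap_germ f U x hxU).symm
  haveI : Module.Flat R Γ(X, U) := secMap_flat f hU
  have hRF : Function.Injective (algebraMap R F) := by
    rw [IsScalarTower.algebraMap_eq R (FractionRing R) F]
    exact (algebraMap (FractionRing R) F).injective.comp (IsFractionRing.injective R _)
  haveI : IsDomain (F ⊗[R] X.presheaf.stalk x) := by
    refine DvrAlg.isDomain_tensor_localization (A := Γ(X, U)) (hU.primeIdealOf ⟨x, hxU⟩).asIdeal.primeCompl F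
      fun m hm h => hm ?_
    have : m = 0 := Algebra.TensorProduct.includeRight_injective (A := F) (B := Γ(X, U)) hRF (h.trans (map_zero _).symm)
    rw [this]; exact zero_mem _
  let e' : X.presheaf.stalk x ≃ₐ[R] B :=
    AlgEquiv.ofRingEquiv (f := e.commRingCatIsoToRingEquiv) fun r => DFunLike.congr_fun he r
  exact (Algebra.TensorProduct.congr (AlgEquiv.refl : F ≃ₐ[R] F) e'.symm).toRingEquiv.toMulEquiv.isDomain _

end Main

end Groth.Agent.MdlA1.DvrComp
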