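import Groth.Agent.MdlA1.Avg
import Groth.Agent.MorLib.FormallyEtaleHom
import Groth.Agent.S1488

/-! Equivariant lifts along smooth morphisms for actions of diagonalizable groups. -/

set_option autoImplicit false

universe u

open CategoryTheory CategoryTheory.Limits MonoidalCategory CartesianMonoidalCategory MonObj AlgebraicGeometry
open Magnet Groth.Agent.H28.MagnetAff Groth.Agent.H23.CharPts

namespace Groth.Agent.MdlA1

variable {S : Scheme.{u}}

section Inv

variable {M : Type} [AddCommGroup M] {T T' : Over S}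

/-- The inverse of a point of a diagonalizable group. -/
noncomputable def ninv (g : T ⟶ AMonS S M) : T ⟶ AMonS S M :=
  g ≫ AMonS.map S (negAddMonoidHom : M →+ M)

theorem comp_ninv (u : T' ⟶ T) (g : T ⟶ AMonS S M) : u ≫ ninv g = ninv (u ≫ g) :=
  (Category.assoc _ _ _).symm

theorem ninv_mul (g : T ⟶ AMonS S M) : ninv g * g = 1 := by
  refine eq_one_of_chi _ fun m => ?_
  rw [chi_mul, ninv, chi_map, ← map_mul]
  convert map_one (chi g)
  exact Multiplicative.toAdd.injective (neg_add_cancel (Multiplicative.toAdd m))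

theorem mul_ninv_mul (g h : T ⟶ AMonS S M) : h * ninv (g * h) = ninv g := by
  have e : (ninv g * g) * (h * ninv (g * h)) = ninv g * ((ninv (g * h)) * (g * h)) := by
    rw [_root_.mul_comm (ninv (g * h)) (g * h)]
    simp only [_root_.mul_assoc]
  rwa [ninv_mul, ninv_mul, _root_.one_mul, _root_.mul_one] at e

end Inv

section Thicken

variable {W W' : Over S} [IsAffine W.left] [IsAffine W'.left] {i : W ⟶ W'}

theorem Thick.isClosedImmersion (hi : Thick i) : IsClosedImmersion i.left :=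
  IsClosedImmersion.of_surjective_of_isAffine _ hi.surj

theorem Thick.isFirstOrder (hi : Thick i) : MoreMor.IsFirstOrderThickening i.left := by
  have e : i.left = W.left.isoSpec.hom ≫ Spec.map i.left.appTop ≫ W'.left.isoSpec.inv := by
    rw [← Iso.inv_comp_eq]
    exact (Scheme.isoSpec_inv_naturality i.left).symm
  haveI := hi.isClosedImmersion
  refine ⟨⟨hi.isClosedImmersion, ?_⟩, ?_⟩
  · have hs : Surjective (Spec.map i.left.appTop) := ⟨fun p => by
      obtain ⟨q, hq⟩ : p ∈ Set.range (PrimeSpectrum.comap i.left.appTop.hom) := by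
        rw [range_comap_of_surjective _ _ hi.surj]
        intro a ha
        exact p.isPrime.mem_of_pow_mem 2 (by rw [pow_two, hi.sq a a ha ha]; exact p.asIdeal.zero_mem)
      exact ⟨q, hq⟩⟩
    rw [e]
    infer_instance
  · exact MorLib.ker_mul_ker_eq_bot_of_isAffine i.left hi.ker_sq

end Thicken

variable {M : Type} [AddCommGroup M] {W W' X Y : Over S} [IsAffine W.left] [IsAffine W'.left] {i : W ⟶ W'}

theorem IsAvg.existsUnique {K : Type} [AddCommMonoid K] {hi : Thick i} {Φ : AMonS S K ⊗ W' ⟶ X} {x : W ⟶ X}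
    {l : W' ⟶ X} (h : IsAvg hi Φ x l) {l' : W' ⟶ X} {Φ' : AMonS S K ⊗ W' ⟶ X} {x' : W ⟶ X}
    (h' : IsAvg hi Φ' x' l') (hΦ : Φ = Φ') (hx : x = x') : l = l' := by
  subst hΦ hx
  exact h.unique h'

/-- Equivariant lifting along a smooth equivariant morphism. -/
theorem exists_equivariant_lift (hi : Thick i) (aW' : MonAct (AMonS S M) W') (actW : AMonS S M ⊗ W ⟶ W)
    (hW : actW ≫ i = (AMonS S M ◁ i) ≫ aW'.act) (aX : MonAct (AMonS S M) X) (aY : MonAct (AMonS S M) Y)
    (f : X ⟶ Y) (hf : MonAct.IsEquivariant aX aY f) [Smooth f.left] (x : W ⟶ X)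
    (hx : actW ≫ x = (AMonS S M ◁ x) ≫ aX.act) (y : W' ⟶ Y) (hy : MonAct.IsEquivariant aW' aY y)
    (hxy : x ≫ f = i ≫ y) :
    ∃ l : W' ⟶ X, i ≫ l = x ∧ l ≫ f = y ∧ MonAct.IsEquivariant aW' aX l := by
  obtain ⟨l₀, hl₀i, hl₀f⟩ := MorLib.exists_lift_of_isAffine ((Groth.Agent.S1488.result f.left).mp inferInstance).2
    i.left hi.isFirstOrder x.left y.left (congrArg Over.Hom.left hxy).symm
  let l₁ : W' ⟶ X := Over.homMk l₀ (by rw [← Over.w f, ← Category.assoc, hl₀f, Over.w])
  have hl₁i : i ≫ l₁ = x := Over.OverMorphism.ext hl₀i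
  have hl₁f : l₁ ≫ f = y := Over.OverMorphism.ext hl₀f
  let Φ : (AMonS S M) ⊗ W' ⟶ X := lift (ninv (fst (AMonS S M) W')) (aW'.act ≫ l₁) ≫ aX.act
  have hΦ : ∀ {T : Over S} (g : T ⟶ (AMonS S M)) (b : T ⟶ W'),
      lift g b ≫ Φ = lift (ninv g) ((lift g b ≫ aW'.act) ≫ l₁) ≫ aX.act := fun g b => by
    rw [show Φ = lift (ninv (fst (AMonS S M) W')) (aW'.act ≫ l₁) ≫ aX.act from rfl, comp_lift_assoc, comp_ninv, lift_fst,
      Category.assoc]
  have hΦi : ((AMonS S M) ◁ i) ≫ Φ = snd _ _ ≫ x := by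
    refine hom_ext_lift₂ fun T g b => ?_
    rw [lift_whiskerLeft_assoc, lift_snd_assoc, hΦ, ← lift_whiskerLeft g b i, Category.assoc (lift g b), ← hW,
      Category.assoc (lift g b), Category.assoc, hl₁i, hx, lift_whiskerLeft_assoc, ← aX.lift_mul_act, ninv_mul,
      aX.lift_one_act]
  obtain ⟨l, hl⟩ := exists_isAvg hi Φ x hΦi
  refine ⟨l, hl.restrict, ?_, ?_⟩
  · refine (hl.comp_postcomp f).existsUnique (isAvg_snd hi y) ?_ hxy
    refine hom_ext_lift₂ fun T g b => ?_
    rw [← Category.assoc, hΦ, lift_snd_assoc, Category.assoc, hf, lift_whiskerLeft_assoc, Category.assoc (_ ≫ _),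
      hl₁f, Category.assoc, hy, lift_whiskerLeft_assoc, ← aY.lift_mul_act, ninv_mul, aY.lift_one_act]
  · have hi' : Thick ((AMonS S M) ◁ i) := hi.whisker M
    have h1 := hl.comp_precomp hi' (snd (AMonS S M) W') (snd (AMonS S M) W) (whiskerLeft_snd (AMonS S M) i).symm
    have h2 := hl.comp_precomp hi' aW'.act actW hW
    let Ψ : (AMonS S M) ⊗ ((AMonS S M) ⊗ W') ⟶ (AMonS S M) ⊗ X := lift (snd (AMonS S M) ((AMonS S M) ⊗ W') ≫ fst (AMonS S M) W') (((AMonS S M) ◁ snd (AMonS S M) W') ≫ Φ)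
    obtain ⟨m, hm⟩ := exists_isAvg hi' Ψ ((AMonS S M) ◁ x) (by
      apply CartesianMonoidalCategory.hom_ext
      · simp [Ψ]
      · simp only [Ψ, Category.assoc, lift_snd, whiskerLeft_snd]
        rw [← Category.assoc, ← MonoidalCategory.whiskerLeft_comp, whiskerLeft_snd, MonoidalCategory.whiskerLeft_comp,
          Category.assoc, hΦi, whiskerLeft_snd_assoc])
    have hm1 : m ≫ fst (AMonS S M) X = fst (AMonS S M) W' :=
      (hm.comp_postcomp (fst (AMonS S M) X)).existsUnique (isAvg_snd hi' (fst (AMonS S M) W')) (lift_fst _ _)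
        ((whiskerLeft_fst _ _).trans (whiskerLeft_fst _ _).symm)
    have hm2 : m ≫ snd (AMonS S M) X = snd (AMonS S M) W' ≫ l :=
      (hm.comp_postcomp (snd (AMonS S M) X)).existsUnique h1 (lift_snd _ _) (whiskerLeft_snd _ _)
    have hml : m = (AMonS S M) ◁ l := by
      apply CartesianMonoidalCategory.hom_ext
      · rw [hm1, whiskerLeft_fst]
      · rw [hm2, whiskerLeft_snd]
    rw [hml] at hm
    refine h2.existsUnique ((hm.comp_postcomp aX.act).translate (fst (AMonS S M) W')) ?_ hx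
    refine hom_ext_lift₂ fun T g z => ?_
    obtain ⟨h, b, rfl⟩ : ∃ h b, z = lift h b :=
      ⟨z ≫ fst _ _, z ≫ snd _ _, (lift_comp_fst_snd z).symm⟩
    rw [lift_whiskerLeft_assoc, hΦ, ← aW'.lift_mul_act, comp_lift_assoc, MonObj.comp_mul, lift_fst, lift_snd_assoc,
      lift_snd, lift_fst]
    have e : lift (g * h) (lift h b) ≫ Ψ = lift h (lift (g * h) b ≫ Φ) := by
      simp [Ψ]
    rw [← Category.assoc, e, hΦ, ← aX.lift_mul_act, mul_ninv_mul]

end Groth.Agent.MdlA1
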