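import Groth.Agent.MdlA1.FacePO

/-! The action on the pushout of `A(F) ×_S T'` and `A(N) ×_S T`. -/

set_option autoImplicit false

universe u

open CategoryTheory CategoryTheory.Limits MonoidalCategory CartesianMonoidalCategory MonObj AlgebraicGeometry
open Magnet Groth.Agent.H28.MagnetAff Groth.Agent.H23.CharPts

namespace Groth.Agent.MdlA1

variable {S : Scheme.{u}} {M : Type} [AddCommMonoid M] {N F : AddSubmonoid M} (hF : IsFace N F)
  {T T' : Over S} [IsAffine T.left] [IsAffine T'.left] (t : T ⟶ T')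

theorem isAffine_left_tensor (K : Type) [AddCommMonoid K] (W : Over S) [IsAffine W.left] :
    IsAffine (AMonS S K ⊗ W).left :=
  inferInstance

/-- Factoring through the pushout. -/
theorem exists_lift_faceE {V : Over S} [IsAffine V.left] (h : V ⟶ AMonS S N ⊗ T')
    (hk : ∀ z ∈ RingHom.ker (faceRes hF t.left.appTop.hom), h.left.appTop.hom (theta N T' z) = 0) :
    ∃ m : V ⟶ facePO hF t, m ≫ faceE hF t = h := by
  let φ : FaceRing hF t.left.appTop.hom →+* Γ(V.left, ⊤) :=
    Ideal.Quotient.lift _ (h.left.appTop.hom.comp (theta N T')) hk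
  let m : V.left ⟶ (facePO hF t).left := V.left.toSpecΓ ≫ Spec.map (CommRingCat.ofHom φ)
  have hmφ : (Scheme.ΓSpecIso (CommRingCat.of (FaceRing hF t.left.appTop.hom))).inv ≫ m.appTop =
      CommRingCat.ofHom φ := by
    simp only [m, Scheme.Hom.comp_appTop, Scheme.toSpecΓ_appTop]
    exact (congrArg (_ ≫ ·) (Scheme.ΓSpecIso_naturality (CommRingCat.ofHom φ))).trans (Iso.inv_hom_id_assoc _ _)
  have hm : m ≫ (faceE hF t).left = h.left := by
    refine ext_of_isAffine (CommRingCat.hom_ext (RingHom.ext fun v => ?_))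
    obtain ⟨z, rfl⟩ := (theta_iso N T').2.2 v
    rw [Scheme.Hom.comp_appTop]
    show m.appTop.hom ((faceE hF t).left.appTop.hom (theta N T' z)) = _
    rw [faceE_appTop]
    exact congr($hmφ (Ideal.Quotient.mk _ z))
  exact ⟨Over.homMk m (by rw [← Over.w (faceE hF t), ← Category.assoc, hm, Over.w]), Over.OverMorphism.ext hm⟩

theorem single_mem_ker {z : MonoidAlgebra (RR T') (Multiplicative N)}
    (hz : z ∈ RingHom.ker (faceRes hF t.left.appTop.hom)) (n : Multiplicative N) :
    MonoidAlgebra.single n (z.coeff n) ∈ RingHom.ker (faceRes hF t.left.appTop.hom) := by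
  classical
  rw [mem_ker_faceRes] at hz ⊢
  intro k
  simp only [MonoidAlgebra.coeff_single, Finsupp.single_apply]
  split_ifs with h
  · exact h ▸ hz k
  · exact ⟨map_zero _, fun _ => rfl⟩

/-- The action of `A(M)` on `A(N) ×_S T'`. -/
noncomputable abbrev bigAct (S : Scheme.{u}) (N : AddSubmonoid M) (T' : Over S) :
    MonAct (AMonS S M) (AMonS S N ⊗ T') :=
  (subAct S M N).prod (MonAct.trivial _ T')

theorem chi_bigAct {V : Over S} (g : V ⟶ AMonS S M) (w : V ⟶ AMonS S N ⊗ T') (n : Multiplicative N) :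
    chi ((lift g w ≫ (bigAct S N T').act) ≫ fst _ _) n =
      chi (g ≫ AMonS.map S N.subtype) n * chi (w ≫ fst _ _) n := by
  conv_lhs => rw [← lift_comp_fst_snd w, MonAct.lift_prod_act, lift_fst, subAct, MonAct.lift_restrict_act,
    MonAct.lift_regular_act, chi_mul]

/-- The translate of a point of the pushout lies in the pushout. -/
theorem bigAct_kills {V : Over S} [IsAffine V.left] (g : V ⟶ AMonS S M) (p : V ⟶ facePO hF t)
    {z : MonoidAlgebra (RR T') (Multiplicative N)} (hz : z ∈ RingHom.ker (faceRes hF t.left.appTop.hom)) :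
    (lift g (p ≫ faceE hF t) ≫ (bigAct S N T').act).left.appTop.hom (theta N T' z) = 0 := by
  classical
  set w := p ≫ faceE hF t with hw
  set o := lift g w ≫ (bigAct S N T').act with ho
  have hsnd : o ≫ snd _ _ = w ≫ snd _ _ := by
    rw [ho]
    conv_lhs => rw [← lift_comp_fst_snd w, MonAct.lift_prod_act, lift_snd, MonAct.lift_trivial_act]
  have key : ∀ (n : Multiplicative N) (r : RR T'), o.left.appTop.hom (theta N T' (MonoidAlgebra.single n r)) =
      chi (g ≫ AMonS.map S N.subtype) n * w.left.appTop.hom (theta N T' (MonoidAlgebra.single n r)) := by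
    intro n r
    have e : ∀ {v : V ⟶ AMonS S N ⊗ T'}, v.left.appTop.hom (theta N T' (MonoidAlgebra.single n r)) =
        (v ≫ snd _ _).left.appTop.hom r * chi (v ≫ fst _ _) n := fun {v} => by
      rw [theta_single, map_mul, chi_comp]
      rfl
    rw [e, e, hsnd, ho, chi_bigAct]
    exact mul_left_comm _ _ _
  have hzero : ∀ n, w.left.appTop.hom (theta N T' (MonoidAlgebra.single n (z.coeff n))) = 0 := fun n => by
    show p.left.appTop.hom ((faceE hF t).left.appTop.hom (theta N T' _)) = 0
    rw [faceE_appTop, Ideal.Quotient.eq_zero_iff_mem.mpr (single_mem_ker hF t hz n), map_zero, map_zero]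
  rw [← MonoidAlgebra.sum_single z]
  simp only [Finsupp.sum, map_sum, key, hzero, MulZeroClass.mul_zero, Finset.sum_const_zero]

theorem exists_faceAct : ∃ aP : MonAct (AMonS S M) (facePO hF t),
    MonAct.IsEquivariant aP (bigAct S N T') (faceE hF t) := by
  haveI := isAffine_left_tensor M (facePO hF t)
  obtain ⟨m, hm⟩ := exists_lift_faceE hF t
    (lift (fst (AMonS S M) (facePO hF t)) (snd _ _ ≫ faceE hF t) ≫ (bigAct S N T').act)
    (fun z hz => bigAct_kills hF t _ _ hz)
  have hm' : ∀ {V : Over S} (g : V ⟶ AMonS S M) (p : V ⟶ facePO hF t),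
      lift g p ≫ m ≫ faceE hF t = lift g (p ≫ faceE hF t) ≫ (bigAct S N T').act := fun g p => by
    rw [hm, comp_lift_assoc, lift_fst, lift_snd_assoc]
  refine ⟨MonAct.mk' m (fun V p => ?_) (fun V g h p => ?_), ?_⟩
  · rw [← cancel_mono (faceE hF t), Category.assoc, hm', MonAct.lift_one_act]
  · rw [← cancel_mono (faceE hF t), Category.assoc, hm', MonAct.lift_mul_act, Category.assoc, hm',
      Category.assoc, hm']
  · rw [MonAct.isEquivariant_iff]
    intro V g p
    exact hm' g p

/-- The action on the pushout. -/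
noncomputable def faceAct : MonAct (AMonS S M) (facePO hF t) := (exists_faceAct hF t).choose

theorem faceAct_faceE : MonAct.IsEquivariant (faceAct hF t) (bigAct S N T') (faceE hF t) :=
  (exists_faceAct hF t).choose_spec

theorem isEquivariant_whiskerRight {B B' : Over S} {ρ : MonAct (AMonS S M) B} {ρ' : MonAct (AMonS S M) B'}
    {ψ : B ⟶ B'} (h : MonAct.IsEquivariant ρ ρ' ψ) (W : Over S) :
    MonAct.IsEquivariant (ρ.prod (MonAct.trivial _ W)) (ρ'.prod (MonAct.trivial _ W)) (ψ ▷ W) := by
  rw [MonAct.isEquivariant_iff] at h ⊢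
  intro V g z
  rw [← lift_comp_fst_snd z, MonAct.lift_prod_act_assoc, MonAct.lift_trivial_act, lift_whiskerRight,
    lift_whiskerRight, MonAct.lift_prod_act, MonAct.lift_trivial_act, Category.assoc, h]

theorem isEquivariant_faceNu₁ :
    MonAct.IsEquivariant (bigAct S F T') (faceAct hF t) (faceNu₁ hF t) := by
  unfold MonAct.IsEquivariant
  rw [← cancel_mono (faceE hF t), Category.assoc, faceNu₁_faceE, Category.assoc, faceAct_faceE,
    ← MonoidalCategory.whiskerLeft_comp_assoc, faceNu₁_faceE]
  exact isEquivariant_whiskerRight (isEquivariant_faceMapS S hF) T'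

theorem isEquivariant_faceNu₂ :
    MonAct.IsEquivariant (bigAct S N T) (faceAct hF t) (faceNu₂ hF t) := by
  unfold MonAct.IsEquivariant
  rw [← cancel_mono (faceE hF t), Category.assoc, faceNu₂_faceE, Category.assoc, faceAct_faceE,
    ← MonoidalCategory.whiskerLeft_comp_assoc, faceNu₂_faceE]
  exact MonAct.prod_trivial_act_whiskerLeft _ _

/-- The map glued from two equivariant maps is equivariant. -/
theorem isEquivariant_of_legs (ht : Thick t) {X : Over S} (aX : MonAct (AMonS S M) X) (k : facePO hF t ⟶ X)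
    (h₁ : MonAct.IsEquivariant (bigAct S F T') aX (faceNu₁ hF t ≫ k))
    (h₂ : MonAct.IsEquivariant (bigAct S N T) aX (faceNu₂ hF t ≫ k)) :
    MonAct.IsEquivariant (faceAct hF t) aX k := by
  unfold MonAct.IsEquivariant at *
  refine (facePO_isPushout_whisker hF t ht M).hom_ext ?_ ?_
  · rw [← Category.assoc, ← isEquivariant_faceNu₁ hF t, Category.assoc, h₁,
      MonoidalCategory.whiskerLeft_comp, Category.assoc]
  · rw [← Category.assoc, ← isEquivariant_faceNu₂ hF t, Category.assoc, h₂,
      MonoidalCategory.whiskerLeft_comp, Category.assoc]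

end Groth.Agent.MdlA1
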