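import Groth.Agent.H28.FaceSquare

/-! The face square of attractors along an étale morphism from a scheme affine over the base is cartesian. -/

set_option autoImplicit false

universe u

open CategoryTheory CategoryTheory.Limits MonoidalCategory CartesianMonoidalCategory MonObj AlgebraicGeometry
open Magnet Opposite

namespace Groth.Agent.MdlA1

variable {S : Scheme.{u}} {M : Type} [AddCommGroup M] {U X : Over S}

theorem isPullback_attrFace [AddGroup.FG M] (aU : MonAct (AMonS S M) U) (aX : MonAct (AMonS S M) X)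
    [IsAffineHom U.hom] (f : U ⟶ X) [Etale f.left] (hf : MonAct.IsEquivariant aU aX f)
    {N Q : AddSubmonoid M} (hQ : IsFace N Q)
    (h : N.FG ∨ (IsSeparated X.hom ∧ LocallyOfFinitePresentation X.hom)) :
    IsPullback (MonAct.eqvHom.postcomp (subAct S M N) f hf) (attrFace aU hQ) (attrFace aX hQ)
      (MonAct.eqvHom.postcomp (subAct S M Q) f hf) := by
  have hA : ∀ (W : Over S) [IsAffine W.left], H28.FaceSquare.Lifts aU aX f hQ W (N := N) := by
    intro W _
    rcases h with h | ⟨h1, h2⟩
    · exact H28.FaceSquare.lifts_of_fg _ _ f hf hQ h W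
    · exact H28.FaceSquare.lifts_of_union _ _ f hf hQ W
  have hT := H28.FaceSquare.lifts_of_affine aU aX f hf hQ hA
  refine IsPullback.of_forall_isPullback_app fun T => ?_
  rw [CategoryTheory.Limits.Types.isPullback_iff]
  refine ⟨?_, fun χ χ' h => ?_, fun φ ψ h => ?_⟩
  · ext φ
    exact Subtype.ext (Category.assoc _ _ _).symm
  · obtain ⟨c, -, huniq⟩ := hT (unop T) ((MonAct.eqvHom.postcomp (subAct S M N) f hf).app T χ)
      ((attrFace aU hQ).app T χ) (Category.assoc _ _ _).symm
    exact (huniq χ ⟨rfl, rfl⟩).trans (huniq χ' ⟨congrArg Subtype.val h.1.symm, congrArg Subtype.val h.2.symm⟩).symm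
  · obtain ⟨χ, ⟨h1, h2⟩, -⟩ := hT (unop T) φ ψ (congrArg Subtype.val h)
    exact ⟨χ, Subtype.ext h1, Subtype.ext h2⟩

end Groth.Agent.MdlA1
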