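import Groth.Agent.RingPO.Affine

/-! Fibre products of rings and monoid algebras. -/

set_option autoImplicit false

universe u

namespace Groth.Agent.MdlA1

open RingPO

variable {A A' B C : Type u} [CommRing A] [CommRing A'] [CommRing B] [CommRing C]
variable {p : A' →+* A} {q : B →+* A} {α : C →+* A'} {β : C →+* B}

/-- Monoid algebras over a fibre product form a fibre product. -/
theorem isFibreProd_monoidAlgebra (h : IsFibreProd p q α β) (K : Type) [CommMonoid K] :
    IsFibreProd (MonoidAlgebra.mapRingHom K p) (MonoidAlgebra.mapRingHom K q) (MonoidAlgebra.mapRingHom K α)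
      (MonoidAlgebra.mapRingHom K β) where
  surj := fun z => by
    induction z using MonoidAlgebra.induction_linear with
    | zero => exact ⟨0, map_zero _⟩
    | add x y hx hy =>
      obtain ⟨a, rfl⟩ := hx
      obtain ⟨b, rfl⟩ := hy
      exact ⟨a + b, map_add _ _ _⟩
    | single m r =>
      obtain ⟨a, rfl⟩ := h.surj r
      exact ⟨MonoidAlgebra.single m a, MonoidAlgebra.mapRingHom_single _ _ _⟩
  comm z := by
    ext m
    simp only [MonoidAlgebra.coeff_mapRingHom, h.comm]
  ext z z' h₁ h₂ := by
    ext m
    refine h.ext _ _ ?_ ?_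
    · rw [← MonoidAlgebra.coeff_mapRingHom, h₁, MonoidAlgebra.coeff_mapRingHom]
    · rw [← MonoidAlgebra.coeff_mapRingHom, h₂, MonoidAlgebra.coeff_mapRingHom]
  exists_of_eq b a hab := by
    classical
    have hm : ∀ m, ∃ z, α z = a.coeff m ∧ β z = b.coeff m := fun m => h.exists_of_eq _ _ (by
      rw [← MonoidAlgebra.coeff_mapRingHom, hab, MonoidAlgebra.coeff_mapRingHom])
    choose z hz₁ hz₂ using hm
    let c : MonoidAlgebra C K := MonoidAlgebra.ofCoeff
      (Finsupp.onFinset (a.coeff.support ∪ b.coeff.support) (fun m => z m) fun m hne => by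
        by_contra hout
        rw [Finset.notMem_union, Finsupp.notMem_support_iff, Finsupp.notMem_support_iff] at hout
        exact hne (h.ext _ _ (by rw [hz₁, hout.1, map_zero]) (by rw [hz₂, hout.2, map_zero])))
    have hc : ∀ m, c.coeff m = z m := fun m => rfl
    exact ⟨c, by ext m; rw [MonoidAlgebra.coeff_mapRingHom, hc, hz₁],
      by ext m; rw [MonoidAlgebra.coeff_mapRingHom, hc, hz₂]⟩

end Groth.Agent.MdlA1
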