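import Groth.Agent.MdlA1.AffRec
import Groth.Agent.MdlA1.MonAlgFib
import Groth.Agent.MdlA1.AffPO
import Groth.Agent.H23.AMonPushout

/-! The pushout of `A(F) ×_S T'` and `A(N) ×_S T` for a thickening `T ⟶ T'` and a face `F` of `N`. -/

set_option autoImplicit false

universe u

open CategoryTheory CategoryTheory.Limits MonoidalCategory CartesianMonoidalCategory MonObj AlgebraicGeometry
open Magnet Groth.Agent.H28.MagnetAff Groth.Agent.H23.CharPts
open Groth.Agent.H23.AMonPushout (inclR faceR coeff_faceR)

namespace Groth.Agent.MdlA1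

section Ring

variable {M : Type} [AddCommMonoid M] {N F : AddSubmonoid M} (hF : IsFace N F)
  {R R₀ : Type u} [CommRing R] [CommRing R₀] (f : R →+* R₀)

/-- Both restrictions of a function. -/
noncomputable def faceRes : MonoidAlgebra R (Multiplicative N) →+*
    MonoidAlgebra R (Multiplicative F) × MonoidAlgebra R₀ (Multiplicative N) :=
  (faceR R hF).prod (MonoidAlgebra.mapRingHom (Multiplicative N) f)

/-- The functions on the pushout. -/
abbrev FaceRing : Type u := MonoidAlgebra R (Multiplicative N) ⧸ RingHom.ker (faceRes hF f)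

/-- Restriction to the face. -/
noncomputable def faceAlpha : FaceRing hF f →+* MonoidAlgebra R (Multiplicative F) :=
  (RingHom.fst _ _).comp (RingHom.kerLift (faceRes hF f))

/-- Restriction to the closed subscheme. -/
noncomputable def faceBeta : FaceRing hF f →+* MonoidAlgebra R₀ (Multiplicative N) :=
  (RingHom.snd _ _).comp (RingHom.kerLift (faceRes hF f))

theorem mem_ker_faceRes (z : MonoidAlgebra R (Multiplicative N)) :
    z ∈ RingHom.ker (faceRes hF f) ↔
      ∀ n : N, f (z.coeff (Multiplicative.ofAdd n)) = 0 ∧ ((n : M) ∈ F → z.coeff (Multiplicative.ofAdd n) = 0) := by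
  rw [RingHom.mem_ker, faceRes, RingHom.prod_apply, Prod.mk_eq_zero]
  constructor
  · rintro ⟨h1, h2⟩ n
    refine ⟨by rw [← MonoidAlgebra.coeff_mapRingHom, h2]; rfl, fun hn => ?_⟩
    have := coeff_faceR R hF z ⟨n, hn⟩
    rw [h1] at this
    exact this.symm
  · intro h
    refine ⟨?_, ?_⟩
    · ext m
      obtain ⟨m, rfl⟩ := Multiplicative.ofAdd.surjective m
      rw [coeff_faceR]
      exact (h (AddSubmonoid.inclusion hF.le m)).2 m.2
    · ext m
      obtain ⟨m, rfl⟩ := Multiplicative.ofAdd.surjective m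
      rw [MonoidAlgebra.coeff_mapRingHom]
      exact (h m).1

theorem faceR_inclR (a : MonoidAlgebra R (Multiplicative F)) : faceR R hF (inclR R hF.le a) = a := by
  classical
  ext m
  obtain ⟨m, rfl⟩ := Multiplicative.ofAdd.surjective m
  rw [coeff_faceR]
  exact Finsupp.mapDomain_apply (AddSubmonoid.inclusion_injective hF.le) _ _

theorem map_inclR (a : MonoidAlgebra R (Multiplicative F)) :
    MonoidAlgebra.mapRingHom (Multiplicative N) f (inclR R hF.le a) =
      inclR R₀ hF.le (MonoidAlgebra.mapRingHom (Multiplicative F) f a) := by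
  induction a using MonoidAlgebra.induction_linear with
  | zero => simp
  | add x y hx hy => simp only [map_add, hx, hy]
  | single m r => simp

theorem map_faceR (z : MonoidAlgebra R (Multiplicative N)) :
    MonoidAlgebra.mapRingHom (Multiplicative F) f (faceR R hF z) =
      faceR R₀ hF (MonoidAlgebra.mapRingHom (Multiplicative N) f z) := by
  ext m
  obtain ⟨m, rfl⟩ := Multiplicative.ofAdd.surjective m
  rw [MonoidAlgebra.coeff_mapRingHom, coeff_faceR, coeff_faceR, MonoidAlgebra.coeff_mapRingHom]

theorem isFibreProd_face (hf : Function.Surjective f) :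
    RingPO.IsFibreProd (MonoidAlgebra.mapRingHom (Multiplicative F) f) (faceR R₀ hF) (faceAlpha hF f)
      (faceBeta hF f) where
  surj := mapRingHom_surjective hf
  comm z := by
    obtain ⟨z, rfl⟩ := Ideal.Quotient.mk_surjective z
    exact map_faceR hF f z
  ext z z' h₁ h₂ := RingHom.kerLift_injective (faceRes hF f) (Prod.ext h₁ h₂)
  exists_of_eq b a h := by
    obtain ⟨b', rfl⟩ := mapRingHom_surjective (K := N) hf b
    let d := a - faceR R hF b'
    refine ⟨Ideal.Quotient.mk _ (b' + inclR R hF.le d), ?_, ?_⟩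
    · show faceR R hF (b' + inclR R hF.le d) = a
      rw [map_add, faceR_inclR, add_sub_cancel]
    · show MonoidAlgebra.mapRingHom (Multiplicative N) f (b' + inclR R hF.le d) = _
      rw [map_add, map_inclR hF, map_sub, h, map_faceR, sub_self, map_zero, add_zero]

theorem mul_eq_zero_of_mem_ker (hsq : ∀ a b : R, f a = 0 → f b = 0 → a * b = 0)
    {z z' : MonoidAlgebra R (Multiplicative N)} (hz : z ∈ RingHom.ker (faceRes hF f))
    (hz' : z' ∈ RingHom.ker (faceRes hF f)) : z * z' = 0 :=
  mul_eq_zero_of_coeff fun m m' => hsq _ _ (((mem_ker_faceRes hF f z).mp hz (Multiplicative.toAdd m)).1)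
    (((mem_ker_faceRes hF f z').mp hz' (Multiplicative.toAdd m')).1)

end Ring

variable {S : Scheme.{u}} {M : Type} [AddCommMonoid M] {N F : AddSubmonoid M} (hF : IsFace N F)
  {T T' : Over S} [IsAffine T.left] [IsAffine T'.left] (t : T ⟶ T')

/-- The pushout. -/
noncomputable def facePO : Over S :=
  Over.mk (Spec.map (CommRingCat.ofHom (Ideal.Quotient.mk (RingHom.ker (faceRes hF t.left.appTop.hom)))) ≫
    (prodIso N T').inv ≫ (AMonS S N ⊗ T').hom)

instance : IsAffine (facePO hF t).left := inferInstanceAs (IsAffine (Spec _))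

/-- The closed immersion of the pushout. -/
noncomputable def faceE : facePO hF t ⟶ AMonS S N ⊗ T' :=
  Over.homMk (Spec.map (CommRingCat.ofHom (Ideal.Quotient.mk (RingHom.ker (faceRes hF t.left.appTop.hom)))) ≫
    (prodIso N T').inv) (Category.assoc _ _ _)

/-- The identification of functions. -/
noncomputable def faceTheta : FaceRing hF t.left.appTop.hom →+* Γ((facePO hF t).left, ⊤) :=
  (Scheme.ΓSpecIso (CommRingCat.of (FaceRing hF t.left.appTop.hom))).inv.hom

theorem faceTheta_bijective : Function.Bijective (faceTheta hF t) :=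
  ConcreteCategory.bijective_of_isIso (Scheme.ΓSpecIso (CommRingCat.of (FaceRing hF t.left.appTop.hom))).inv

theorem faceE_appTop (z : MonoidAlgebra (RR T') (Multiplicative N)) :
    (faceE hF t).left.appTop.hom (theta N T' z) = faceTheta hF t (Ideal.Quotient.mk _ z) :=
  comp_affIso_inv_appTop (theta N T') (theta_iso N T').2 _ z

theorem faceE_thick (ht : Thick t) : Thick (faceE hF t) where
  surj y := by
    obtain ⟨y, rfl⟩ := (faceTheta_bijective hF t).2 y
    obtain ⟨z, rfl⟩ := Ideal.Quotient.mk_surjective y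
    exact ⟨theta N T' z, faceE_appTop hF t z⟩
  sq a b ha hb := by
    obtain ⟨z, rfl⟩ := (theta_iso N T').2.2 a
    obtain ⟨z', rfl⟩ := (theta_iso N T').2.2 b
    rw [faceE_appTop, ← map_zero (faceTheta hF t)] at ha hb
    rw [← map_mul, mul_eq_zero_of_mem_ker hF _ ht.sq
      (Ideal.Quotient.eq_zero_iff_mem.mp ((faceTheta_bijective hF t).1 ha))
      (Ideal.Quotient.eq_zero_iff_mem.mp ((faceTheta_bijective hF t).1 hb)), map_zero]

instance : IsClosedImmersion (faceE hF t).left :=
  IsClosedImmersion.of_surjective_of_isAffine _ fun y => by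
    obtain ⟨y, rfl⟩ := (faceTheta_bijective hF t).2 y
    obtain ⟨z, rfl⟩ := Ideal.Quotient.mk_surjective y
    exact ⟨theta N T' z, faceE_appTop hF t z⟩

instance : Mono (faceE hF t) := Over.mono_of_mono_left _

/-- A map of an affine product to the pushout, from a ring map compatible with a map to `A(N) ×_S T'`. -/
theorem exists_leg {L : Type} [AddCommMonoid L] {W : Over S} [IsAffine W.left]
    (σ : FaceRing hF t.left.appTop.hom →+* MonoidAlgebra (RR W) (Multiplicative L))
    (g : AMonS S L ⊗ W ⟶ AMonS S N ⊗ T')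
    (hg : ∀ z, g.left.appTop.hom (theta N T' z) = theta L W (σ (Ideal.Quotient.mk _ z))) :
    ∃ ν : AMonS S L ⊗ W ⟶ facePO hF t, ν ≫ faceE hF t = g ∧
      ∀ z, ν.left.appTop.hom (faceTheta hF t z) = theta L W (σ z) := by
  let n : (AMonS S L ⊗ W).left ⟶ (facePO hF t).left :=
    (affIso (theta L W) (theta_iso L W).2).hom ≫ Spec.map (CommRingCat.ofHom σ)
  have happ : ∀ z, n.appTop.hom (faceTheta hF t z) = theta L W (σ z) := fun z => affIso_comp_appTop _ _ σ z
  have hn : n ≫ (faceE hF t).left = g.left := by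
    refine ext_of_isAffine (CommRingCat.hom_ext (RingHom.ext fun v => ?_))
    obtain ⟨z, rfl⟩ := (theta_iso N T').2.2 v
    rw [Scheme.Hom.comp_appTop]
    show n.appTop.hom ((faceE hF t).left.appTop.hom (theta N T' z)) = _
    rw [faceE_appTop, happ, hg]
  refine ⟨Over.homMk n ?_, Over.OverMorphism.ext hn, happ⟩
  rw [← Over.w (faceE hF t), ← Category.assoc, hn, Over.w]

/-- The leg from the face. -/
noncomputable def faceNu₁ : AMonS S F ⊗ T' ⟶ facePO hF t :=
  (exists_leg hF t (faceAlpha hF t.left.appTop.hom) (AMonS.faceMap S hF ▷ T')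
    (fun z => RingHom.congr_fun (theta_face (W := T') hF) z)).choose

theorem faceNu₁_faceE : faceNu₁ hF t ≫ faceE hF t = AMonS.faceMap S hF ▷ T' :=
  (exists_leg hF t (faceAlpha hF t.left.appTop.hom) (AMonS.faceMap S hF ▷ T')
    (fun z => RingHom.congr_fun (theta_face (W := T') hF) z)).choose_spec.1

theorem faceNu₁_appTop (z : FaceRing hF t.left.appTop.hom) :
    (faceNu₁ hF t).left.appTop.hom (faceTheta hF t z) = theta F T' (faceAlpha hF t.left.appTop.hom z) :=
  (exists_leg hF t (faceAlpha hF t.left.appTop.hom) (AMonS.faceMap S hF ▷ T')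
    (fun z => RingHom.congr_fun (theta_face (W := T') hF) z)).choose_spec.2 z

/-- The leg from the closed subscheme. -/
noncomputable def faceNu₂ : AMonS S N ⊗ T ⟶ facePO hF t :=
  (exists_leg hF t (faceBeta hF t.left.appTop.hom) (AMonS S N ◁ t) (appTop_whisker_apply t)).choose

theorem faceNu₂_faceE : faceNu₂ hF t ≫ faceE hF t = AMonS S N ◁ t :=
  (exists_leg hF t (faceBeta hF t.left.appTop.hom) (AMonS S N ◁ t) (appTop_whisker_apply t)).choose_spec.1

theorem faceNu₂_appTop (z : FaceRing hF t.left.appTop.hom) :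
    (faceNu₂ hF t).left.appTop.hom (faceTheta hF t z) = theta N T (faceBeta hF t.left.appTop.hom z) :=
  (exists_leg hF t (faceBeta hF t.left.appTop.hom) (AMonS S N ◁ t) (appTop_whisker_apply t)).choose_spec.2 z

variable (ht : Thick t)

include ht in
theorem facePO_isPushout : IsPushout (AMonS S F ◁ t) (AMonS.faceMap S hF ▷ T) (faceNu₁ hF t) (faceNu₂ hF t) :=
  isPushout_of_isFibreProd (isFibreProd_face hF t.left.appTop.hom ht.surj) _ _ _ _
    (theta F T) (theta_iso F T).2 (theta F T') (theta_iso F T').2 (theta N T) (theta_iso N T).2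
    (faceTheta hF t) (faceTheta_bijective hF t) (appTop_whisker_apply t)
    (fun z => RingHom.congr_fun (theta_face (W := T) hF) z) (faceNu₁_appTop hF t) (faceNu₂_appTop hF t)

theorem bijective_map_comp {K : Type} [AddCommMonoid K] {A : Type u} [CommRing A] {W : Over S} [IsAffine W.left]
    (θ : A →+* RR W) (hθ : Function.Bijective θ) :
    Function.Bijective ((theta K W).comp (MonoidAlgebra.mapRingHom (Multiplicative K) θ)) :=
  (theta_iso K W).2.comp ⟨fun a b hab => by
    ext m
    apply hθ.1
    rw [← MonoidAlgebra.coeff_mapRingHom, hab, MonoidAlgebra.coeff_mapRingHom], mapRingHom_surjective hθ.2⟩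

theorem whisker_appTop_comp {K : Type} [AddCommMonoid K] {A B : Type u} [CommRing A] [CommRing B] {W W' : Over S}
    [IsAffine W.left] [IsAffine W'.left] (u : W' ⟶ W) (θ : A →+* RR W) (θ' : B →+* RR W') (φ : A →+* B)
    (h : ∀ a, u.left.appTop.hom (θ a) = θ' (φ a)) (z : MonoidAlgebra A (Multiplicative K)) :
    (AMonS S K ◁ u).left.appTop.hom ((theta K W).comp (MonoidAlgebra.mapRingHom (Multiplicative K) θ) z) =
      (theta K W').comp (MonoidAlgebra.mapRingHom (Multiplicative K) θ')
        (MonoidAlgebra.mapRingHom (Multiplicative K) φ z) := by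
  rw [RingHom.comp_apply, RingHom.comp_apply, appTop_whisker_apply]
  congr 1
  ext m
  simp only [MonoidAlgebra.coeff_mapRingHom, h]

include ht in
/-- Multiplying by a diagonalizable monoid preserves the pushout. -/
theorem facePO_isPushout_whisker (K : Type) [AddCommMonoid K] :
    IsPushout (AMonS S K ◁ (AMonS S F ◁ t)) (AMonS S K ◁ (AMonS.faceMap S hF ▷ T))
      (AMonS S K ◁ faceNu₁ hF t) (AMonS S K ◁ faceNu₂ hF t) :=
  isPushout_of_isFibreProd
    (isFibreProd_monoidAlgebra (isFibreProd_face hF t.left.appTop.hom ht.surj) (Multiplicative K)) _ _ _ _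
    _ (bijective_map_comp (theta F T) (theta_iso F T).2) _ (bijective_map_comp (theta F T') (theta_iso F T').2)
    _ (bijective_map_comp (theta N T) (theta_iso N T).2) _ (bijective_map_comp (faceTheta hF t) (faceTheta_bijective hF t))
    (whisker_appTop_comp _ _ _ _ (appTop_whisker_apply t))
    (whisker_appTop_comp _ _ _ _ (fun z => RingHom.congr_fun (theta_face (W := T) hF) z))
    (whisker_appTop_comp _ _ _ _ (faceNu₁_appTop hF t)) (whisker_appTop_comp _ _ _ _ (faceNu₂_appTop hF t))

end Groth.Agent.MdlA1
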