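import Groth.Agent.H23.CharPts
import Groth.Prelude.Def_Magnet4

/-! Points of a diagonalizable monoid scheme isomorphic to the affine line. -/

set_option autoImplicit false

universe u

open CategoryTheory CategoryTheory.Limits MonoidalCategory CartesianMonoidalCategory MonObj AlgebraicGeometry
open Magnet

namespace Groth.Agent.MdlA1

open Groth.Agent.H23

variable {S : Scheme.{u}} {N : Type} [AddCommMonoid N] {T T' : Over S}

/-- The character `n ↦ c ^ e n`. -/
noncomputable def powChar (e : N ≃+ ℕ) (c : Γ(T.left, ⊤)) : Multiplicative N →* Γ(T.left, ⊤) :=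
  (powersHom _ c).comp (AddMonoidHom.toMultiplicative e.toAddMonoidHom)

theorem powChar_apply (e : N ≃+ ℕ) (c : Γ(T.left, ⊤)) (n : Multiplicative N) :
    powChar e c n = c ^ e (Multiplicative.toAdd n) := rfl

/-- The point with coordinate `c`. -/
noncomputable def pt (e : N ≃+ ℕ) (c : Γ(T.left, ⊤)) : T ⟶ AMonS S N :=
  (CharPts.exists_chi_eq (powChar e c)).choose

theorem chi_pt (e : N ≃+ ℕ) (c : Γ(T.left, ⊤)) (n : Multiplicative N) :
    CharPts.chi (pt e c) n = c ^ e (Multiplicative.toAdd n) := by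
  rw [pt, (CharPts.exists_chi_eq (powChar e c)).choose_spec, powChar_apply]

/-- The coordinate of a point. -/
noncomputable def coord (e : N ≃+ ℕ) (x : T ⟶ AMonS S N) : Γ(T.left, ⊤) :=
  CharPts.chi x (Multiplicative.ofAdd (e.symm 1))

theorem pt_coord (e : N ≃+ ℕ) (x : T ⟶ AMonS S N) : pt e (coord e x) = x := by
  refine CharPts.chi_injective (MonoidHom.ext fun n => ?_)
  rw [chi_pt, coord, ← map_pow]
  refine congrArg _ (Multiplicative.toAdd.injective ?_)
  apply e.injective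
  simp

theorem pt_mul (e : N ≃+ ℕ) (c d : Γ(T.left, ⊤)) :
    (pt e c : T ⟶ AMonS S N) * pt e d = pt e (c * d) := by
  refine CharPts.chi_injective (MonoidHom.ext fun n => ?_)
  rw [CharPts.chi_mul, chi_pt, chi_pt, chi_pt, mul_pow]

theorem pt_one (e : N ≃+ ℕ) : (pt e 1 : T ⟶ AMonS S N) = 1 := by
  have h : (pt e 1 : T ⟶ AMonS S N) * 1 = 1 := by
    conv_lhs => rw [← pt_coord e (1 : T ⟶ AMonS S N), pt_mul, _root_.one_mul, pt_coord]
  rwa [_root_.mul_one] at h

theorem mul_pt_zero (e : N ≃+ ℕ) (g : T ⟶ AMonS S N) : g * pt e 0 = pt e 0 := by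
  rw [← pt_coord e g, pt_mul, MulZeroClass.mul_zero]

theorem pt_zero_mul (e : N ≃+ ℕ) (g : T ⟶ AMonS S N) : pt e 0 * g = pt e 0 := by
  rw [← pt_coord e g, pt_mul, MulZeroClass.zero_mul]

theorem pt_pow (e : N ≃+ ℕ) (c : Γ(T.left, ⊤)) :
    ∀ n : ℕ, (pt e c : T ⟶ AMonS S N) ^ n = pt e (c ^ n)
  | 0 => by rw [pow_zero, pow_zero, pt_one]
  | n + 1 => by rw [pow_succ, pow_succ, pt_pow e c n, pt_mul]

theorem comp_pt (e : N ≃+ ℕ) (t : T' ⟶ T) (c : Γ(T.left, ⊤)) :
    t ≫ pt e c = (pt e (t.left.appTop c) : T' ⟶ AMonS S N) := by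
  refine CharPts.chi_injective (MonoidHom.ext fun n => ?_)
  rw [CharPts.chi_comp, chi_pt, chi_pt]
  exact map_pow t.left.appTop.hom _ _

/-- A spectrum over `S`. -/
noncomputable abbrev aff {R : Type u} [CommRing R] (φ : Spec (CommRingCat.of R) ⟶ S) : Over S :=
  Over.mk φ

/-- An element of a ring as a function on its spectrum. -/
noncomputable def fn {R : Type u} [CommRing R] (φ : Spec (CommRingCat.of R) ⟶ S) :
    R →+* Γ((aff φ).left, ⊤) :=
  (Scheme.ΓSpecIso (CommRingCat.of R)).inv.hom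

/-- The point with coordinate `r : R` over `Spec R`. -/
noncomputable def ptR (e : N ≃+ ℕ) {R : Type u} [CommRing R] (φ : Spec (CommRingCat.of R) ⟶ S) (r : R) :
    aff φ ⟶ AMonS S N :=
  pt e (fn φ r)

/-- The morphism over `S` given by a ring map. -/
noncomputable def affMap {R R' : Type u} [CommRing R] [CommRing R'] (φ : Spec (CommRingCat.of R) ⟶ S)
    (ψ : R →+* R') : aff (Spec.map (CommRingCat.ofHom ψ) ≫ φ) ⟶ aff φ :=
  Over.homMk (Spec.map (CommRingCat.ofHom ψ)) rfl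

theorem affMap_appTop {R R' : Type u} [CommRing R] [CommRing R'] (φ : Spec (CommRingCat.of R) ⟶ S)
    (ψ : R →+* R') (r : R) :
    (affMap φ ψ).left.appTop (fn φ r) = fn (Spec.map (CommRingCat.ofHom ψ) ≫ φ) (ψ r) := by
  have h := Scheme.ΓSpecIso_inv_naturality (CommRingCat.ofHom ψ)
  exact (congr($(h) r)).symm

theorem affMap_ptR (e : N ≃+ ℕ) {R R' : Type u} [CommRing R] [CommRing R']
    (φ : Spec (CommRingCat.of R) ⟶ S) (ψ : R →+* R') (r : R) :
    affMap φ ψ ≫ ptR e φ r = ptR e (Spec.map (CommRingCat.ofHom ψ) ≫ φ) (ψ r) := by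
  rw [ptR, ptR, comp_pt, affMap_appTop]

theorem ptR_mul (e : N ≃+ ℕ) {R : Type u} [CommRing R] (φ : Spec (CommRingCat.of R) ⟶ S) (r r' : R) :
    (ptR e φ r : aff φ ⟶ AMonS S N) * ptR e φ r' = ptR e φ (r * r') := by
  rw [ptR, ptR, ptR, pt_mul, map_mul]

theorem ptR_one (e : N ≃+ ℕ) {R : Type u} [CommRing R] (φ : Spec (CommRingCat.of R) ⟶ S) :
    (ptR e φ 1 : aff φ ⟶ AMonS S N) = 1 := by
  rw [ptR, map_one, pt_one]

theorem ptR_zero (e : N ≃+ ℕ) {R : Type u} [CommRing R] (φ : Spec (CommRingCat.of R) ⟶ S) :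
    (ptR e φ 0 : aff φ ⟶ AMonS S N) = pt e 0 := by
  rw [ptR, map_zero]

theorem coord_ptR (e : N ≃+ ℕ) {R : Type u} [CommRing R] (φ : Spec (CommRingCat.of R) ⟶ S)
    (x : aff φ ⟶ AMonS S N) :
    x = ptR e φ ((Scheme.ΓSpecIso (CommRingCat.of R)).hom.hom (coord e x)) := by
  conv_lhs => rw [← pt_coord e x]
  refine congrArg (pt e) ?_
  exact (congr($((Scheme.ΓSpecIso (CommRingCat.of R)).hom_inv_id) (coord e x))).symm

end Groth.Agent.MdlA1
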