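import Groth.Agent.MdlA1.Homotopy
import Groth.Agent.MdlA1.AttrRep
import Groth.Agent.MdlA1.Points
import Mathlib.AlgebraicGeometry.ResidueField

/-! Morphisms contracted onto a section by a homotopy have connected fibres. -/

set_option autoImplicit false

universe u

open CategoryTheory CategoryTheory.Limits MonoidalCategory CartesianMonoidalCategory MonObj AlgebraicGeometry
open Magnet Opposite

namespace Groth.Agent.MdlA1

/-- Every field-valued point is joined to the section by a connected family in its fibre. -/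
def Contracts {X Y : Scheme.{u}} (j : X ⟶ Y) (s : Y ⟶ X) : Prop :=
  ∀ (L : Type u) [Field L] (z : Spec (CommRingCat.of L) ⟶ X),
    ∃ (A : Scheme.{u}) (π : A ⟶ Spec (CommRingCat.of L)) (w : A ⟶ X) (i₀ i₁ : Spec (CommRingCat.of L) ⟶ A),
      PreconnectedSpace A ∧ w ≫ j = π ≫ z ≫ j ∧ i₀ ≫ π = 𝟙 _ ∧ i₁ ≫ π = 𝟙 _ ∧ i₀ ≫ w = z ≫ j ≫ s ∧ i₁ ≫ w = z

theorem Contracts.connectedSpace_pullback {X Y : Scheme.{u}} {j : X ⟶ Y} {s : Y ⟶ X} (hs : s ≫ j = 𝟙 Y)
    (H : Contracts j s) (K : Type u) [Field K] (k : Spec (CommRingCat.of K) ⟶ Y) :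
    ConnectedSpace ↥(pullback j k) := by
  let σ : Spec (CommRingCat.of K) ⟶ pullback j k :=
    pullback.lift (k ≫ s) (𝟙 _) (by rw [Category.assoc, hs, Category.comp_id, Category.id_comp])
  let pt : ↥(Spec (CommRingCat.of K)) := default
  have key : ∀ p : ↥(pullback j k), ∃ C : Set ↥(pullback j k), _root_.IsPreconnected C ∧ σ pt ∈ C ∧ p ∈ C := fun p => by
    let q : Spec (CommRingCat.of ↑((pullback j k).residueField p)) ⟶ pullback j k :=
      (pullback j k).fromSpecResidueField p
    let z := q ≫ pullback.fst j k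
    obtain ⟨A, π, w, i₀, i₁, hA, hw, hi, hi₁, h₀, h₁⟩ := H _ z
    let W : A ⟶ pullback j k := pullback.lift w (π ≫ q ≫ pullback.snd j k)
      (by rw [hw]; simp only [z, Category.assoc, pullback.condition])
    refine ⟨Set.range W, isPreconnected_range W.continuous, ?_, ?_⟩
    · have e : i₀ ≫ W = (q ≫ pullback.snd j k) ≫ σ := by
        apply pullback.hom_ext
        · simp only [W, σ, Category.assoc, pullback.lift_fst, h₀, z]
          rw [pullback.condition_assoc]
        · simp only [W, σ, Category.assoc, pullback.lift_snd, Category.comp_id]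
          rw [← Category.assoc i₀, hi, Category.id_comp]
      refine ⟨i₀ default, ?_⟩
      rw [← Scheme.Hom.comp_apply, e, Scheme.Hom.comp_apply]
      exact congrArg σ (Subsingleton.elim _ _)
    · have e : i₁ ≫ W = q := by
        apply pullback.hom_ext
        · simp only [W, Category.assoc, pullback.lift_fst, h₁, z]
        · simp only [W, Category.assoc, pullback.lift_snd]
          rw [← Category.assoc i₁, hi₁, Category.id_comp]
      refine ⟨i₁ default, ?_⟩
      rw [← Scheme.Hom.comp_apply, e]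
      exact Scheme.fromSpecResidueField_apply p _
  haveI : Nonempty ↥(pullback j k) := ⟨σ pt⟩
  haveI : PreconnectedSpace ↥(pullback j k) := ⟨isPreconnected_of_forall (σ pt) fun p _ => by
    obtain ⟨C, hC, h₁, h₂⟩ := key p
    exact ⟨C, Set.subset_univ _, h₁, h₂, hC⟩⟩
  exact ⟨inferInstance⟩

theorem Contracts.bijective_connectedComponentsMap {X Y : Scheme.{u}} {j : X ⟶ Y} {s : Y ⟶ X} (hs : s ≫ j = 𝟙 Y)
    (H : Contracts j s) : Function.Bijective (Continuous.connectedComponentsMap (Scheme.Hom.continuous j)) := by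
  have hsj : ∀ x : X, connectedComponent (s (j x)) = connectedComponent x := fun x => by
    obtain ⟨A, π, w, i₀, i₁, hA, -, -, -, h₀, h₁⟩ := H _ (X.fromSpecResidueField x)
    refine connectedComponent_eq ((isPreconnected_range w.continuous).subset_connectedComponent
      ⟨i₁ default, ?_⟩ ⟨i₀ default, ?_⟩) |>.symm
    · rw [← Scheme.Hom.comp_apply, h₁]
      exact Scheme.fromSpecResidueField_apply x _
    · rw [← Scheme.Hom.comp_apply, h₀, Scheme.Hom.comp_apply, Scheme.Hom.comp_apply]
      exact congrArg (fun t => s (j t)) (Scheme.fromSpecResidueField_apply x _)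
  refine Function.bijective_iff_has_inverse.2 ⟨Continuous.connectedComponentsMap s.continuous, ?_, ?_⟩
  · intro c
    obtain ⟨x, rfl⟩ := ConnectedComponents.surjective_coe c
    exact ConnectedComponents.coe_eq_coe.2 (hsj x)
  · intro c
    obtain ⟨y, rfl⟩ := ConnectedComponents.surjective_coe c
    exact congrArg ConnectedComponents.mk (by rw [← Scheme.Hom.comp_apply, hs]; rfl)

variable {S : Scheme.{u}} {M : Type} [AddCommGroup M] {N : AddSubmonoid M} {X : Over S}
  (a : MonAct (AMonS S M) X) {ZN Z0 : Over S} (eN : (attr a N).RepresentableBy ZN)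
  (e0 : (attr a (unitFace N)).RepresentableBy Z0) (j : ZN ⟶ Z0)
  (hj : ∀ (T : Over S) (z : T ⟶ ZN),
    e0.homEquiv (z ≫ j) = (attrFace a (isFace_unitFace N)).app (op T) (eN.homEquiv z))

theorem map_shrink (d : N →+ ℕ) {T T' : Over S} (t : T' ⟶ T) (x : (attr a N).obj (op T)) (c : Γ(T.left, ⊤)) :
    (attr a N).map t.op (shrink d a T x c) = shrink d a T' ((attr a N).map t.op x) (t.left.appTop c) := by
  apply Subtype.ext
  show (_ ◁ t) ≫ lift _ _ ≫ x.1 = lift _ _ ≫ (_ ◁ t) ≫ x.1
  rw [← Category.assoc, ← Category.assoc]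
  refine congrArg (· ≫ x.1) ?_
  rw [lift_whiskerLeft, comp_lift, MonObj.comp_mul, whiskerLeft_fst, whiskerLeft_snd,
    whiskerLeft_snd_assoc, comp_dpt d t c]

include hj in
theorem contracts_sec [AddGroup.FG M] (hN : N.FG) : Contracts j.left (sec a eN e0).left := by
  intro L _ z
  obtain ⟨d, hd⟩ := exists_degree hN (isFace_unitFace N)
  let φ : Spec (CommRingCat.of L) ⟶ S := z ≫ ZN.hom
  let ψ : Spec (CommRingCat.of (Polynomial L)) ⟶ S := Spec.map (CommRingCat.ofHom Polynomial.C) ≫ φ
  let π : aff ψ ⟶ aff φ := affMap φ Polynomial.C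
  let zo : aff φ ⟶ ZN := Over.homMk z rfl
  let i : L → (aff φ ⟶ aff ψ) := fun r => Over.homMk (Spec.map (CommRingCat.ofHom (Polynomial.evalRingHom r))) (by
    show Spec.map _ ≫ Spec.map _ ≫ φ = φ
    rw [← Spec.map_comp_assoc, ← CommRingCat.ofHom_comp,
      show (Polynomial.evalRingHom r).comp Polynomial.C = RingHom.id L from RingHom.ext fun x => by simp,
      CommRingCat.ofHom_id, Spec.map_id, Category.id_comp])
  have hi : ∀ r, i r ≫ π = 𝟙 _ := fun r => Over.OverMorphism.ext (by
    show Spec.map _ ≫ Spec.map _ = 𝟙 _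
    rw [← Spec.map_comp, ← CommRingCat.ofHom_comp,
      show (Polynomial.evalRingHom r).comp Polynomial.C = RingHom.id L from RingHom.ext fun x => by simp,
      CommRingCat.ofHom_id, Spec.map_id])
  let w : aff ψ ⟶ ZN := eN.homEquiv.symm (shrink d a _ (eN.homEquiv (π ≫ zo)) (fn ψ Polynomial.X))
  have hir : ∀ r, eN.homEquiv (i r ≫ w) = shrink d a _ (eN.homEquiv zo) (fn φ r) := fun r => by
    rw [eN.homEquiv_comp, Equiv.apply_symm_apply, map_shrink, ← eN.homEquiv_comp, ← Category.assoc, hi,
      Category.id_comp]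
    refine congrArg (shrink d a _ (eN.homEquiv zo)) ?_
    have h := Scheme.ΓSpecIso_inv_naturality (CommRingCat.ofHom (Polynomial.evalRingHom r))
    refine (congr($(h) (Polynomial.X : Polynomial L))).symm.trans ?_
    exact congrArg (fn φ) (Polynomial.eval_X (R := L) (x := r))
  refine ⟨(aff ψ).left, π.left, w.left, (i 0).left, (i 1).left,
    inferInstanceAs (PreconnectedSpace (PrimeSpectrum (Polynomial L))), ?_, congrArg Over.Hom.left (hi 0),
    congrArg Over.Hom.left (hi 1), ?_, ?_⟩
  · refine congrArg Over.Hom.left (show w ≫ j = π ≫ zo ≫ j from e0.homEquiv.injective ?_)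
    rw [hj, Equiv.apply_symm_apply, attrFace_shrink d a (isFace_unitFace N) hd, ← hj, Category.assoc]
  · refine congrArg Over.Hom.left (show i 0 ≫ w = zo ≫ j ≫ sec a eN e0 from eN.homEquiv.injective ?_)
    rw [hir, map_zero, shrink_zero d a (isFace_unitFace N) hd, ← hj, ← homEquiv_comp_sec, Category.assoc]
  · refine congrArg Over.Hom.left (show i 1 ≫ w = zo from eN.homEquiv.injective ?_)
    rw [hir, map_one, shrink_one]

end Groth.Agent.MdlA1
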