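import Groth.Agent.MdlA1.LimClosed
import Groth.Agent.ModPairLib.Basic
import Groth.Agent.S7382
import Mathlib.AlgebraicGeometry.Normalization

/-!
# Extending finite morphisms from a quasi-compact open
-/

universe u

set_option autoImplicit false
set_option linter.style.haveILetI false

open CategoryTheory CategoryTheory.Limits AlgebraicGeometry TopologicalSpace

namespace Groth.Agent.MdlA1.FinExtend

variable {S : Scheme.{u}}

/-- The normalization of an integral morphism to an open contains the source as the preimage of the open. -/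
theorem toNormalization_open (U : S.Opens) [QuasiCompact U.ι] {T₀ : Scheme.{u}} (t₀ : T₀ ⟶ (U : Scheme.{u}))
    [IsIntegralHom t₀] [QuasiCompact (t₀ ≫ U.ι)] [QuasiSeparated (t₀ ≫ U.ι)] :
    IsOpenImmersion (t₀ ≫ U.ι).toNormalization ∧
      Set.range (t₀ ≫ U.ι).toNormalization = (t₀ ≫ U.ι).fromNormalization ⁻¹' (U : Set S) := by
  let ν := (t₀ ≫ U.ι).fromNormalization
  haveI hfst : IsIso (pullback.fst (t₀ ≫ U.ι) U.ι) := by
    refine ⟨pullback.lift (𝟙 T₀) t₀ (by rw [Category.id_comp]), pullback.hom_ext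
      (by rw [Category.assoc, pullback.lift_fst, Category.comp_id, Category.id_comp]) ?_, pullback.lift_fst _ _ _⟩
    rw [Category.assoc, pullback.lift_snd, Category.id_comp, ← cancel_mono U.ι]
    simpa using pullback.condition
  haveI : IsIntegralHom (pullback.snd (t₀ ≫ U.ι) U.ι) := by
    have h : pullback.snd (t₀ ≫ U.ι) U.ι = pullback.fst (t₀ ≫ U.ι) U.ι ≫ t₀ := by
      rw [← cancel_mono U.ι, Category.assoc, ← pullback.condition]
    rw [h]; infer_instance
  let e : T₀ ⟶ pullback ν U.ι :=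
    inv (pullback.fst (t₀ ≫ U.ι) U.ι) ≫ (pullback.snd (t₀ ≫ U.ι) U.ι).toNormalization ≫
      (t₀ ≫ U.ι).normalizationPullback U.ι
  haveI : IsIso e := inferInstance
  have he : (t₀ ≫ U.ι).toNormalization = e ≫ pullback.fst _ _ := by
    simp only [e, ν, Category.assoc, Scheme.Hom.toNormalization_normalizationPullback_fst]
    rw [IsIso.inv_hom_id_assoc]
  refine ⟨by rw [he]; infer_instance, ?_⟩
  rw [he, Scheme.Hom.comp_base, TopCat.coe_comp, Set.range_comp,
    Function.Surjective.range_eq (show Function.Surjective e from (Scheme.homeoOfIso (asIso e)).surjective),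
    Set.image_univ, Scheme.Pullback.range_fst, Scheme.Opens.range_ι]

/-- A finite morphism to a quasi-compact open extends to a finite morphism with schematically dense source. -/
theorem exists_finite_extend [CompactSpace S] [QuasiSeparatedSpace S] (U : S.Opens) [QuasiCompact U.ι]
    {T₀ : Scheme.{u}} (t₀ : T₀ ⟶ (U : Scheme.{u})) [IsFinite t₀] :
    ∃ (T : Scheme.{u}) (t : T ⟶ S) (j : T₀ ⟶ T), IsFinite t ∧ IsOpenImmersion j ∧
      IsSchemeTheoreticallyDominant j ∧ Set.range j.base = t.base ⁻¹' (U : Set S) ∧ j ≫ t = t₀ ≫ U.ι := by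
  classical
  haveI : QuasiSeparated (t₀ ≫ U.ι) := inferInstance
  haveI : QuasiCompact (t₀ ≫ U.ι) := inferInstance
  obtain ⟨hoi, hrange⟩ := toNormalization_open U t₀
  haveI := hoi
  obtain ⟨I, _, hdir, _, D, c, hc, hD, ⟨e⟩⟩ := S7382.result (t₀ ≫ U.ι).fromNormalization
  haveI : IsDirectedOrder I := hdir
  haveI : IsConnected Iᵒᵖ := IsCofiltered.isConnected _
  let F := D ⋙ Over.forget S
  let cF : Cone F := (Over.forget S).mapCone c
  have hcF : IsLimit cF := isLimitOfPreserves (Over.forget S) hc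
  haveI hA : ∀ {i j : Iᵒᵖ} (a : i ⟶ j), IsAffineHom (F.map a) := by
    intro i j a
    haveI := (hD i).1
    haveI := (hD j).1
    haveI : IsAffineHom ((D.map a).left ≫ (D.obj j).hom) := by rw [Over.w]; infer_instance
    exact IsAffineHom.of_comp (D.map a).left (D.obj j).hom
  haveI : IsAffineHom (t₀ ≫ U.ι).fromNormalization := inferInstance
  let i₀ : Iᵒᵖ := Classical.arbitrary _
  -- the open part of the system
  let Ω : (F.obj i₀).Opens := (D.obj i₀).hom ⁻¹ᵁ U
  haveI : CompactSpace (Ω : Scheme.{u}) := by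
    haveI : IsFinite (D.obj i₀).hom := (hD i₀).1
    have hq : QuasiCompact ((D.obj i₀).hom ∣_ U) :=
      IsZariskiLocalAtTarget.restrict (P := @QuasiCompact) inferInstance _
    haveI : CompactSpace (U : Scheme.{u}) := QuasiCompact.compactSpace_of_compactSpace U.ι
    haveI : QuasiSeparatedSpace (U : Scheme.{u}) := U.ι.isOpenEmbedding.quasiSeparatedSpace
    exact (quasiCompact_iff_compactSpace _).mp hq
  have hw : ∀ i, (c.π.app i).left ≫ (D.obj i).hom = c.pt.hom := fun i => Over.w (c.π.app i)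
  -- the embedding of the source in the limit
  let j₁ : T₀ ⟶ c.pt.left := (t₀ ≫ U.ι).toNormalization ≫ e.inv.left
  haveI : IsIso e.inv.left := inferInstanceAs (IsIso ((Over.forget S).map e.inv))
  have hj₁ : j₁ ≫ c.pt.hom = t₀ ≫ U.ι := by
    refine (Category.assoc _ _ _).trans ?_
    rw [Over.w e.inv]
    exact Scheme.Hom.toNormalization_fromNormalization _
  have hpre : cF.π.app i₀ ⁻¹ᵁ Ω = c.pt.hom ⁻¹ᵁ U := by
    rw [← hw i₀, Scheme.Hom.comp_preimage]
    rfl
  have hr₁ : Set.range j₁ = c.pt.hom ⁻¹' (U : Set S) := by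
    ext x
    constructor
    · rintro ⟨y, rfl⟩
      show c.pt.hom (j₁ y) ∈ U
      rw [show c.pt.hom (j₁ y) = (t₀ ≫ U.ι) y from congr($hj₁ y)]
      exact (t₀ y).2
    · intro hx
      have hx' : e.hom.left x ∈ Set.range (t₀ ≫ U.ι).toNormalization := by
        rw [hrange]
        show (t₀ ≫ U.ι).fromNormalization (e.hom.left x) ∈ U
        rw [show (t₀ ≫ U.ι).fromNormalization (e.hom.left x) = c.pt.hom x from congr($(Over.w e.hom) x)]
        exact hx
      obtain ⟨y, hy⟩ := hx'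
      refine ⟨y, ?_⟩
      show e.inv.left ((t₀ ≫ U.ι).toNormalization y) = x
      rw [hy]
      exact congr($(congrArg CommaMorphism.left e.hom_inv_id) x)
  let W : c.pt.left.Opens := (c.π.app i₀).left ⁻¹ᵁ Ω
  haveI hop : IsOpenImmersion e.inv.left := inferInstance
  haveI : IsOpenImmersion j₁ := @IsOpenImmersion.comp _ _ _ _ _ hoi hop
  let eT : T₀ ≅ (W : Scheme.{u}) := IsOpenImmersion.isoOfRangeEq j₁ W.ι (by
    rw [hr₁, Scheme.Opens.range_ι]
    exact congrArg (fun V : cF.pt.Opens => (V : Set cF.pt)) hpre.symm)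
  have heT : eT.hom ≫ W.ι = j₁ := IsOpenImmersion.isoOfRangeEq_hom_fac _ _ _
  let E := opensCone F cF i₀ Ω
  let a₀ : Over i₀ := Over.mk (𝟙 i₀)
  let pE : ∀ l, (W : Scheme.{u}) ⟶ (opensDiagram F i₀ Ω).obj l := fun l => E.π.app l
  haveI : CompactSpace ((opensDiagram F i₀ Ω).obj a₀) := by
    show CompactSpace (F.map (𝟙 i₀) ⁻¹ᵁ Ω : Scheme.{u})
    rw [F.map_id]
    exact ‹CompactSpace (Ω : Scheme.{u})›
  haveI hfinE : IsFinite (pE a₀) := by
    haveI := (hD i₀).1
    let σ : (opensDiagram F i₀ Ω).obj a₀ ⟶ (U : Scheme.{u}) :=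
      (D.obj i₀).hom.resLE U (F.map (𝟙 i₀) ⁻¹ᵁ Ω) (by rw [F.map_id]; exact le_rfl)
    have hσ : pE a₀ ≫ σ = eT.inv ≫ t₀ := by
      have hσι : σ ≫ U.ι = (F.map (𝟙 i₀) ⁻¹ᵁ Ω).ι ≫ (D.obj i₀).hom := Scheme.Hom.resLE_comp_ι _ _
      rw [← cancel_mono U.ι, Category.assoc, Category.assoc, hσι, ← hj₁, ← heT,
        Category.assoc, Iso.inv_hom_id_assoc, ← hw i₀]
      show (cF.π.app i₀).resLE _ _ _ ≫ (F.map (𝟙 i₀) ⁻¹ᵁ Ω).ι ≫ (D.obj i₀).hom = _
      rw [Scheme.Hom.resLE_comp_ι_assoc]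
      rfl
    haveI : IsFinite (pE a₀ ≫ σ) := by rw [hσ]; infer_instance
    haveI : IsFinite σ := by
      refine (LimClosed.resLE_iff (P := @IsFinite) _ _ _ _ ?_).2
        (IsZariskiLocalAtTarget.restrict (P := @IsFinite) inferInstance _)
      rw [F.map_id]; rfl
    exact IsFinite.of_comp (pE a₀) σ
  haveI : IsFinite (E.π.app a₀) := hfinE
  obtain ⟨k, -, hk⟩ := LimClosed.exists_isClosedImmersion (opensDiagram F i₀ Ω) E
    (isLimitOpensCone F cF hcF i₀ Ω) a₀
  let Wk : (F.obj k.left).Opens := F.map k.hom ⁻¹ᵁ Ω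
  haveI : IsClosedImmersion (pE k) := hk
  let g₁ : T₀ ⟶ (Wk : Scheme.{u}) := eT.hom ≫ pE k
  haveI : IsClosedImmersion g₁ := @IsClosedImmersion.comp _ _ _ eT.hom (pE k) inferInstance hk
  have hWk : Wk = (D.obj k.left).hom ⁻¹ᵁ U := by
    show F.map k.hom ⁻¹ᵁ ((D.obj i₀).hom ⁻¹ᵁ U) = _
    rw [← Scheme.Hom.comp_preimage]
    exact congrArg (fun p : (D.obj k.left).left ⟶ S => p ⁻¹ᵁ U) (Over.w (D.map k.hom))
  let g : T₀ ⟶ (D.obj k.left).left := g₁ ≫ Wk.ι
  have hg : g ≫ (D.obj k.left).hom = t₀ ≫ U.ι := by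
    rw [← hj₁, ← heT, ← hw k.left]
    simp only [g, g₁, Category.assoc]
    refine congrArg (eT.hom ≫ ·) ?_
    show (cF.π.app k.left).resLE _ _ _ ≫ (F.map k.hom ⁻¹ᵁ Ω).ι ≫ _ = _
    rw [Scheme.Hom.resLE_comp_ι_assoc]
    rfl
  haveI hfk : IsFinite (D.obj k.left).hom := (hD k.left).1
  haveI : QuasiCompact (g ≫ (D.obj k.left).hom) := by rw [hg]; infer_instance
  haveI : QuasiCompact g := QuasiCompact.of_comp g (D.obj k.left).hom
  haveI : IsImmersion g := inferInstanceAs (IsImmersion (g₁ ≫ Wk.ι))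
  refine ⟨g.image, g.imageι ≫ (D.obj k.left).hom, g.toImage, inferInstance, inferInstance,
    ModPairLib.isSchemeTheoreticallyDominant_toImage g, ?_, ?_⟩
  · have hcl : closure (Set.range g) = Set.range g.imageι := by
      rw [Scheme.IdealSheafData.range_subschemeι, Scheme.Hom.support_ker]
    have hclosed : IsClosed (Set.range g₁) := g₁.isClosedEmbedding.isClosed_range
    refine Set.ext fun y => ⟨?_, fun hy => ?_⟩
    · rintro ⟨x, rfl⟩
      show (g.toImage ≫ g.imageι ≫ (D.obj k.left).hom) x ∈ U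
      rw [← Category.assoc, g.toImage_imageι, hg]
      exact (t₀ x).2
    · have hyW : g.imageι y ∈ Wk := hWk ▸ hy
      have h1 : g.imageι y ∈ closure (Set.range g) := hcl ▸ ⟨y, rfl⟩
      have h2 : (⟨g.imageι y, hyW⟩ : (Wk : Scheme.{u})) ∈ closure (Set.range g₁) := by
        rw [Wk.ι.isOpenEmbedding.isInducing.closure_eq_preimage_closure_image]
        show g.imageι y ∈ closure (Wk.ι '' Set.range g₁)
        rwa [← Set.range_comp]
      rw [hclosed.closure_eq] at h2
      obtain ⟨x, hx⟩ := h2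
      refine ⟨x, g.imageι.isEmbedding.injective ?_⟩
      show (g.toImage ≫ g.imageι) x = _
      rw [g.toImage_imageι]
      exact congrArg Wk.ι hx
  · rw [← Category.assoc, g.toImage_imageι, hg]

end Groth.Agent.MdlA1.FinExtend
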