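import Mathlib.AlgebraicGeometry.AffineScheme
import Mathlib.RingTheory.Localization.Away.Basic
import Mathlib.Algebra.Polynomial.AlgebraMap
import Mathlib.Algebra.Polynomial.Div

/-! Maps out of the affine line over a ring agreeing on all neighbourhoods of the zero section. -/

set_option autoImplicit false

universe u

open CategoryTheory AlgebraicGeometry Polynomial

namespace Groth.Agent.MdlA1

theorem eq_zero_of_forall_X_pow_dvd_unit_mul {A : Type u} [CommRing A] (F : A[X])
    (h : ∀ n : ℕ, ∃ H : A[X], IsUnit (H.coeff 0) ∧ X ^ (n + 1) ∣ H * F) : F = 0 := by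
  have key : ∀ n : ℕ, X ^ n ∣ F := by
    intro n
    induction n with
    | zero => simp
    | succ n ih =>
      obtain ⟨E, rfl⟩ := ih
      obtain ⟨H, hH, Q, hQ⟩ := h n
      have h1 : H * E = X * Q := by
        refine ((monic_X_pow (R := A) n).isRegular.left : IsLeftRegular (X ^ n : A[X])) ?_
        show X ^ n * (H * E) = X ^ n * (X * Q)
        linear_combination hQ
      have h2 := congrArg (fun p => p.coeff 0) h1
      simp only [mul_coeff_zero, coeff_X_zero, zero_mul] at h2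
      obtain ⟨E', rfl⟩ := X_dvd_iff.mpr (hH.mul_right_eq_zero.mp h2)
      exact ⟨E', by ring⟩
  ext i
  obtain ⟨E, rfl⟩ := key (i + 1)
  rw [coeff_X_pow_mul', if_neg (by omega), coeff_zero]

/-- In a localization of `A[X]` at an element whose constant coefficient becomes invertible, an element
divisible by every power of `X` is zero. -/
theorem eq_zero_of_forall_mem_X_pow {A L : Type u} [CommRing A] [CommRing L] [Algebra A[X] L] (g : A[X])
    [IsLocalization.Away (g * C (g.coeff 0)) L] (d : L)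
    (h : ∀ n : ℕ, d ∈ (Ideal.span {(X : A[X]) ^ (n + 1)}).map (algebraMap A[X] L)) : d = 0 := by
  let g' := g * C (g.coeff 0)
  obtain ⟨f, ⟨s, hs⟩, hfs⟩ := IsLocalization.exists_mk'_eq (Submonoid.powers g') d
  obtain rfl : IsLocalization.mk' L f ⟨s, hs⟩ = d := hfs
  have hu : IsUnit (((algebraMap A[X] L).comp C) (g.coeff 0)) := by
    have : IsUnit (algebraMap A[X] L (g * C (g.coeff 0))) := IsLocalization.Away.algebraMap_isUnit _
    rw [map_mul] at this
    exact isUnit_of_mul_isUnit_right this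
  let A0 := Localization.Away (g.coeff 0)
  let ι : A0 →+* L := IsLocalization.Away.lift (g.coeff 0) hu
  have hfac : (eval₂RingHom ι (algebraMap A[X] L X)).comp (mapRingHom (algebraMap A A0)) =
      algebraMap A[X] L := by
    refine Polynomial.ringHom_ext (fun a => ?_) ?_
    · simp only [RingHom.comp_apply, coe_mapRingHom, map_C, coe_eval₂RingHom, eval₂_C]
      exact IsLocalization.Away.lift_eq (S := A0) _ hu a
    · simp
  have hF : mapRingHom (algebraMap A A0) f = 0 := by
    refine eq_zero_of_forall_X_pow_dvd_unit_mul _ fun n => ?_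
    obtain ⟨t, ht, hmem⟩ := (IsLocalization.mk'_mem_map_algebraMap_iff
      (Submonoid.powers g') L _ _ _).mp (h n)
    refine ⟨mapRingHom (algebraMap A A0) t, ?_, ?_⟩
    · obtain ⟨j, rfl⟩ := ht
      have hc : IsUnit (algebraMap A A0 (g.coeff 0)) := IsLocalization.Away.algebraMap_isUnit _
      show IsUnit (constantCoeff (mapRingHom (algebraMap A A0) (g' ^ j)))
      rw [map_pow, map_pow, constantCoeff_apply, coe_mapRingHom, coeff_map, mul_coeff_zero, coeff_C_zero,
        map_mul]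
      exact (hc.mul hc).pow j
    · obtain ⟨Q, hQ⟩ := Ideal.mem_span_singleton.mp hmem
      refine ⟨mapRingHom (algebraMap A A0) Q, ?_⟩
      rw [← map_mul, hQ, map_mul, map_pow, coe_mapRingHom, map_X]
  have : algebraMap A[X] L f = 0 := by rw [← hfac, RingHom.comp_apply, hF, map_zero]
  rw [IsLocalization.mk'_eq_iff_eq_mul, zero_mul, this]

/-- Two maps on the affine line over a ring which agree on every neighbourhood `X ^ (n + 1) = 0` of
the zero section agree near every point of the zero section. -/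
theorem exists_open_agree {A : Type u} [CommRing A] {Z : Scheme.{u}}
    (g₁ g₂ : Spec (CommRingCat.of A[X]) ⟶ Z)
    (h : ∀ n : ℕ, Spec.map (CommRingCat.ofHom (Ideal.Quotient.mk (Ideal.span {(X : A[X]) ^ (n + 1)}))) ≫ g₁ =
      Spec.map (CommRingCat.ofHom (Ideal.Quotient.mk (Ideal.span {(X : A[X]) ^ (n + 1)}))) ≫ g₂)
    (q : Spec (CommRingCat.of A[X])) (hq : (X : A[X]) ∈ (q : PrimeSpectrum A[X]).asIdeal) :
    ∃ U : (Spec (CommRingCat.of A[X])).Opens, q ∈ U ∧ U.ι ≫ g₁ = U.ι ≫ g₂ := by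
  have hpt : g₁ q = g₂ q := by
    obtain ⟨w, hw⟩ : q ∈ Set.range
        (Spec.map (CommRingCat.ofHom (Ideal.Quotient.mk (Ideal.span {(X : A[X]) ^ (0 + 1)})))) := by
      have hr := range_comap_of_surjective _
        (Ideal.Quotient.mk (Ideal.span {(X : A[X]) ^ (0 + 1)})) Ideal.Quotient.mk_surjective
      refine hr.ge ?_
      intro x hx
      rw [Ideal.mk_ker, pow_one] at hx
      exact Ideal.mem_of_dvd _ (Ideal.mem_span_singleton.mp hx) hq
    rw [← hw, ← Scheme.Hom.comp_apply, h 0, Scheme.Hom.comp_apply]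
  obtain ⟨V, hV, hqV, -⟩ := exists_isAffineOpen_mem_and_subset (x := g₁ q) (U := ⊤) trivial
  obtain ⟨_, ⟨_, ⟨g, rfl⟩, rfl⟩, hqg, hgV⟩ := PrimeSpectrum.isBasis_basic_opens.exists_subset_of_mem_open
    (show q ∈ (g₁ ⁻¹ᵁ V ⊓ g₂ ⁻¹ᵁ V : (Spec (CommRingCat.of A[X])).Opens) from
      ⟨hqV, show g₂ q ∈ V from hpt ▸ hqV⟩) (g₁ ⁻¹ᵁ V ⊓ g₂ ⁻¹ᵁ V).2
  let L := Localization.Away (g * C (g.coeff 0))
  let l : Spec (CommRingCat.of L) ⟶ Spec (CommRingCat.of A[X]) :=
    Spec.map (CommRingCat.ofHom (algebraMap A[X] L))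
  have hrange : Set.range l = (PrimeSpectrum.basicOpen (g * C (g.coeff 0)) : Set (PrimeSpectrum A[X])) :=
    PrimeSpectrum.localization_away_comap_range L _
  have hql : q ∈ Set.range l := by
    refine hrange.ge ?_
    rw [PrimeSpectrum.basicOpen_mul]
    refine ⟨hqg, fun hg0 => hqg ?_⟩
    show g ∈ q.asIdeal
    rw [← sub_add_cancel g (C (g.coeff 0))]
    refine add_mem (Ideal.mem_of_dvd _ (X_dvd_iff.mpr ?_) hq) hg0
    simp
  have hlV : ∀ z, l z ∈ g₁ ⁻¹ᵁ V ⊓ g₂ ⁻¹ᵁ V := fun z => hgV (PrimeSpectrum.basicOpen_mul_le_left _ _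
    (hrange.le ⟨z, rfl⟩))
  obtain ⟨ψ₁, hψ₁⟩ := Spec.map_surjective (IsOpenImmersion.lift hV.fromSpec (l ≫ g₁)
    (by rw [hV.range_fromSpec]; rintro _ ⟨z, rfl⟩; exact (hlV z).1))
  obtain ⟨ψ₂, hψ₂⟩ := Spec.map_surjective (IsOpenImmersion.lift hV.fromSpec (l ≫ g₂)
    (by rw [hV.range_fromSpec]; rintro _ ⟨z, rfl⟩; exact (hlV z).2))
  have hψ : ψ₁ = ψ₂ := by
    ext a
    rw [← sub_eq_zero]
    refine eq_zero_of_forall_mem_X_pow g _ fun n => ?_
    let I : Ideal A[X] := Ideal.span {(X : A[X]) ^ (n + 1)}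
    let π := CommRingCat.ofHom (Ideal.Quotient.mk (I.map (algebraMap A[X] L)))
    have hπ : ψ₁ ≫ π = ψ₂ ≫ π := by
      apply Spec.map_injective
      rw [Spec.map_comp, Spec.map_comp, ← cancel_mono hV.fromSpec, Category.assoc, Category.assoc, hψ₁,
        hψ₂, IsOpenImmersion.lift_fac, IsOpenImmersion.lift_fac]
      have hfac : CommRingCat.ofHom (algebraMap A[X] L) ≫ π =
          CommRingCat.ofHom (Ideal.Quotient.mk I) ≫
            CommRingCat.ofHom (Ideal.quotientMap _ (algebraMap A[X] L) Ideal.le_comap_map) :=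
        CommRingCat.hom_ext (RingHom.ext fun x => rfl)
      rw [← Category.assoc, ← Category.assoc, ← Spec.map_comp, hfac, Spec.map_comp, Category.assoc,
        Category.assoc, h n]
    exact Ideal.Quotient.eq.mp congr($(hπ) a)
  have hl : l ≫ g₁ = l ≫ g₂ := by
    rw [← IsOpenImmersion.lift_fac hV.fromSpec (l ≫ g₁) (by rw [hV.range_fromSpec]; rintro _ ⟨z, rfl⟩; exact (hlV z).1),
      ← IsOpenImmersion.lift_fac hV.fromSpec (l ≫ g₂) (by rw [hV.range_fromSpec]; rintro _ ⟨z, rfl⟩; exact (hlV z).2),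
      ← hψ₁, ← hψ₂, hψ]
  have : IsOpenImmersion l := IsOpenImmersion.of_isLocalization (g * C (g.coeff 0))
  refine ⟨l.opensRange, hql, ?_⟩
  rw [← Scheme.Hom.isoOpensRange_inv_comp l, Category.assoc, Category.assoc, hl]

end Groth.Agent.MdlA1
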