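import Groth.Prelude.Def_Magnet3
import Mathlib.AlgebraicGeometry.Morphisms.Flat
import Mathlib.AlgebraicGeometry.Morphisms.UniversallyOpen
import Mathlib.AlgebraicGeometry.Pullbacks

/-! Translation of a scheme with action by an invertible family of scalars. -/

set_option autoImplicit false

universe u

open CategoryTheory CategoryTheory.Limits MonoidalCategory CartesianMonoidalCategory MonObj AlgebraicGeometry
open Magnet

namespace Groth.Agent.MdlA1

variable {S : Scheme.{u}} {A X Y G : Over S} [MonObj A]

/-- `(x, γ) ↦ (g(γ) • x, γ)`. -/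
noncomputable def trans (a : MonAct A X) (g : G ⟶ A) : X ⊗ G ⟶ X ⊗ G :=
  lift (lift (snd X G ≫ g) (fst X G) ≫ a.act) (snd X G)

/-- `(x, γ) ↦ g(γ) • x`. -/
noncomputable def theta (a : MonAct A X) (g : G ⟶ A) : X ⊗ G ⟶ X :=
  lift (snd X G ≫ g) (fst X G) ≫ a.act

theorem trans_fst (a : MonAct A X) (g : G ⟶ A) : trans a g ≫ fst X G = theta a g := lift_fst _ _

theorem trans_snd (a : MonAct A X) (g : G ⟶ A) : trans a g ≫ snd X G = snd X G := lift_snd _ _

theorem lift_theta (a : MonAct A X) (g : G ⟶ A) {T : Over S} (x : T ⟶ X) (γ : T ⟶ G) :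
    lift x γ ≫ theta a g = lift (γ ≫ g) x ≫ a.act := by
  rw [theta, comp_lift_assoc, lift_fst, lift_snd_assoc]

theorem trans_inv (a : MonAct A X) {g g' : G ⟶ A} (h : g * g' = 1) :
    trans a g' ≫ trans a g = 𝟙 _ := by
  apply CartesianMonoidalCategory.hom_ext
  · rw [Category.assoc, trans_fst, Category.id_comp, theta, comp_lift_assoc, ← Category.assoc (trans a g'),
      trans_snd, trans_fst, theta, ← a.lift_mul_act, ← MonObj.comp_mul, h, MonObj.comp_one, a.lift_one_act]
  · rw [Category.assoc, trans_snd, trans_snd, Category.id_comp]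

/-- The translation as an automorphism. -/
noncomputable def transIso (a : MonAct A X) (g g' : G ⟶ A) (h : g * g' = 1) (h' : g' * g = 1) :
    X ⊗ G ≅ X ⊗ G where
  hom := trans a g
  inv := trans a g'
  hom_inv_id := trans_inv a h'
  inv_hom_id := trans_inv a h

theorem trans_natural {a : MonAct A X} {b : MonAct A Y} {f : X ⟶ Y} (hf : MonAct.IsEquivariant a b f)
    (g : G ⟶ A) : trans a g ≫ (f ▷ G) = (f ▷ G) ≫ trans b g := by
  apply CartesianMonoidalCategory.hom_ext
  · rw [Category.assoc, whiskerRight_fst, Category.assoc, trans_fst, ← Category.assoc (trans a g), trans_fst,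
      theta, theta, Category.assoc, hf, lift_whiskerLeft_assoc, comp_lift_assoc, whiskerRight_fst,
      whiskerRight_snd_assoc]
  · rw [Category.assoc, whiskerRight_snd, trans_snd, Category.assoc, trans_snd, whiskerRight_snd]

theorem theta_natural {a : MonAct A X} {b : MonAct A Y} {f : X ⟶ Y} (hf : MonAct.IsEquivariant a b f)
    (g : G ⟶ A) : theta a g ≫ f = (f ▷ G) ≫ theta b g := by
  rw [← trans_fst a g, Category.assoc, ← whiskerRight_fst f G, ← Category.assoc, trans_natural hf g,
    Category.assoc, trans_fst]

instance fst_flat [Flat G.hom] : Flat (fst X G).left :=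
  MorphismProperty.pullback_fst (P := @Flat) X.hom G.hom inferInstance

instance fst_lfp [LocallyOfFinitePresentation G.hom] : LocallyOfFinitePresentation (fst X G).left :=
  MorphismProperty.pullback_fst (P := @LocallyOfFinitePresentation) X.hom G.hom inferInstance

theorem isIso_trans_left (a : MonAct A X) (g g' : G ⟶ A) (h : g * g' = 1) (h' : g' * g = 1) :
    IsIso (trans a g).left :=
  ((Over.forget S).mapIso (transIso a g g' h h')).isIso_hom

theorem theta_flat (a : MonAct A X) (g g' : G ⟶ A) (h : g * g' = 1) (h' : g' * g = 1) [Flat G.hom] :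
    Flat (theta a g).left := by
  haveI := isIso_trans_left a g g' h h'
  rw [← trans_fst, Over.comp_left]
  infer_instance

theorem theta_lfp (a : MonAct A X) (g g' : G ⟶ A) (h : g * g' = 1) (h' : g' * g = 1)
    [LocallyOfFinitePresentation G.hom] : LocallyOfFinitePresentation (theta a g).left := by
  haveI := isIso_trans_left a g g' h h'
  rw [← trans_fst, Over.comp_left]
  infer_instance

end Groth.Agent.MdlA1
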