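import Groth.Agent.MdlA1.Orbit
import Groth.Agent.MdlA1.Theta
import Groth.Agent.MdlA1.Gm
import Groth.Agent.MdlA1.PolyAgree
import Groth.Agent.H28.StableOpen
import Mathlib.AlgebraicGeometry.Morphisms.Flat

/-! Equivariant families out of the affine line are determined near the zero section. -/

set_option autoImplicit false

universe u

open CategoryTheory CategoryTheory.Limits MonoidalCategory CartesianMonoidalCategory MonObj AlgebraicGeometry
open Magnet

namespace Groth.Agent.MdlA1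

open Groth.Agent.H23

section Agree

/-- The largest open on which two morphisms agree. -/
noncomputable def agreeOpen {X Y : Scheme.{u}} (f g : X ⟶ Y) : X.Opens :=
  ⨆ (U : X.Opens) (_ : U.ι ≫ f = U.ι ≫ g), U

theorem le_agreeOpen {X Y : Scheme.{u}} {f g : X ⟶ Y} (U : X.Opens) (h : U.ι ≫ f = U.ι ≫ g) :
    U ≤ agreeOpen f g :=
  le_iSup₂_of_le U h le_rfl

theorem eq_of_agreeOpen_eq_top {X Y : Scheme.{u}} (f g : X ⟶ Y) (h : agreeOpen f g = ⊤) : f = g := by
  rw [agreeOpen, iSup_subtype'] at h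
  exact (X.openCoverOfIsOpenCover _ h).hom_ext _ _ fun U => U.2

end Agree

variable {S : Scheme.{u}}

/-- An invertible function gives an invertible point of the multiplicative group. -/
theorem exists_unit_point {M : Type} [AddCommGroup M] (Nm : AddSubmonoid M) (e : Nm ≃+ ℕ) (m₀ : M →+ ℤ)
    (hm₀ : ∀ n : Nm, m₀ n = (e n : ℤ)) {T : Over S} (w : Γ(T.left, ⊤)ˣ) :
    ∃ g g' : T ⟶ AMonS S M, g * g' = 1 ∧ g' * g = 1 ∧
      g ≫ AMonS.map S Nm.subtype = pt e (w : Γ(T.left, ⊤)) := by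
  let χ : Γ(T.left, ⊤)ˣ → (Multiplicative M →* Γ(T.left, ⊤)) := fun v =>
    (Units.coeHom _).comp ((zpowersHom _ v).comp (AddMonoidHom.toMultiplicative m₀))
  obtain ⟨g, hg⟩ := CharPts.exists_chi_eq (χ w)
  obtain ⟨g', hg'⟩ := CharPts.exists_chi_eq (χ w⁻¹)
  have hone : ∀ p q : T ⟶ AMonS S M, (∀ m, CharPts.chi p m * CharPts.chi q m = 1) → p * q = 1 := by
    intro p q h
    have h1 : ∀ y : T ⟶ AMonS S M, p * q * y = y := fun y => CharPts.chi_injective (MonoidHom.ext fun m => by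
      rw [CharPts.chi_mul, CharPts.chi_mul, h, _root_.one_mul])
    simpa only [_root_.mul_one] using h1 1
  have hv : ∀ (v : Γ(T.left, ⊤)ˣ) m, χ v m * χ v⁻¹ m = 1 := fun v m => by
    show ((v ^ m₀ (Multiplicative.toAdd m) : Γ(T.left, ⊤)ˣ) : Γ(T.left, ⊤)) *
      ((v⁻¹ ^ m₀ (Multiplicative.toAdd m) : Γ(T.left, ⊤)ˣ) : Γ(T.left, ⊤)) = 1
    rw [← Units.val_mul, ← mul_zpow, mul_inv_cancel, one_zpow, Units.val_one]
  refine ⟨g, g', hone _ _ fun m => by rw [hg, hg', hv], hone _ _ fun m => ?_, ?_⟩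
  · rw [_root_.mul_comm, hg, hg', hv]
  · refine CharPts.chi_injective (MonoidHom.ext fun n => ?_)
    rw [CharPts.chi_map, hg, chi_pt]
    show ((w ^ m₀ ((Multiplicative.toAdd n : Nm) : M) : Γ(T.left, ⊤)ˣ) : Γ(T.left, ⊤)) = _
    rw [hm₀, zpow_natCast, Units.val_pow_eq_pow_val]

variable {N : Type} [AddCommMonoid N] (e : N ≃+ ℕ) {X Y : Over S}

/-- Two maps out of `A¹ × Y` agreeing on all infinitesimal neighbourhoods of the zero section agree near
the zero section. -/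
theorem mem_agreeOpen_of_zero (γ₁ γ₂ : AMonS S N ⊗ Y ⟶ X)
    (h : ∀ (T : Over S) (c : Γ(T.left, ⊤)) (t : T ⟶ Y), IsNilpotent c →
      lift (pt e c) t ≫ γ₁ = lift (pt e c) t ≫ γ₂)
    {K : Type u} [Field K] (φ : Spec (CommRingCat.of K) ⟶ S) (x : aff φ ⟶ AMonS S N ⊗ Y)
    (hx : x ≫ fst _ _ = pt e 0) (z : ↥(aff φ).left) :
    x.left z ∈ agreeOpen γ₁.left γ₂.left := by
  obtain ⟨W, hW, hyW, -⟩ := exists_isAffineOpen_mem_and_subset
    (x := (snd (AMonS S N) Y).left (x.left z)) (U := ⊤) trivial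
  let A : CommRingCat.{u} := Γ(Y.left, W)
  let φP : Spec (CommRingCat.of (Polynomial A)) ⟶ S :=
    Spec.map (CommRingCat.ofHom (Polynomial.C : A →+* Polynomial A)) ≫ hW.fromSpec ≫ Y.hom
  let yP : aff φP ⟶ Y :=
    Over.homMk (Spec.map (CommRingCat.ofHom Polynomial.C) ≫ hW.fromSpec) (Category.assoc _ _ _)
  let q : aff φP ⟶ AMonS S N ⊗ Y := lift (ptR e φP Polynomial.X) yP
  have hq : ∀ n : ℕ, Spec.map (CommRingCat.ofHom (Ideal.Quotient.mk
      (Ideal.span {(Polynomial.X : Polynomial A) ^ (n + 1)}))) ≫ (q ≫ γ₁).left =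
      Spec.map (CommRingCat.ofHom (Ideal.Quotient.mk
      (Ideal.span {(Polynomial.X : Polynomial A) ^ (n + 1)}))) ≫ (q ≫ γ₂).left := by
    intro n
    let jn := affMap φP (Ideal.Quotient.mk (Ideal.span {(Polynomial.X : Polynomial A) ^ (n + 1)}))
    refine congrArg Over.Hom.left (?_ : jn ≫ q ≫ γ₁ = jn ≫ q ≫ γ₂)
    simp only [← Category.assoc, q, jn, comp_lift, affMap_ptR]
    refine h _ _ _ ⟨n + 1, ?_⟩
    rw [← map_pow, ← map_pow, Ideal.Quotient.eq_zero_iff_mem.mpr (Ideal.mem_span_singleton_self _), map_zero]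
  -- the coordinate map on the open over `W`
  let U0 : (AMonS S N ⊗ Y).left.Opens := (snd (AMonS S N) Y).left ⁻¹ᵁ W
  let V0 : Over S := Over.mk (U0.ι ≫ (AMonS S N ⊗ Y).hom)
  let v : V0 ⟶ AMonS S N ⊗ Y := Over.homMk U0.ι rfl
  let yW : V0.left ⟶ Spec A := ((snd (AMonS S N) Y).left ∣_ W) ≫ hW.isoSpec.hom
  have hyW' : yW ≫ hW.fromSpec = U0.ι ≫ (snd (AMonS S N) Y).left := by
    rw [Category.assoc, ← hW.isoSpec_inv_ι, Iso.hom_inv_id_assoc, morphismRestrict_ι]
  let c0 : Γ(V0.left, ⊤) := coord e (v ≫ fst _ _)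
  let ψ : A ⟶ Γ(V0.left, ⊤) := (Scheme.ΓSpecIso A).inv ≫ yW.appTop
  let ev : CommRingCat.of (Polynomial A) ⟶ Γ(V0.left, ⊤) :=
    CommRingCat.ofHom (Polynomial.eval₂RingHom ψ.hom c0)
  let rl : V0.left ⟶ Spec (CommRingCat.of (Polynomial A)) := V0.left.toSpecΓ ≫ Spec.map ev
  have hrC : rl ≫ Spec.map (CommRingCat.ofHom (Polynomial.C : A →+* Polynomial A)) = yW := by
    have : CommRingCat.ofHom (Polynomial.C : A →+* Polynomial A) ≫ ev = ψ := by
      ext r
      exact Polynomial.eval₂_C _ _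
    rw [Category.assoc, ← Spec.map_comp, this, Spec.map_comp, ← Category.assoc, ← Scheme.toSpecΓ_naturality,
      Category.assoc, Scheme.toSpecΓ]
    simp
  let r : V0 ⟶ aff φP := Over.homMk rl (by
    show rl ≫ Spec.map _ ≫ hW.fromSpec ≫ Y.hom = U0.ι ≫ (AMonS S N ⊗ Y).hom
    rw [← Category.assoc rl, hrC, ← Category.assoc, hyW', Category.assoc, Over.w (snd (AMonS S N) Y)])
  have hrq : r ≫ q = v := by
    apply CartesianMonoidalCategory.hom_ext
    · rw [Category.assoc, lift_fst, ptR, comp_pt, ← pt_coord e (v ≫ fst _ _)]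
      refine congrArg (pt e) ?_
      show rl.appTop ((Scheme.ΓSpecIso (CommRingCat.of (Polynomial A))).inv Polynomial.X) = c0
      have hT : (Scheme.ΓSpecIso (CommRingCat.of (Polynomial A))).inv ≫ rl.appTop = ev := by
        rw [Scheme.Hom.comp_appTop, ← Category.assoc, ← Scheme.ΓSpecIso_inv_naturality, Category.assoc,
          Scheme.toSpecΓ_appTop]
        simp
      exact (congr($(hT) Polynomial.X)).trans (Polynomial.eval₂_X _ _)
    · rw [Category.assoc, lift_snd]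
      refine Over.OverMorphism.ext ?_
      show rl ≫ Spec.map _ ≫ hW.fromSpec = U0.ι ≫ (snd (AMonS S N) Y).left
      rw [← Category.assoc rl, hrC, hyW']
  -- the point lies over the zero section
  have hxU : x.left z ∈ U0 := hyW
  have : IsOpenImmersion v.left := inferInstanceAs (IsOpenImmersion U0.ι)
  obtain ⟨x', hx'⟩ := H28.StableOpen.exists_lift v x (by
    rintro _ ⟨z', rfl⟩
    rw [Subsingleton.elim (α := ↥(Spec (CommRingCat.of K))) z' z]
    exact ⟨⟨x.left z, hxU⟩, rfl⟩)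
  have hzero : (x' ≫ r).left.appTop (fn φP Polynomial.X) = 0 := by
    have h1 : (x' ≫ r) ≫ ptR e φP Polynomial.X = pt e 0 := by
      rw [← hx, ← hx', ← hrq]
      simp only [Category.assoc, q, lift_fst]
    rw [ptR, comp_pt] at h1
    have h2 := congrArg (coord e) h1
    simp only [coord, chi_pt, toAdd_ofAdd, AddEquiv.apply_symm_apply, pow_one] at h2
    exact h2
  have hmem : (Polynomial.X : Polynomial A) ∈
      ((x' ≫ r).left z : PrimeSpectrum (Polynomial A)).asIdeal := by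
    by_contra hc
    have h1 : (x' ≫ r).left z ∈ (aff φP).left.basicOpen (fn φP Polynomial.X) := by
      rw [show (aff φP).left.basicOpen (fn φP Polynomial.X) =
        (PrimeSpectrum.basicOpen (Polynomial.X : Polynomial A) : TopologicalSpace.Opens _) from
        basicOpen_eq_of_affine _]
      exact hc
    have h2 : z ∈ (x' ≫ r).left ⁻¹ᵁ (aff φP).left.basicOpen (fn φP Polynomial.X) := h1
    rw [Scheme.preimage_basicOpen_top, hzero, Scheme.basicOpen_zero] at h2
    exact h2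
  obtain ⟨D, hD, hDg⟩ := exists_open_agree (q ≫ γ₁).left (q ≫ γ₂).left hq _ hmem
  refine le_agreeOpen ((((rl ⁻¹ᵁ D).ι ≫ U0.ι).opensRange)) ?_ ?_
  · rw [← Scheme.Hom.isoOpensRange_inv_comp, Category.assoc, Category.assoc, Category.assoc, Category.assoc]
    refine congrArg (_ ≫ ·) ?_
    show (rl ⁻¹ᵁ D).ι ≫ (v ≫ γ₁).left = (rl ⁻¹ᵁ D).ι ≫ (v ≫ γ₂).left
    rw [← hrq, Category.assoc, Category.assoc]
    show (rl ⁻¹ᵁ D).ι ≫ rl ≫ (q ≫ γ₁).left = (rl ⁻¹ᵁ D).ι ≫ rl ≫ (q ≫ γ₂).left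
    rw [← morphismRestrict_ι_assoc, ← morphismRestrict_ι_assoc, hDg]
  · rw [← hx', Over.comp_left]
    exact ⟨⟨x'.left z, hD⟩, rfl⟩

/-- Agreement of two equivariant maps propagates along translations. -/
theorem theta_mem_agreeOpen {A B G Z : Over S} [MonObj A] {ρ : MonAct A B} {a : MonAct A Z} (γ₁ γ₂ : B ⟶ Z)
    (h₁ : MonAct.IsEquivariant ρ a γ₁) (h₂ : MonAct.IsEquivariant ρ a γ₂) (g g' : G ⟶ A) (h : g * g' = 1)
    (h' : g' * g = 1) [Flat G.hom] [LocallyOfFinitePresentation G.hom] (w : ↑(B ⊗ G).left)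
    (hw : (fst B G).left w ∈ agreeOpen γ₁.left γ₂.left) :
    (theta ρ g).left w ∈ agreeOpen γ₁.left γ₂.left := by
  simp only [agreeOpen, TopologicalSpace.Opens.mem_iSup] at hw
  obtain ⟨V, hV, hwV⟩ := hw
  let U : (B ⊗ G).left.Opens := (fst B G).left ⁻¹ᵁ V
  have := theta_flat ρ g g' h h'
  have := theta_lfp ρ g g' h h'
  let m := U.ι ≫ (theta ρ g).left
  let O : B.left.Opens := ⟨Set.range m.base, m.isOpenMap.isOpen_range⟩
  let π := m ∣_ O
  have : Surjective π := by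
    refine ⟨fun o => ?_⟩
    obtain ⟨q, hq⟩ := o.2
    exact ⟨⟨q, show m.base q ∈ O from ⟨q, rfl⟩⟩, Subtype.ext ((morphismRestrict_base_coe m O _).trans hq)⟩
  have : Epi π := Flat.epi_of_flat_of_surjective π
  refine le_agreeOpen O ?_ ⟨⟨w, hwV⟩, rfl⟩
  rw [← cancel_epi π, ← Category.assoc, ← Category.assoc, morphismRestrict_ι, Category.assoc, Category.assoc,
    Category.assoc, Category.assoc]
  refine congrArg (_ ≫ ·) ?_
  let Uo : Over S := Over.mk (U.ι ≫ (B ⊗ G).hom)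
  let jU : Uo ⟶ B ⊗ G := Over.homMk U.ι rfl
  refine congrArg Over.Hom.left (?_ : jU ≫ theta ρ g ≫ γ₁ = jU ≫ theta ρ g ≫ γ₂)
  rw [theta_natural h₁, theta_natural h₂, ← Category.assoc, ← Category.assoc]
  refine congrArg (· ≫ _) ?_
  apply CartesianMonoidalCategory.hom_ext
  · simp only [Category.assoc, whiskerRight_fst]
    refine Over.OverMorphism.ext ?_
    show U.ι ≫ (fst B G).left ≫ γ₁.left = U.ι ≫ (fst B G).left ≫ γ₂.left
    rw [← morphismRestrict_ι_assoc, ← morphismRestrict_ι_assoc, hV]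
  · simp only [Category.assoc, whiskerRight_snd]

end Groth.Agent.MdlA1
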