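import Groth.Agent.MdlA1.SymPow
import Mathlib.RingTheory.Smooth.Basic
import Mathlib.RingTheory.Ideal.Cotangent
import Mathlib.Algebra.BigOperators.Finsupp.Basic
import Mathlib.Algebra.MonoidAlgebra.Basic

/-! A smooth non-negatively graded algebra is the symmetric algebra of its indecomposables. -/

set_option autoImplicit false

universe u

open TensorProduct

namespace Groth.Agent.MdlA1

variable (C A : Type u) [CommRing C] [CommRing A] [Algebra C A]

/-- A grading by natural numbers with degree zero part `C`. -/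
structure AugGrading where
  /-- the augmentation -/
  aug : A →ₐ[C] C
  /-- the homogeneous components -/
  co : A →ₐ[C] MonoidAlgebra A (Multiplicative ℕ)
  sum_eq : ∀ a, ((co a).coeff.sum fun _ r => r) = a
  co_coeff : ∀ a m, co ((co a).coeff m) = MonoidAlgebra.single m ((co a).coeff m)
  coeff_one : ∀ a, (co a).coeff 1 = algebraMap C A (aug a)

variable {C A}

namespace AugGrading

variable (g : AugGrading C A)

/-- The projection to degree `d`. -/
noncomputable def prj (d : ℕ) : A →ₗ[C] A where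
  toFun a := (g.co a).coeff (Multiplicative.ofAdd d)
  map_add' a b := by simp
  map_smul' c a := by simp

theorem prj_prj (e d : ℕ) (a : A) : g.prj e (g.prj d a) = if e = d then g.prj d a else 0 := by
  classical
  show (g.co ((g.co a).coeff _)).coeff _ = _
  rw [g.co_coeff, MonoidAlgebra.coeff_single, Finsupp.single_apply]
  simp only [Multiplicative.ofAdd.injective.eq_iff, eq_comm]
  rfl

theorem prj_zero (a : A) : g.prj 0 a = algebraMap C A (g.aug a) := g.coeff_one a

include g in
theorem algebraMap_injective : Function.Injective (algebraMap C A) := fun x y h => by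
  simpa using congrArg g.aug h

/-- The augmentation ideal. -/
abbrev ideal : Ideal A := RingHom.ker g.aug

theorem prj_zero_of_mem {a : A} (ha : a ∈ g.ideal) : g.prj 0 a = 0 := by
  rw [g.prj_zero, RingHom.mem_ker.mp ha, map_zero]

theorem prj_mem {a : A} (ha : a ∈ g.ideal) (d : ℕ) : g.prj d a ∈ g.ideal := by
  rw [RingHom.mem_ker]
  apply g.algebraMap_injective
  rw [map_zero, ← g.prj_zero, g.prj_prj]
  split_ifs with h
  · rw [← h, g.prj_zero_of_mem ha]
  · rfl

theorem prj_mul (d : ℕ) (a b : A) :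
    g.prj d (a * b) = ∑ i ∈ Finset.range (d + 1), g.prj i a * g.prj (d - i) b := by
  classical
  show (g.co (a * b)).coeff (Multiplicative.ofAdd d) =
    ∑ i ∈ Finset.range (d + 1), (g.co a).coeff (Multiplicative.ofAdd i) * (g.co b).coeff (Multiplicative.ofAdd (d - i))
  rw [map_mul]
  generalize g.co a = x
  generalize g.co b = y
  induction x using MonoidAlgebra.induction_linear with
  | zero => simp
  | add x x' hx hx' =>
    simp only [add_mul, MonoidAlgebra.coeff_add, Finsupp.add_apply, hx, hx', Finset.sum_add_distrib]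
  | single m r =>
    induction y using MonoidAlgebra.induction_linear with
    | zero => simp
    | add y y' hy hy' =>
      simp only [mul_add, MonoidAlgebra.coeff_add, Finsupp.add_apply, hy, hy', Finset.sum_add_distrib]
    | single n r' =>
      obtain ⟨i, rfl⟩ := Multiplicative.ofAdd.surjective m
      obtain ⟨j, rfl⟩ := Multiplicative.ofAdd.surjective n
      simp only [MonoidAlgebra.single_mul_single, MonoidAlgebra.coeff_single, Finsupp.single_apply, ← ofAdd_add,
        Multiplicative.ofAdd.injective.eq_iff, ite_mul, zero_mul, mul_ite, mul_zero]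
      by_cases h : i + j = d
      · rw [if_pos h, Finset.sum_eq_single i (fun k _ hk => by rw [if_neg (Ne.symm hk)]; exact ite_self 0)
          (fun hk => absurd (Finset.mem_range.mpr (by omega)) hk), if_pos rfl, if_pos (by omega)]
      · rw [if_neg h]
        refine (Finset.sum_eq_zero fun k hk => ?_).symm
        have := Finset.mem_range.mp hk
        split_ifs <;> first | rfl | omega

theorem mem_sq_prj {a : A} (ha : a ∈ g.ideal ^ 2) (d : ℕ) : g.prj d a ∈ g.ideal ^ 2 := by
  rw [pow_two] at ha ⊢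
  refine Submodule.mul_induction_on ha (fun x hx y hy => ?_) (fun x y hx hy => by rw [map_add]; exact add_mem hx hy)
  rw [g.prj_mul]
  exact Ideal.sum_mem _ fun i _ => Ideal.mul_mem_mul (g.prj_mem hx i) (g.prj_mem hy _)

/-- The indecomposables. -/
abbrev Ind : Type u := g.ideal.Cotangent

/-- The quotient map. -/
noncomputable def quot : g.ideal.restrictScalars C →ₗ[C] g.Ind :=
  g.ideal.toCotangent.restrictScalars C

theorem quot_surjective : Function.Surjective g.quot := g.ideal.toCotangent_surjective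

theorem projective_ind [Algebra.FormallySmooth C A] [Algebra.EssFiniteType C A] :
    Module.Projective C g.Ind ∧ Module.Finite C g.Ind := by
  letI : Algebra A C := g.aug.toRingHom.toAlgebra
  haveI : IsScalarTower C A C := IsScalarTower.of_algebraMap_eq fun c => (g.aug.commutes c).symm
  haveI : IsScalarTower A C C := IsScalarTower.right
  have hsurj : Function.Surjective (algebraMap A C) := fun c => ⟨algebraMap C A c, g.aug.commutes c⟩
  obtain ⟨l, hl⟩ := (Algebra.FormallySmooth.iff_split_injection (R := C) (P := A) (A := C) hsurj).mp inferInstance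
  have h2 : (l.restrictScalars C) ∘ₗ ((KaehlerDifferential.kerCotangentToTensor C A C).restrictScalars C) =
      LinearMap.id :=
    LinearMap.ext fun z => LinearMap.congr_fun hl z
  exact ⟨Module.Projective.of_split _ _ h2, Module.Finite.of_surjective (l.restrictScalars C) fun z =>
    ⟨_, LinearMap.congr_fun hl z⟩⟩

/-- The induced projection on indecomposables. -/
theorem exists_indPrj (d : ℕ) :
    ∃ e : g.Ind →ₗ[C] g.Ind, ∀ a : g.ideal.restrictScalars C, ∀ h : g.prj d a.1 ∈ g.ideal,
      e (g.quot a) = g.quot ⟨g.prj d a.1, h⟩ := by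
  let f : g.ideal.restrictScalars C →ₗ[C] g.Ind :=
    g.quot ∘ₗ ((g.prj d).restrict (p := g.ideal.restrictScalars C) (q := g.ideal.restrictScalars C)
      fun a ha => g.prj_mem ha d)
  have hker : LinearMap.ker g.quot ≤ LinearMap.ker f := fun a ha => by
    have : (a : A) ∈ g.ideal ^ 2 := (g.ideal.toCotangent_eq_zero _).mp ha
    exact (g.ideal.toCotangent_eq_zero _).mpr (g.mem_sq_prj this d)
  refine ⟨(LinearMap.ker g.quot).liftQ f hker ∘ₗ
    (g.quot.quotKerEquivOfSurjective g.quot_surjective).symm.toLinearMap, fun a h => ?_⟩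
  rw [LinearMap.comp_apply, LinearEquiv.coe_coe, LinearMap.quotKerEquivOfSurjective_symm_apply]
  rfl

theorem exists_homogeneous_section [Module.Projective C g.Ind] [Module.Finite C g.Ind] :
    ∃ σ : g.Ind →ₗ[C] A, (∀ p, σ p ∈ g.ideal) ∧ (∀ p, ∀ h : σ p ∈ g.ideal, g.quot ⟨σ p, h⟩ = p) ∧
      ∀ (d : ℕ) (a : A), ∀ ha : a ∈ g.ideal, g.prj d a = a →
        g.prj d (σ (g.quot ⟨a, ha⟩)) = σ (g.quot ⟨a, ha⟩) := by
  classical
  choose e he using g.exists_indPrj
  obtain ⟨s, hs⟩ := Module.projective_lifting_property g.quot LinearMap.id g.quot_surjective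
  obtain ⟨T, hT⟩ : (⊤ : Submodule C g.Ind).FG := Module.Finite.fg_top
  let D : Finset ℕ := T.biUnion fun p => (g.co (s p).1).coeff.support.image Multiplicative.toAdd
  have hzero : ∀ d ∉ D, e d = 0 := fun d hd => by
    refine LinearMap.ext_on hT fun p hp => ?_
    conv_lhs => rw [show p = g.quot (s p) from (LinearMap.congr_fun hs p).symm]
    rw [he d (s p) (g.prj_mem (s p).2 d)]
    refine (g.ideal.toCotangent_eq_zero _).mpr ?_
    have h0 : g.prj d (s p).1 = 0 := by
      by_contra hne
      exact hd (Finset.mem_biUnion.mpr ⟨p, hp,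
        Finset.mem_image.mpr ⟨Multiplicative.ofAdd d, Finsupp.mem_support_iff.mpr hne, rfl⟩⟩)
    rw [show ((⟨g.prj d (s p).1, g.prj_mem (s p).2 d⟩ : g.ideal.restrictScalars C) : A) = 0 from h0]
    exact zero_mem _
  have hee : ∀ d d' p, e d (e d' p) = if d = d' then e d' p else 0 := fun d d' p => by
    obtain ⟨a, rfl⟩ := g.quot_surjective p
    rw [he d' a (g.prj_mem a.2 d'), he d ⟨g.prj d' a.1, g.prj_mem a.2 d'⟩ (g.prj_mem (g.prj_mem a.2 d') d)]
    by_cases h : d = d'
    · rw [if_pos h]
      congr 1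
      exact Subtype.ext ((g.prj_prj d d' a.1).trans (if_pos h))
    · rw [if_neg h]
      refine (g.ideal.toCotangent_eq_zero _).mpr ?_
      show g.prj d (g.prj d' a.1) ∈ g.ideal ^ 2
      rw [g.prj_prj, if_neg h]
      exact zero_mem _
  let σ : g.Ind →ₗ[C] A :=
    ∑ d ∈ D, g.prj d ∘ₗ (g.ideal.restrictScalars C).subtype ∘ₗ s ∘ₗ e d
  have hσ : ∀ p, σ p = ∑ d ∈ D, g.prj d (s (e d p)).1 := fun p => by simp [σ]
  have hmem : ∀ p, σ p ∈ g.ideal := fun p => by
    rw [hσ]; exact Ideal.sum_mem _ fun d _ => g.prj_mem (s (e d p)).2 d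
  refine ⟨σ, hmem, fun p h => ?_, fun d a ha hda => ?_⟩
  · have hsum : ∀ q, ∑ d ∈ D, e d q = q := by
      intro q
      have : (∑ d ∈ D, e d) = LinearMap.id := by
        refine LinearMap.ext_on hT fun p hp => ?_
        rw [LinearMap.sum_apply, LinearMap.id_apply]
        conv_rhs => rw [show p = g.quot (s p) from (LinearMap.congr_fun hs p).symm]
        have hp0 : p = g.quot (s p) := (LinearMap.congr_fun hs p).symm
        rw [hp0, Finset.sum_congr rfl fun d _ => he d (s p) (g.prj_mem (s p).2 d), ← map_sum, ← hp0]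
        congr 1
        apply Subtype.ext
        rw [AddSubmonoidClass.coe_finsetSum]
        refine Eq.trans ?_ (g.sum_eq (s p).1)
        rw [Finsupp.sum]
        refine Eq.trans (Finset.sum_map D Multiplicative.ofAdd.toEmbedding
          (fun m => (g.co (s p).1).coeff m)).symm (Finset.sum_subset (fun m hm => ?_) fun m _ hm => ?_).symm
        · exact Finset.mem_map.mpr ⟨Multiplicative.toAdd m, Finset.mem_biUnion.mpr ⟨p, hp,
            Finset.mem_image.mpr ⟨m, hm, rfl⟩⟩, rfl⟩
        · exact Finsupp.notMem_support_iff.mp hm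
      simpa using LinearMap.congr_fun this q
    have : (⟨σ p, h⟩ : g.ideal.restrictScalars C) = ∑ d ∈ D, ⟨g.prj d (s (e d p)).1, g.prj_mem (s (e d p)).2 d⟩ := by
      apply Subtype.ext
      rw [AddSubmonoidClass.coe_finsetSum]
      exact hσ p
    rw [this, map_sum]
    refine Eq.trans (Finset.sum_congr rfl fun d _ => ?_) (hsum p)
    rw [← he d (s (e d p)) (g.prj_mem (s (e d p)).2 d), show g.quot (s (e d p)) = e d p from LinearMap.congr_fun hs _,
      hee, if_pos rfl]
  · rw [hσ, map_sum]
    refine Finset.sum_congr rfl fun d' _ => ?_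
    rw [g.prj_prj]
    split_ifs with h
    · rfl
    · have : e d' (g.quot ⟨a, ha⟩) = 0 := by
        rw [he d' ⟨a, ha⟩ (g.prj_mem ha d')]
        refine (g.ideal.toCotangent_eq_zero _).mpr ?_
        show g.prj d' a ∈ g.ideal ^ 2
        rw [← hda, g.prj_prj, if_neg (Ne.symm h)]
        exact zero_mem _
      rw [this, map_zero]
      simp

theorem surjective_lift (σ : g.Ind →ₗ[C] A) (hσ : ∀ p, σ p ∈ g.ideal)
    (hq : ∀ p, ∀ h : σ p ∈ g.ideal, g.quot ⟨σ p, h⟩ = p)
    (hhom : ∀ (d : ℕ) (a : A), ∀ ha : a ∈ g.ideal, g.prj d a = a →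
      g.prj d (σ (g.quot ⟨a, ha⟩)) = σ (g.quot ⟨a, ha⟩)) :
    Function.Surjective (SymmetricAlgebra.lift σ) := by
  classical
  let Q := (SymmetricAlgebra.lift σ).range
  have hQσ : ∀ p, σ p ∈ Q := fun p => ⟨SymmetricAlgebra.ι C _ p, SymmetricAlgebra.lift_ι_apply _ _⟩
  have hall : ∀ d a, g.prj d a ∈ Q := by
    intro d
    induction d using Nat.strong_induction_on with
    | _ d IH =>
      intro a
      rcases Nat.eq_zero_or_pos d with rfl | hd
      · rw [g.prj_zero]; exact Subalgebra.algebraMap_mem _ _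
      set x := g.prj d a with hx
      have hxI : x ∈ g.ideal := by
        rw [RingHom.mem_ker]
        apply g.algebraMap_injective
        rw [map_zero, ← g.prj_zero, hx, g.prj_prj, if_neg (Nat.pos_iff_ne_zero.mp hd).symm]
      have hxd : g.prj d x = x := by rw [hx, g.prj_prj, if_pos rfl]
      set y := σ (g.quot ⟨x, hxI⟩) with hy
      have hdiff : x - y ∈ g.ideal ^ 2 :=
        (g.ideal.toCotangent_eq (x := ⟨x, hxI⟩) (y := ⟨y, hσ _⟩)).mp (hq (g.quot ⟨x, hxI⟩) (hσ _)).symm
      have hsq : ∀ z ∈ g.ideal ^ 2, g.prj d z ∈ Q := by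
        intro z hz
        rw [pow_two] at hz
        refine Submodule.mul_induction_on hz (fun u hu v hv => ?_)
          (fun u v hu hv => by rw [map_add]; exact add_mem hu hv)
        rw [g.prj_mul]
        refine sum_mem fun i hi => ?_
        rcases Nat.eq_zero_or_pos i with rfl | hi0
        · rw [g.prj_zero_of_mem hu, zero_mul]; exact zero_mem _
        rcases Nat.eq_zero_or_pos (d - i) with h0 | h0
        · rw [h0, g.prj_zero_of_mem hv, mul_zero]; exact zero_mem _
        exact mul_mem (IH i (by omega) u) (IH (d - i) (by omega) v)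
      have h := hsq _ hdiff
      rw [map_sub, hxd, hy, hhom d x hxI hxd] at h
      simpa using add_mem h (hQσ (g.quot ⟨x, hxI⟩))
  intro a
  have ha : a ∈ Q := by
    rw [← g.sum_eq a, Finsupp.sum]
    exact sum_mem fun m _ => hall (Multiplicative.toAdd m) a
  exact ha

theorem injective_lift [Algebra.FormallySmooth C A] [Module.Projective C g.Ind] [Module.Finite C g.Ind]
    (σ : g.Ind →ₗ[C] A) (hσ : ∀ p, σ p ∈ g.ideal) (hq : ∀ p, ∀ h : σ p ∈ g.ideal, g.quot ⟨σ p, h⟩ = p)
    (hsurj : Function.Surjective (SymmetricAlgebra.lift σ)) :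
    Function.Injective (SymmetricAlgebra.lift σ) := by
  let φ := SymmetricAlgebra.lift σ
  let K := RingHom.ker φ
  let J := augIdeal C g.Ind
  have hφJ : J ≤ g.ideal.comap φ := Ideal.span_le.mpr (by
    rintro _ ⟨p, rfl⟩
    show φ _ ∈ g.ideal
    rw [SymmetricAlgebra.lift_ι_apply]
    exact hσ p)
  have haug : g.aug.comp φ = SymmetricAlgebra.algebraMapInv :=
    SymmetricAlgebra.algHom_ext (LinearMap.ext fun p => by
      show g.aug (φ (SymmetricAlgebra.ι C _ p)) = SymmetricAlgebra.algebraMapInv (SymmetricAlgebra.ι C _ p)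
      rw [SymmetricAlgebra.lift_ι_apply, SymmetricAlgebra.algebraMapInv_ι]
      exact hσ p)
  have hKJ : K ≤ J := fun k hk => by
    rw [mem_augIdeal_iff, ← haug, AlgHom.comp_apply, RingHom.mem_ker.mp hk, map_zero]
  have hKJ2 : K ≤ J ^ 2 := fun k hk => by
    obtain ⟨p, hp⟩ := exists_linear_part k (hKJ hk)
    have h1 : φ (k - SymmetricAlgebra.ι C _ p) ∈ g.ideal ^ 2 :=
      Ideal.pow_right_mono (Ideal.map_le_iff_le_comap.mpr hφJ) 2
        (by rw [← Ideal.map_pow]; exact Ideal.mem_map_of_mem _ hp)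
    rw [map_sub, SymmetricAlgebra.lift_ι_apply, RingHom.mem_ker.mp hk, zero_sub, neg_mem_iff] at h1
    have hp0 : p = 0 := by
      rw [← hq p (hσ p)]
      exact (g.ideal.toCotangent_eq_zero _).mpr h1
    simpa [hp0] using hp
  let L : Ideal (SymmetricAlgebra C g.Ind) := J * K
  have hLK : L ≤ K := Ideal.mul_le_right
  let π : (SymmetricAlgebra C g.Ind ⧸ L) →ₐ[C] A := Ideal.Quotient.liftₐ L φ fun x hx => hLK hx
  have hπ : Function.Surjective π := fun a => ⟨Ideal.Quotient.mk L (hsurj a).choose, (hsurj a).choose_spec⟩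
  have hkerπ : RingHom.ker (π : (SymmetricAlgebra C g.Ind ⧸ L) →+* A) = K.map (Ideal.Quotient.mk L) := by
    refine le_antisymm (fun z hz => ?_) (Ideal.map_le_iff_le_comap.mpr fun x hx => hx)
    obtain ⟨x, rfl⟩ := Ideal.Quotient.mk_surjective z
    exact Ideal.mem_map_of_mem _ hz
  have hprod : ∀ x ∈ J, ∀ w, w ∈ RingHom.ker (π : (SymmetricAlgebra C g.Ind ⧸ L) →+* A) →
      Ideal.Quotient.mk L x * w = 0 := by
    intro x hx w hw
    obtain ⟨k, rfl⟩ := Ideal.Quotient.mk_surjective w
    rw [← map_mul, Ideal.Quotient.eq_zero_iff_mem]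
    exact Ideal.mul_mem_mul hx hw
  have hnil : IsNilpotent (RingHom.ker (π : (SymmetricAlgebra C g.Ind ⧸ L) →+* A)) := by
    refine ⟨2, ?_⟩
    rw [Submodule.zero_eq_bot, eq_bot_iff]
    refine le_of_eq_of_le (Submodule.pow_succ (n := 1) (M := RingHom.ker _)) ?_
    rw [Submodule.pow_one, Ideal.mul_le]
    intro u hu v hv
    obtain ⟨x, rfl⟩ := Ideal.Quotient.mk_surjective u
    exact Ideal.mem_bot.mpr (hprod x (hKJ hu) v hv)
  let s := Algebra.FormallySmooth.liftOfSurjective (AlgHom.id C A) π hπ hnil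
  have hs : ∀ a, π (s a) = a := fun a => Algebra.FormallySmooth.liftOfSurjective_apply _ _ _ _ a
  have hw : ∀ x, s (φ x) - Ideal.Quotient.mk L x ∈ RingHom.ker (π : (SymmetricAlgebra C g.Ind ⧸ L) →+* A) := fun x => by
    rw [RingHom.mem_ker, RingHom.coe_coe, map_sub, hs]
    exact sub_self _
  have hJ2 : ∀ x ∈ J ^ 2, s (φ x) = Ideal.Quotient.mk L x := fun x hx => by
    rw [pow_two] at hx
    refine Submodule.mul_induction_on hx (fun u hu v hv => ?_) (fun u v hu hv => by simp only [map_add, hu, hv])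
    have e1 := hprod u hu _ (hw v)
    have e2 := hprod v hv _ (hw u)
    have e3 : (s (φ u) - Ideal.Quotient.mk L u) * (s (φ v) - Ideal.Quotient.mk L v) = 0 := by
      obtain ⟨k, hk⟩ := Ideal.Quotient.mk_surjective (s (φ u) - Ideal.Quotient.mk L u)
      rw [← hk]
      exact hprod k (hKJ (show π (Ideal.Quotient.mk L k) = 0 from by rw [hk]; exact hw u)) _ (hw v)
    simp only [map_mul]
    linear_combination e1 + e2 + e3
  have hKL : K ≤ L := fun k hk => by
    have := hJ2 k (hKJ2 hk)
    rw [RingHom.mem_ker.mp hk, map_zero] at this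
    exact Ideal.Quotient.eq_zero_iff_mem.mp this.symm
  have hKpow : ∀ n : ℕ, K ≤ J ^ n := by
    intro n
    induction n with
    | zero => rw [pow_zero, Ideal.one_eq_top]; exact le_top
    | succ n ih => exact hKL.trans ((Ideal.mul_mono le_rfl ih).trans (pow_succ' J n).ge)
  exact (injective_iff_map_eq_zero φ).mpr fun x hx => eq_zero_of_mem_pow x fun n => hKpow n hx

/-- A smooth algebra with a grading is a symmetric algebra. -/
theorem exists_symmetricAlgebra [Algebra.FormallySmooth C A] [Algebra.EssFiniteType C A] :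
    Module.Finite C g.Ind ∧ Module.Projective C g.Ind ∧ Nonempty (SymmetricAlgebra C g.Ind ≃ₐ[C] A) := by
  obtain ⟨hP, hF⟩ := g.projective_ind
  obtain ⟨σ, h1, h2, h3⟩ := g.exists_homogeneous_section
  have hs := g.surjective_lift σ h1 h2 h3
  exact ⟨hF, hP, ⟨AlgEquiv.ofBijective _ ⟨g.injective_lift σ h1 h2 hs, hs⟩⟩⟩

end AugGrading

end Groth.Agent.MdlA1
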