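import Groth.Agent.MdlA1.Coaction
import Groth.Agent.MdlA1.GradSym
import Groth.Agent.MdlA1.Deg
import Mathlib.RingTheory.FiniteType

/-! A grading by natural numbers from the action of a sharp diagonalizable monoid. -/

set_option autoImplicit false

universe u

open CategoryTheory CategoryTheory.Limits MonoidalCategory CartesianMonoidalCategory MonObj AlgebraicGeometry
open Magnet Groth.Agent.H28.MagnetAff Groth.Agent.H23.CharPts

namespace Groth.Agent.MdlA1

variable {S : Scheme.{u}} {M' : Type} [AddCommGroup M'] [AddGroup.FG M'] {K : AddSubmonoid M'}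
  (hsharp : ∀ x ∈ K, ∀ y ∈ K, x + y = 0 → x = 0)
  {W V : Over S} [IsAffine W.left] (aW : MonAct (AMonS S K) W) (j : W ⟶ V) (s : V ⟶ W) (hsj : s ≫ j = 𝟙 V)
  (hinv : aW.act ≫ j = snd _ _ ≫ j) (e : W ⟶ AMonS S K)
  (he0 : chi e 1 = 1) (he : ∀ k : Multiplicative K, k ≠ 1 → chi e k = 0)
  (hlim : lift e (𝟙 W) ≫ aW.act = j ≫ s)

include hlim he0 he in
theorem coeff_one_co (r : RR W) :
    (co W aW.act r).coeff 1 = j.left.appTop.hom (s.left.appTop.hom r) := by
  classical
  have h := act_appTop aW e r
  rw [hlim, evalPt_apply, Finsupp.sum_eq_single 1 (fun k _ hk => by rw [he k hk, MulZeroClass.mul_zero])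
    (fun _ => MulZeroClass.zero_mul _), he0, _root_.mul_one] at h
  exact h.symm

include hsharp hinv he0 he hlim hsj in
/-- The action gives a grading by natural numbers with degree zero part the base. -/
theorem exists_augGrading (hft : j.left.appTop.hom.FiniteType) :
    letI := j.left.appTop.hom.toAlgebra
    Nonempty (AugGrading (RR V) (RR W)) := by
  classical
  letI := j.left.appTop.hom.toAlgebra
  haveI : Algebra.FiniteType (RR V) (RR W) := hft
  obtain ⟨T, hT⟩ := Algebra.FiniteType.out (R := RR V) (A := RR W)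
  let Δ := co W aW.act
  let E : Finset M' := T.biUnion fun t => (Δ t).coeff.support.image fun k => ((Multiplicative.toAdd k : K) : M')
  let N₀ : AddSubmonoid M' := AddSubmonoid.closure (E : Set M')
  have hle : N₀ ≤ K := AddSubmonoid.closure_le.mpr fun x hx => by
    obtain ⟨t, -, hx⟩ := Finset.mem_biUnion.mp (Finset.mem_coe.mp hx)
    obtain ⟨k, -, rfl⟩ := Finset.mem_image.mp hx
    exact (Multiplicative.toAdd k).2
  have hface : IsFace N₀ (⊥ : AddSubmonoid M') :=
    ⟨bot_le, fun x hx y hy h => by
      rw [AddSubmonoid.mem_bot] at h ⊢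
      rw [AddSubmonoid.mem_bot]
      have hx0 := hsharp x (hle hx) y (hle hy) h
      exact ⟨hx0, by rwa [hx0, zero_add] at h⟩⟩
  obtain ⟨d, hd⟩ := exists_degree (N := N₀) ⟨E, rfl⟩ hface
  let f : N₀ →+ K := AddSubmonoid.inclusion hle
  have hf : Function.Injective (AddMonoidHom.toMultiplicative f) := fun a b h =>
    AddSubmonoid.inclusion_injective hle h
  let ι₀ := MonoidAlgebra.mapDomainRingHom (RR W) (AddMonoidHom.toMultiplicative f)
  have hι₀ : Function.Injective ι₀ := MonoidAlgebra.mapDomain_injective hf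
  have hj : ∀ c, Δ (algebraMap (RR V) (RR W) c) = MonoidAlgebra.single 1 (algebraMap (RR V) (RR W) c) :=
    fun c => co_of_invariant aW j hinv c
  have hrange : ∀ r, Δ r ∈ ι₀.range := by
    intro r
    have hr : r ∈ Algebra.adjoin (RR V) (T : Set (RR W)) := hT ▸ Algebra.mem_top
    induction hr using Algebra.adjoin_induction with
    | mem x hx =>
      rw [← MonoidAlgebra.sum_single (Δ x)]
      refine sum_mem fun k hk => ?_
      exact ⟨MonoidAlgebra.single (Multiplicative.ofAdd (⟨((Multiplicative.toAdd k : K) : M'),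
        AddSubmonoid.subset_closure (Finset.mem_biUnion.mpr ⟨x, hx, Finset.mem_image.mpr ⟨k, hk, rfl⟩⟩)⟩ : N₀)) _,
        MonoidAlgebra.mapDomain_single⟩
    | algebraMap c => exact ⟨MonoidAlgebra.single 1 _, (MonoidAlgebra.mapDomain_single.trans (by rw [map_one])).trans (hj c).symm⟩
    | add x y _ _ hx hy => rw [map_add]; exact add_mem hx hy
    | mul x y _ _ hx hy => rw [map_mul]; exact mul_mem hx hy
  choose Δ₀ hΔ₀ using hrange
  let Δr : RR W →+* MonoidAlgebra (RR W) (Multiplicative N₀) :=
    { toFun := Δ₀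
      map_one' := hι₀ (by rw [hΔ₀, map_one, map_one])
      map_mul' := fun x y => hι₀ (by rw [hΔ₀, map_mul Δ, map_mul ι₀, hΔ₀, hΔ₀])
      map_zero' := hι₀ (by rw [hΔ₀, map_zero, map_zero])
      map_add' := fun x y => hι₀ (by rw [hΔ₀, map_add Δ, map_add ι₀, hΔ₀, hΔ₀]) }
  have hcoeff : ∀ r (n : Multiplicative N₀), (Δ₀ r).coeff n = (Δ r).coeff (AddMonoidHom.toMultiplicative f n) := by
    intro r n
    rw [← hΔ₀ r]
    exact (Finsupp.mapDomain_apply hf _ _).symm
  let dm := MonoidAlgebra.mapDomainRingHom (RR W) (AddMonoidHom.toMultiplicative d)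
  let deg : RR W →+* MonoidAlgebra (RR W) (Multiplicative ℕ) := dm.comp Δr
  have hone : ∀ r, (deg r).coeff 1 = algebraMap (RR V) (RR W) (s.left.appTop.hom r) := by
    intro r
    show (dm (Δ₀ r)).coeff 1 = j.left.appTop.hom (s.left.appTop.hom r)
    rw [← coeff_one_co aW j s e he0 he hlim r]
    have : ∀ z : MonoidAlgebra (RR W) (Multiplicative N₀), (dm z).coeff 1 = z.coeff 1 := by
      intro z
      induction z using MonoidAlgebra.induction_linear with
      | zero => simp
      | add x y hx hy => simp only [map_add, MonoidAlgebra.coeff_add, Finsupp.add_apply, hx, hy]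
      | single n c =>
        rw [MonoidAlgebra.mapDomainRingHom_apply, MonoidAlgebra.mapDomain_single, MonoidAlgebra.coeff_single,
          MonoidAlgebra.coeff_single, Finsupp.single_apply, Finsupp.single_apply]
        congr 1
        refine propext ⟨fun h => ?_, fun h => by rw [h, map_one]⟩
        have h0 : d (Multiplicative.toAdd n) = 0 := congrArg Multiplicative.toAdd h
        exact congrArg Multiplicative.ofAdd (Subtype.ext ((AddSubmonoid.mem_bot).mp ((hd _).mp h0)))
    rw [this, hcoeff, map_one]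
  have hdegj : ∀ c, deg (algebraMap (RR V) (RR W) c) = MonoidAlgebra.single 1 (algebraMap (RR V) (RR W) c) := by
    intro c
    have : Δ₀ (algebraMap (RR V) (RR W) c) = MonoidAlgebra.single 1 (algebraMap (RR V) (RR W) c) := hι₀ (by
      rw [hΔ₀, hj, MonoidAlgebra.mapDomainRingHom_apply, MonoidAlgebra.mapDomain_single, map_one])
    show dm (Δ₀ _) = _
    rw [this, MonoidAlgebra.mapDomainRingHom_apply, MonoidAlgebra.mapDomain_single, map_one]
  refine ⟨⟨{ s.left.appTop.hom with commutes' := fun c => ?_ }, { deg with commutes' := fun c => ?_ }, fun r => ?_,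
    fun r m => ?_, hone⟩⟩
  · exact congr(($hsj).left.appTop c)
  · show deg (algebraMap (RR V) (RR W) c) = _
    rw [hdegj]
    rfl
  · show ((dm (Δ₀ r)).coeff.sum fun _ c => c) = r
    refine Eq.trans ?_ (sum_co aW r)
    show ((MonoidAlgebra.mapDomain _ (Δ₀ r)).coeff.sum fun _ c => c) = (Δ r).coeff.sum fun _ c => c
    rw [← hΔ₀ r]
    show ((Finsupp.mapDomain _ (Δ₀ r).coeff).sum fun _ c => c) = (Finsupp.mapDomain _ (Δ₀ r).coeff).sum fun _ c => c
    rw [Finsupp.sum_mapDomain_index (fun _ => rfl) (fun _ _ _ => rfl),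
      Finsupp.sum_mapDomain_index (fun _ => rfl) (fun _ _ _ => rfl)]
  · have hn : ∀ n : Multiplicative N₀, deg ((Δ₀ r).coeff n) =
        MonoidAlgebra.single (AddMonoidHom.toMultiplicative d n) ((Δ₀ r).coeff n) := by
      intro n
      have : Δ₀ ((Δ₀ r).coeff n) = MonoidAlgebra.single n ((Δ₀ r).coeff n) := hι₀ (by
        rw [hΔ₀, hcoeff, MonoidAlgebra.mapDomainRingHom_apply, MonoidAlgebra.mapDomain_single]
        exact co_coeff aW r _)
      show dm (Δ₀ _) = _
      rw [this, MonoidAlgebra.mapDomainRingHom_apply, MonoidAlgebra.mapDomain_single]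
    show deg ((dm (Δ₀ r)).coeff m) = MonoidAlgebra.single m ((dm (Δ₀ r)).coeff m)
    have hm : (dm (Δ₀ r)).coeff m =
        ∑ n ∈ (Δ₀ r).coeff.support, if AddMonoidHom.toMultiplicative d n = m then (Δ₀ r).coeff n else 0 := by
      show (Finsupp.mapDomain _ (Δ₀ r).coeff) m = _
      rw [Finsupp.mapDomain, Finsupp.sum_apply, Finsupp.sum]
      simp only [Finsupp.single_apply]
    have hsum : ∀ (t : Finset (Multiplicative N₀)) (g : Multiplicative N₀ → RR W),
        MonoidAlgebra.single m (∑ n ∈ t, g n) = ∑ n ∈ t, MonoidAlgebra.single m (g n) := fun t g => by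
      induction t using Finset.induction_on with
      | empty => simp
      | insert n t hn ih => rw [Finset.sum_insert hn, Finset.sum_insert hn, MonoidAlgebra.single_add, ih]
    rw [hm, map_sum, hsum]
    refine Finset.sum_congr rfl fun n _ => ?_
    split_ifs with h
    · rw [hn, h]
    · simp

end Groth.Agent.MdlA1
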