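import Groth.Agent.MdlA1.Deg
import Groth.Agent.MdlA1.FaceChar

/-! The face projection of an attractor is a strong deformation retraction. -/

set_option autoImplicit false

universe u

open CategoryTheory CategoryTheory.Limits MonoidalCategory CartesianMonoidalCategory MonObj AlgebraicGeometry
open Opposite Magnet

namespace Groth.Agent.MdlA1

open Groth.Agent.H23

variable {S : Scheme.{u}} {M : Type} [AddCommGroup M] {N F : AddSubmonoid M} (d : N →+ ℕ)

/-- The scalar point attached to a grading. -/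
noncomputable def dpt {T : Over S} (c : Γ(T.left, ⊤)) : T ⟶ AMonS S N :=
  (CharPts.exists_chi_eq ((powersHom _ c).comp (AddMonoidHom.toMultiplicative d))).choose

theorem chi_dpt {T : Over S} (c : Γ(T.left, ⊤)) (n : N) :
    CharPts.chi (dpt d c : T ⟶ AMonS S N) (Multiplicative.ofAdd n) = c ^ d n := by
  rw [dpt, (CharPts.exists_chi_eq ((powersHom _ c).comp (AddMonoidHom.toMultiplicative d))).choose_spec]
  rfl

theorem comp_dpt {T T' : Over S} (t : T' ⟶ T) (c : Γ(T.left, ⊤)) :
    t ≫ dpt d c = (dpt d (t.left.appTop c) : T' ⟶ AMonS S N) := by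
  refine CharPts.chi_injective (MonoidHom.ext fun n => ?_)
  obtain ⟨n, rfl⟩ := Multiplicative.ofAdd.surjective n
  rw [CharPts.chi_comp, chi_dpt, chi_dpt]
  exact map_pow t.left.appTop.hom _ _

variable {X : Over S} (a : MonAct (AMonS S M) X)

/-- Shrinking a family by a scalar. -/
noncomputable def shrink (T : Over S) (x : (attr a N).obj (op T)) (c : Γ(T.left, ⊤)) : (attr a N).obj (op T) :=
  ⟨lift (fst _ _ * (snd _ _ ≫ dpt d c)) (snd _ _) ≫ x.1, by
    refine (MonAct.mem_eqvHom_iff _).mpr fun W g b t => ?_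
    simp only [comp_lift_assoc, MonObj.comp_mul, lift_fst, lift_snd, lift_snd_assoc]
    have := (MonAct.mem_eqvHom_iff x.1).mp x.2 W g (b * (t ≫ dpt d c)) t
    rw [← this]
    simp only [subAct, MonAct.lift_restrict_act, MonAct.lift_regular_act, _root_.mul_assoc]⟩

theorem shrink_zero (hF : IsFace N F) (hd : ∀ n : N, d n = 0 ↔ (n : M) ∈ F) (T : Over S)
    (x : (attr a N).obj (op T)) :
    shrink d a T x 0 = (attrMap a hF.le).app (op T) ((attrFace a hF).app (op T) x) := by
  apply Subtype.ext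
  show lift _ _ ≫ x.1 = (AMonS.map S (AddSubmonoid.inclusion hF.le) ▷ T) ≫ (AMonS.faceMap S hF ▷ T) ≫ x.1
  rw [← Category.assoc (AMonS.map S _ ▷ T)]
  refine congrArg (· ≫ x.1) ?_
  apply CartesianMonoidalCategory.hom_ext
  · rw [lift_fst, Category.assoc, whiskerRight_fst, whiskerRight_fst_assoc]
    refine CharPts.chi_injective (MonoidHom.ext fun n => ?_)
    obtain ⟨n, rfl⟩ := Multiplicative.ofAdd.surjective n
    rw [CharPts.chi_mul, ← Category.assoc (fst (AMonS S N) T), comp_dpt, map_zero, chi_dpt]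
    by_cases h : (n : M) ∈ F
    · rw [(hd n).mpr h, pow_zero, _root_.mul_one, chi_faceMap_of_mem hF _ n h, CharPts.chi_map]
      rfl
    · rw [zero_pow (fun h0 => h ((hd n).mp h0)), MulZeroClass.mul_zero, chi_faceMap_of_not_mem hF _ n h]
  · rw [lift_snd, Category.assoc, whiskerRight_snd, whiskerRight_snd]

theorem shrink_one (T : Over S) (x : (attr a N).obj (op T)) : shrink d a T x 1 = x := by
  apply Subtype.ext
  show lift _ _ ≫ x.1 = x.1
  have h1 : (snd (AMonS S N) T ≫ dpt d (1 : Γ(T.left, ⊤))) = 1 := eq_one_of_chi _ fun n => by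
    obtain ⟨n, rfl⟩ := Multiplicative.ofAdd.surjective n
    rw [comp_dpt, map_one, chi_dpt, one_pow]
  rw [h1, _root_.mul_one, lift_fst_snd, Category.id_comp]

theorem attrFace_shrink (hF : IsFace N F) (hd : ∀ n : N, d n = 0 ↔ (n : M) ∈ F) (T : Over S)
    (x : (attr a N).obj (op T)) (c : Γ(T.left, ⊤)) :
    (attrFace a hF).app (op T) (shrink d a T x c) = (attrFace a hF).app (op T) x := by
  apply Subtype.ext
  show (AMonS.faceMap S hF ▷ T) ≫ lift _ _ ≫ x.1 = (AMonS.faceMap S hF ▷ T) ≫ x.1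
  rw [← Category.assoc]
  refine congrArg (· ≫ x.1) ?_
  apply CartesianMonoidalCategory.hom_ext
  · rw [Category.assoc, lift_fst, MonObj.comp_mul, whiskerRight_fst, whiskerRight_snd_assoc]
    refine CharPts.chi_injective (MonoidHom.ext fun n => ?_)
    obtain ⟨n, rfl⟩ := Multiplicative.ofAdd.surjective n
    rw [CharPts.chi_mul, comp_dpt, chi_dpt]
    by_cases h : (n : M) ∈ F
    · rw [(hd n).mpr h, pow_zero, _root_.mul_one]
    · rw [chi_faceMap_of_not_mem hF _ n h, MulZeroClass.zero_mul]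
  · rw [Category.assoc, lift_snd, whiskerRight_snd]

theorem exists_homotopy (hN : N.FG) [AddGroup.FG M] (hF : IsFace N F) :
    ∃ δ : ∀ T : Over S, (attr a N).obj (op T) → Γ(T.left, ⊤) → (attr a N).obj (op T),
      (∀ (T T' : Over S) (t : T' ⟶ T) (x : (attr a N).obj (op T)) (c : Γ(T.left, ⊤)),
          δ T' ((attr a N).map t.op x) (t.left.appTop c) = (attr a N).map t.op (δ T x c)) ∧
      (∀ (T : Over S) (x : (attr a N).obj (op T)),
          δ T x 0 = (attrMap a hF.le).app (op T) ((attrFace a hF).app (op T) x)) ∧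
      (∀ (T : Over S) (x : (attr a N).obj (op T)), δ T x 1 = x) ∧
      (∀ (T : Over S) (y : (attr a F).obj (op T)) (c : Γ(T.left, ⊤)),
          δ T ((attrMap a hF.le).app (op T) y) c = (attrMap a hF.le).app (op T) y) := by
  obtain ⟨d, hd⟩ := exists_degree hN hF
  refine ⟨shrink d a, fun T T' t x c => ?_, fun T x => ?_, fun T x => ?_, fun T y c => ?_⟩
  · apply Subtype.ext
    show lift _ _ ≫ (_ ◁ t) ≫ x.1 = (_ ◁ t) ≫ lift _ _ ≫ x.1
    rw [← Category.assoc, ← Category.assoc]
    refine congrArg (· ≫ x.1) ?_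
    rw [lift_whiskerLeft, comp_lift, MonObj.comp_mul, whiskerLeft_fst, whiskerLeft_snd,
      whiskerLeft_snd_assoc, comp_dpt d t c]
  · exact shrink_zero d a hF hd T x
  · exact shrink_one d a T x
  · apply Subtype.ext
    show lift _ _ ≫ (AMonS.map S (AddSubmonoid.inclusion hF.le) ▷ T) ≫ y.1 =
      (AMonS.map S (AddSubmonoid.inclusion hF.le) ▷ T) ≫ y.1
    rw [← Category.assoc]
    refine congrArg (· ≫ y.1) ?_
    rw [lift_whiskerRight, MonObj.mul_comp]
    have h1 : (snd (AMonS S N) T ≫ dpt d c) ≫ AMonS.map S (AddSubmonoid.inclusion hF.le) = 1 :=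
      eq_one_of_chi _ fun n => by
        obtain ⟨n, rfl⟩ := Multiplicative.ofAdd.surjective n
        rw [CharPts.chi_map, comp_dpt]
        refine (chi_dpt d _ (AddSubmonoid.inclusion hF.le n)).trans ?_
        rw [(hd _).mpr n.2, pow_zero]
    rw [h1, _root_.mul_one]
    apply CartesianMonoidalCategory.hom_ext
    · rw [lift_fst, whiskerRight_fst]
    · rw [lift_snd, whiskerRight_snd]

end Groth.Agent.MdlA1
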