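import Groth.Agent.ModPairLib.Basic
import Mathlib.AlgebraicGeometry.AffineTransitionLimit

/-!
# The system of scheme-theoretic images of a limit
-/

universe u

set_option autoImplicit false
set_option linter.style.haveILetI false

open CategoryTheory CategoryTheory.Limits AlgebraicGeometry

namespace Groth.Agent.MdlA1.ImageSys

variable {I : Type u} [SmallCategory I] {S X : Scheme.{u}} {f : X ⟶ S} (D : I ⥤ Over S)
  (π : (Functor.const I).obj (Over.mk f) ⟶ D) [∀ i, QuasiCompact (π.app i).left]

/-- The projection to stage `i`. -/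
noncomputable abbrev p (i : I) : X ⟶ (D.obj i).left := (π.app i).left

theorem p_map {i j : I} (a : i ⟶ j) : p D π i ≫ (D.map a).left = p D π j := by
  have h := congrArg CommaMorphism.left (π.naturality a)
  simp only [Over.comp_left, Functor.const_obj_map, Category.id_comp] at h
  exact ((Category.id_comp _).symm.trans h).symm

theorem ker_le {i j : I} (a : i ⟶ j) : (p D π j).ker ≤ ((p D π i).imageι ≫ (D.map a).left).ker := by
  have := ModPairLib.isSchemeTheoreticallyDominant_toImage (p D π i)
  have h : (p D π i).toImage ≫ ((p D π i).imageι ≫ (D.map a).left) = p D π j := by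
    rw [← Category.assoc, Scheme.Hom.toImage_imageι, p_map]
  rw [← h, Scheme.Hom.ker_comp, (p D π i).toImage.ker_eq_bot, Scheme.IdealSheafData.map_bot]

/-- Transition maps between the images. -/
noncomputable def tr {i j : I} (a : i ⟶ j) : (p D π i).image ⟶ (p D π j).image :=
  IsClosedImmersion.lift (p D π j).imageι ((p D π i).imageι ≫ (D.map a).left)
    ((Scheme.IdealSheafData.ker_subschemeι _).trans_le (ker_le D π a))

@[reassoc]
theorem tr_imageι {i j : I} (a : i ⟶ j) :
    tr D π a ≫ (p D π j).imageι = (p D π i).imageι ≫ (D.map a).left :=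
  IsClosedImmersion.lift_fac _ _ _

/-- The system of images. -/
noncomputable def sys : I ⥤ Over S where
  obj i := Over.mk ((p D π i).imageι ≫ (D.obj i).hom)
  map {i j} a := Over.homMk (tr D π a) (by
    show tr D π a ≫ (p D π j).imageι ≫ (D.obj j).hom = (p D π i).imageι ≫ (D.obj i).hom
    rw [tr_imageι_assoc, Over.w])
  map_id i := by
    refine Over.OverMorphism.ext ?_
    rw [← cancel_mono (p D π i).imageι]
    show tr D π (𝟙 i) ≫ (p D π i).imageι = 𝟙 _ ≫ (p D π i).imageι
    rw [tr_imageι, D.map_id, Over.id_left, Category.id_comp]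
    exact Category.comp_id _
  map_comp {i j k} a b := by
    refine Over.OverMorphism.ext ?_
    rw [← cancel_mono (p D π k).imageι]
    show tr D π (a ≫ b) ≫ (p D π k).imageι = (tr D π a ≫ tr D π b) ≫ (p D π k).imageι
    rw [tr_imageι, Category.assoc, tr_imageι, tr_imageι_assoc, D.map_comp, Over.comp_left]

/-- The cone on the images. -/
noncomputable def cone : Cone (sys D π) where
  pt := Over.mk f
  π :=
    { app := fun i => Over.homMk (p D π i).toImage (by
        show (p D π i).toImage ≫ (p D π i).imageι ≫ (D.obj i).hom = f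
        rw [Scheme.Hom.toImage_imageι_assoc]
        exact Over.w (π.app i))
      naturality := fun i j a => by
        refine Over.OverMorphism.ext ?_
        refine (cancel_mono (p D π j).imageι).1 ?_
        show (𝟙 X ≫ (p D π j).toImage) ≫ (p D π j).imageι =
          ((p D π i).toImage ≫ tr D π a) ≫ (p D π j).imageι
        rw [Category.assoc, Category.assoc, tr_imageι, Scheme.Hom.toImage_imageι_assoc, p_map,
          Category.id_comp, Scheme.Hom.toImage_imageι] }

/-- The images have the same limit. -/
noncomputable def isLimitCone (hc : IsLimit (⟨Over.mk f, π⟩ : Cone D)) : IsLimit (cone D π) :=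
  let inc : sys D π ⟶ D :=
    { app := fun i => Over.homMk (p D π i).imageι rfl
      naturality := fun i j a => Over.OverMorphism.ext (tr_imageι D π a) }
  { lift := fun s => hc.lift ⟨s.pt, s.π ≫ inc⟩
    fac := fun s i => by
      refine Over.OverMorphism.ext ?_
      refine (cancel_mono (p D π i).imageι).1 ?_
      show ((hc.lift ⟨s.pt, s.π ≫ inc⟩).left ≫ (p D π i).toImage) ≫ (p D π i).imageι = _
      rw [Category.assoc, Scheme.Hom.toImage_imageι]
      exact congrArg CommaMorphism.left (hc.fac ⟨s.pt, s.π ≫ inc⟩ i)
    uniq := fun s m hm => hc.uniq ⟨s.pt, s.π ≫ inc⟩ m fun i => by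
      refine Over.OverMorphism.ext ?_
      show m.left ≫ p D π i = (s.π.app i).left ≫ (p D π i).imageι
      rw [← hm i]
      show m.left ≫ p D π i = (m.left ≫ (p D π i).toImage) ≫ (p D π i).imageι
      rw [Category.assoc]
      exact congrArg (m.left ≫ ·) (p D π i).toImage_imageι.symm }

theorem isSchemeTheoreticallyDominant_cone (i : I) :
    IsSchemeTheoreticallyDominant ((cone D π).π.app i).left :=
  ModPairLib.isSchemeTheoreticallyDominant_toImage (p D π i)

theorem isSchemeTheoreticallyDominant_tr {i j : I} (a : i ⟶ j) :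
    IsSchemeTheoreticallyDominant (tr D π a) := by
  have := ModPairLib.isSchemeTheoreticallyDominant_toImage (p D π i)
  have := ModPairLib.isSchemeTheoreticallyDominant_toImage (p D π j)
  have h : (p D π i).toImage ≫ tr D π a = (p D π j).toImage := by
    rw [← cancel_mono (p D π j).imageι, Category.assoc, tr_imageι, Scheme.Hom.toImage_imageι_assoc,
      p_map, Scheme.Hom.toImage_imageι]
  refine ⟨le_bot_iff.1 ?_⟩
  calc (tr D π a).ker ≤ ((p D π i).toImage ≫ tr D π a).ker := Scheme.Hom.le_ker_comp _ _
    _ = ⊥ := by rw [h, (p D π j).toImage.ker_eq_bot]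

theorem isAffineHom_tr {i j : I} (a : i ⟶ j) [IsAffineHom (D.map a).left] : IsAffineHom (tr D π a) := by
  haveI : IsAffineHom (tr D π a ≫ (p D π j).imageι) := by rw [tr_imageι]; infer_instance
  exact IsAffineHom.of_comp (tr D π a) (p D π j).imageι

/-- An effective Cartier divisor may be detected after a schematically dominant morphism. -/
theorem isEffCartier_of_comap {Z W : Scheme.{u}} (g : Z ⟶ W) [IsSchemeTheoreticallyDominant g]
    {J : W.IdealSheafData} (hJ : ModPairLib.IsLocPrincipal J) (h : BlowUp.IsEffCartierIdeal (J.comap g)) :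
    BlowUp.IsEffCartierIdeal J := by
  haveI := ModPairLib.isAffineHom_interior hJ
  haveI := ModPairLib.isSchemeTheoreticallyDominant_interior h
  have hr : Set.range ((ModPair.interior (J.comap g)).ι ≫ g) ⊆ Set.range (ModPair.interior J).ι := by
    rw [Scheme.Opens.range_ι]
    rintro _ ⟨y, rfl⟩
    show y.1 ∈ g ⁻¹ᵁ ModPair.interior J
    rw [ModPairLib.preimage_interior]
    exact y.2
  haveI : IsSchemeTheoreticallyDominant (ModPair.interior J).ι := by
    refine ⟨le_bot_iff.1 ?_⟩
    calc (ModPair.interior J).ι.ker
        ≤ (IsOpenImmersion.lift (ModPair.interior J).ι _ hr ≫ (ModPair.interior J).ι).ker :=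
          Scheme.Hom.le_ker_comp _ _
      _ = ⊥ := by
        rw [IsOpenImmersion.lift_fac]
        exact ((ModPair.interior (J.comap g)).ι ≫ g).ker_eq_bot
  exact ModPairLib.isEffCartier_of_dense hJ (ModPair.interior J) le_rfl

/-- The projection to an image, typed at the image. -/
theorem comap_comp_of_w {Z W V : Scheme.{u}} (q : Z ⟶ W) (r : W ⟶ V) (q' : Z ⟶ V) (h : q ≫ r = q')
    (J : V.IdealSheafData) : (J.comap r).comap q = J.comap q' := by
  rw [← Scheme.IdealSheafData.comap_comp, h]

end Groth.Agent.MdlA1.ImageSys
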