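import Groth.Agent.ModPairLib.Basic
import Mathlib.RingTheory.Smooth.IntegralClosure
import Mathlib.AlgebraicGeometry.Morphisms.Etale

/-!
# Integral closedness in the interior is preserved by étale morphisms
-/

universe u

set_option autoImplicit false
set_option linter.style.haveILetI false

open CategoryTheory CategoryTheory.Limits AlgebraicGeometry
open scoped TensorProduct

namespace Groth.Agent.MdlA1.IntInterior

/-- `Γ(U)` is integrally closed in `Γ(W)`. -/
def RestrClosed {X : Scheme.{u}} (U W : X.Opens) (h : W ≤ U) : Prop :=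
  ∀ s : Γ(X, W), (X.presheaf.map (homOfLE h).op).hom.IsIntegralElem s →
    s ∈ Set.range (X.presheaf.map (homOfLE h).op).hom

theorem RestrClosed.congr {X : Scheme.{u}} {U W W' : X.Opens} {h : W ≤ U} (H : RestrClosed U W h) (e : W = W')
    (h' : W' ≤ U) : RestrClosed U W' h' := by
  subst e
  exact H

/-- The affine step. -/
theorem mem_range_of_smooth {A S Aa Sb : Type u} [CommRing A] [CommRing S] [Algebra A S] [Algebra.Smooth A S]
    [CommRing Aa] [Algebra A Aa] [CommRing Sb] [Algebra S Sb] (a : A) [IsLocalization.Away a Aa]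
    [IsLocalization.Away (algebraMap A S a) Sb]
    (H : ∀ y : Aa, IsIntegral A y → y ∈ Set.range (algebraMap A Aa)) (t : Sb) (ht : IsIntegral S t) :
    t ∈ Set.range (algebraMap S Sb) := by
  haveI : IsLocalization.Away (algebraMap A S a) (S ⊗[A] Aa) := by
    have := (inferInstance : IsLocalization (Algebra.algebraMapSubmonoid S (Submonoid.powers a)) (S ⊗[A] Aa))
    rwa [Algebra.algebraMapSubmonoid_powers] at this
  let e : Sb ≃ₐ[S] S ⊗[A] Aa := IsLocalization.algEquiv (Submonoid.powers (algebraMap A S a)) _ _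
  obtain ⟨z, hz⟩ := (TensorProduct.toIntegralClosure_bijective_of_smooth (R := A) (S := S) (B := Aa)).2
    ⟨e t, ht.map e⟩
  have hz' : Algebra.TensorProduct.map (AlgHom.id S S) (integralClosure A Aa).val z = e t := congrArg Subtype.val hz
  suffices ∀ w : S ⊗[A] integralClosure A Aa,
      Algebra.TensorProduct.map (AlgHom.id S S) (integralClosure A Aa).val w ∈
        Set.range (algebraMap S (S ⊗[A] Aa)) by
    obtain ⟨s, hs⟩ := this z
    exact ⟨s, e.injective (by rw [e.commutes, hs, hz'])⟩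
  intro w
  induction w using TensorProduct.induction_on with
  | zero => exact ⟨0, by simp⟩
  | tmul s y =>
    obtain ⟨r, hr⟩ := H y.1 y.2
    refine ⟨r • s, ?_⟩
    rw [Algebra.TensorProduct.map_tmul, Algebra.TensorProduct.algebraMap_apply]
    show (r • s) ⊗ₜ[A] (1 : Aa) = s ⊗ₜ[A] (y : Aa)
    rw [TensorProduct.smul_tmul, ← Algebra.algebraMap_eq_smul_one, hr]
  | add x y hx hy =>
    obtain ⟨p, hp⟩ := hx
    obtain ⟨q, hq⟩ := hy
    exact ⟨p + q, by rw [map_add, map_add, hp, hq]⟩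

variable {X Y : Scheme.{u}} {IX : X.IdealSheafData}

theorem restrClosed_affine (g : Y ⟶ X) [Etale g]
    (hint : ∀ U ∈ X.affineOpens, RestrClosed U (U ⊓ ModPair.interior IX) inf_le_left)
    (U : X.affineOpens) (a : Γ(X, U.1)) (ha : IX.ideal U = Ideal.span {a}) (V : Y.Opens) (hV : IsAffineOpen V)
    (e : V ≤ g ⁻¹ᵁ U.1) : RestrClosed V (V ⊓ g ⁻¹ᵁ ModPair.interior IX) inf_le_left := by
  have hY : (IX.comap g).ideal ⟨V, hV⟩ = Ideal.span {g.appLE U.1 V e a} := by
    rw [ModPairLib.ideal_comap IX g U ⟨V, hV⟩ e, ha, Ideal.map_span, Set.image_singleton]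
  have h1 : V ⊓ g ⁻¹ᵁ ModPair.interior IX = Y.basicOpen (g.appLE U.1 V e a) := by
    rw [ModPairLib.preimage_interior]
    exact ModPairLib.interior_inter_eq_basicOpen hY
  refine RestrClosed.congr (W := Y.basicOpen (g.appLE U.1 V e a)) (h := Y.basicOpen_le _) ?_ h1.symm _
  have H : RestrClosed U.1 (X.basicOpen a) (X.basicOpen_le a) :=
    (hint U.1 U.2).congr (ModPairLib.interior_inter_eq_basicOpen ha) _
  letI : Algebra Γ(X, U.1) Γ(Y, V) := (g.appLE U.1 V e).hom.toAlgebra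
  haveI : Algebra.Smooth Γ(X, U.1) Γ(Y, V) := by
    have h : (g.appLE U.1 V e).hom.Smooth :=
      HasRingHomProperty.appLE (P := @Smooth) g inferInstance U ⟨V, hV⟩ e
    exact RingHom.smooth_algebraMap.1 h
  haveI := U.2.isLocalization_basicOpen a
  haveI := hV.isLocalization_basicOpen (g.appLE U.1 V e a)
  haveI : IsLocalization.Away (algebraMap Γ(X, U.1) Γ(Y, V) a) Γ(Y, Y.basicOpen (g.appLE U.1 V e a)) := this
  intro t ht
  exact mem_range_of_smooth (A := Γ(X, U.1)) (S := Γ(Y, V)) (Aa := Γ(X, X.basicOpen a)) a H t ht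

theorem restriction_injective (hX : BlowUp.IsEffCartierIdeal IX) (g : Y ⟶ X) [Flat g] (W : Y.Opens) :
    Function.Injective ((g ⁻¹ᵁ ModPair.interior IX).ι.app W) := by
  haveI := ModPairLib.isAffineHom_interior (ModPairLib.isLocPrincipal_of_isEffCartier hX)
  haveI := ModPairLib.isSchemeTheoreticallyDominant_interior hX
  have h := (isPullback_morphismRestrict g (ModPair.interior IX)).flip
  haveI : IsAffineHom (g ⁻¹ᵁ ModPair.interior IX).ι :=
    MorphismProperty.of_isPullback (P := @IsAffineHom) h.flip inferInstance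
  haveI : IsSchemeTheoreticallyDominant (g ⁻¹ᵁ ModPair.interior IX).ι :=
    IsSchemeTheoreticallyDominant.of_isPullback (f := (ModPair.interior IX).ι) (g := g) h.flip
  exact (g ⁻¹ᵁ ModPair.interior IX).ι.app_injective W

theorem eq_of_restriction_eq (hX : BlowUp.IsEffCartierIdeal IX) (g : Y ⟶ X) [Flat g] {W : Y.Opens}
    {a b : Γ(Y, W)}
    (h : Y.presheaf.map (homOfLE (inf_le_left : W ⊓ g ⁻¹ᵁ ModPair.interior IX ≤ W)).op a =
      Y.presheaf.map (homOfLE (inf_le_left : W ⊓ g ⁻¹ᵁ ModPair.interior IX ≤ W)).op b) : a = b := by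
  refine restriction_injective hX g W ?_
  set O := g ⁻¹ᵁ ModPair.interior IX
  have hle : O.ι ''ᵁ (O.ι ⁻¹ᵁ W) ≤ W ⊓ O := le_inf (O.ι.image_preimage_eq_opensRange_inf W ▸ inf_le_right)
    (O.ι.image_le_opensRange _ |>.trans_eq O.opensRange_ι)
  have key : O.ι.app W = Y.presheaf.map (homOfLE (inf_le_left : W ⊓ O ≤ W)).op ≫
      Y.presheaf.map (homOfLE hle).op := by
    rw [Scheme.Opens.ι_app, ← Functor.map_comp]
    rfl
  rw [key]
  exact congrArg (Y.presheaf.map (homOfLE hle).op) h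

/-- Integral closedness in the interior lifts along étale morphisms. -/
theorem restrClosed (hX : BlowUp.IsEffCartierIdeal IX) (g : Y ⟶ X) [Etale g]
    (hint : ∀ U ∈ X.affineOpens, RestrClosed U (U ⊓ ModPair.interior IX) inf_le_left)
    (V : Y.Opens) : RestrClosed V (V ⊓ g ⁻¹ᵁ ModPair.interior IX) inf_le_left := by
  set O := g ⁻¹ᵁ ModPair.interior IX
  intro t ht
  have hcov : ∀ y : V, ∃ (U : X.affineOpens) (a : Γ(X, U.1)) (W : Y.Opens), IsAffineOpen W ∧ y.1 ∈ W ∧ W ≤ V ∧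
      W ≤ g ⁻¹ᵁ U.1 ∧ IX.ideal U = Ideal.span {a} := by
    intro y
    obtain ⟨U, hU, a, -, ha⟩ := hX (g y.1)
    obtain ⟨_, ⟨W, hW, rfl⟩, hyW, hWV⟩ := Y.isBasis_affineOpens.exists_subset_of_mem_open
      (show y.1 ∈ V ⊓ g ⁻¹ᵁ U.1 from ⟨y.2, hU⟩) (V ⊓ g ⁻¹ᵁ U.1).isOpen
    exact ⟨U, a, W, hW, hyW, fun z hz => (hWV hz).1, fun z hz => (hWV hz).2, ha⟩
  choose U a W hW hyW hWV hWU ha using hcov
  have hsol : ∀ y : V, ∃ s : Γ(Y, W y), Y.presheaf.map (homOfLE (inf_le_left : W y ⊓ O ≤ W y)).op s =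
      Y.presheaf.map (homOfLE (inf_le_inf_right O (hWV y))).op t := by
    intro y
    refine restrClosed_affine g hint (U y) (a y) (ha y) (W y) (hW y) (hWU y) _ ?_
    obtain ⟨p, hp, hp0⟩ := ht
    refine ⟨p.map (Y.presheaf.map (homOfLE (hWV y)).op).hom, hp.map _, ?_⟩
    rw [Polynomial.eval₂_map]
    have e : (Y.presheaf.map (homOfLE (inf_le_left : W y ⊓ O ≤ W y)).op).hom.comp
        (Y.presheaf.map (homOfLE (hWV y)).op).hom =
        (Y.presheaf.map (homOfLE (inf_le_inf_right O (hWV y))).op).hom.comp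
          (Y.presheaf.map (homOfLE (inf_le_left : V ⊓ O ≤ V)).op).hom := by
      rw [← CommRingCat.hom_comp, ← CommRingCat.hom_comp, ← Functor.map_comp, ← Functor.map_comp]
      rfl
    rw [e, ← Polynomial.hom_eval₂, hp0, map_zero]
  choose s hs using hsol
  have hcompat : TopCat.Presheaf.IsCompatible Y.sheaf.1 W s := by
    intro y z
    have h : ∀ (y : V) (Z : Y.Opens) (hZ : Z ≤ W y) (hZV : Z ≤ V),
        Y.presheaf.map (homOfLE (inf_le_left : Z ⊓ O ≤ Z)).op (Y.presheaf.map (homOfLE hZ).op (s y)) =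
          Y.presheaf.map (homOfLE (inf_le_inf_right O hZV)).op t := by
      intro y Z hZ hZV
      have := congrArg (Y.presheaf.map (homOfLE (inf_le_inf_right O hZ)).op) (hs y)
      simp only [← CommRingCat.comp_apply, ← Functor.map_comp] at this ⊢
      exact this
    refine eq_of_restriction_eq (Y := Y) hX g (W := W y ⊓ W z) ?_
    exact (h y _ inf_le_left (inf_le_left.trans (hWV y))).trans
      (h z _ inf_le_right (inf_le_left.trans (hWV y))).symm
  obtain ⟨S, hS, -⟩ := Y.sheaf.existsUnique_gluing' W V (fun y => homOfLE (hWV y))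
    (fun y hy => TopologicalSpace.Opens.mem_iSup.2 ⟨⟨y, hy⟩, hyW ⟨y, hy⟩⟩) s hcompat
  refine ⟨S, Y.IsSheaf.section_ext fun y hy => ?_⟩
  refine ⟨W ⟨y, hy.1⟩ ⊓ O, inf_le_inf_right O (hWV _), ⟨hyW _, hy.2⟩, ?_⟩
  rw [← hs]
  have := congrArg (Y.presheaf.map (homOfLE (inf_le_left : W ⟨y, hy.1⟩ ⊓ O ≤ W ⟨y, hy.1⟩)).op) (hS ⟨y, hy.1⟩)
  refine Eq.trans ?_ this
  show ((Y.presheaf.map _) ≫ Y.presheaf.map _) S = (Y.presheaf.map _ ≫ Y.presheaf.map _) S
  rw [← Functor.map_comp, ← Functor.map_comp]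
  rfl

end Groth.Agent.MdlA1.IntInterior
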