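import Groth.Agent.ModPairLib.Basic
import Mathlib.AlgebraicGeometry.AffineTransitionLimit

/-!
# Inclusions of ideal sheaves descend along cofiltered limits
-/

universe u

set_option autoImplicit false
set_option linter.style.haveILetI false

open CategoryTheory CategoryTheory.Limits AlgebraicGeometry

namespace Groth.Agent.MdlA1.LimAmbient

variable {I : Type u} [SmallCategory I] [IsCofiltered I] (D : I ⥤ Scheme.{u}) (c : Cone D)
  [∀ {i j : I} (f : i ⟶ j), IsAffineHom (D.map f)]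

/-- Sections from stage `j` to the limit. -/
noncomputable def q {i j : I} (f : j ⟶ i) (U : (D.obj i).Opens) :
    Γ(D.obj j, D.map f ⁻¹ᵁ U) ⟶ Γ(c.pt, c.π.app i ⁻¹ᵁ U) :=
  (c.π.app j).appLE _ _ (by rw [← Scheme.Hom.comp_preimage, c.w])

theorem app_q {i j : I} (f : j ⟶ i) (U : (D.obj i).Opens) :
    (D.map f).app U ≫ q D c f U = (c.π.app i).app U := by
  rw [q, Scheme.Hom.app_eq_appLE, Scheme.Hom.appLE_comp_appLE, Scheme.Hom.app_eq_appLE]
  simp only [c.w]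

theorem map_q {i j k : I} (f : j ⟶ i) (g : k ⟶ j) (f' : k ⟶ i) (h : g ≫ f = f') (U : (D.obj i).Opens) :
    (D.map g).appLE (D.map f ⁻¹ᵁ U) (D.map f' ⁻¹ᵁ U)
      (by rw [← Scheme.Hom.comp_preimage, ← D.map_comp, h]) ≫ q D c f' U = q D c f U := by
  rw [q, q, Scheme.Hom.appLE_comp_appLE]
  simp only [c.w]

theorem app_map {i j k : I} (f : j ⟶ i) (g : k ⟶ j) (f' : k ⟶ i) (h : g ≫ f = f') (U : (D.obj i).Opens) :
    (D.map f).app U ≫ (D.map g).appLE (D.map f ⁻¹ᵁ U) (D.map f' ⁻¹ᵁ U)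
      (by rw [← Scheme.Hom.comp_preimage, ← D.map_comp, h]) = (D.map f').app U := by
  rw [Scheme.Hom.app_eq_appLE, Scheme.Hom.appLE_comp_appLE, Scheme.Hom.app_eq_appLE]
  simp only [← D.map_comp, h]

theorem exists_q_eq (hc : IsLimit c) {i : I} {U : (D.obj i).Opens} (hU : IsAffineOpen U)
    (z : Γ(c.pt, c.π.app i ⁻¹ᵁ U)) : ∃ (j : I) (f : j ⟶ i) (w : _), q D c f U w = z := by
  haveI (j : Over i) : IsAffine ((opensDiagram D i U).obj j) := hU.preimage (D.map j.hom)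
  obtain ⟨j, t, ht⟩ := exists_appTop_π_eq_of_isAffine_of_isLimit _ _ (isLimitOpensCone D c hc i U)
    ((c.π.app i ⁻¹ᵁ U).topIso.inv z)
  refine ⟨j.left, j.hom, (D.map j.hom ⁻¹ᵁ U).topIso.hom t, ?_⟩
  have h : c.π.app i ⁻¹ᵁ U ≤ c.π.app j.left ⁻¹ᵁ (D.map j.hom ⁻¹ᵁ U) := by
    rw [← Scheme.Hom.comp_preimage, c.w]
  have key : (D.map j.hom ⁻¹ᵁ U).topIso.hom ≫ q D c j.hom U =
      ((c.π.app j.left).resLE (D.map j.hom ⁻¹ᵁ U) (c.π.app i ⁻¹ᵁ U) h).appTop ≫
        (c.π.app i ⁻¹ᵁ U).topIso.hom := by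
    simp [q, Scheme.Hom.appTop, Scheme.Hom.app_eq_appLE, Scheme.Hom.resLE_appLE, Scheme.Opens.topIso]
    erw [Scheme.Hom.map_appLE, Scheme.Hom.appLE_map]
  refine (ConcreteCategory.congr_hom key t).trans ?_
  refine (congrArg (c.π.app i ⁻¹ᵁ U).topIso.hom ht).trans ?_
  exact Iso.inv_hom_id_apply _ z

/-- Membership in an extended ideal descends to a finite stage. -/
theorem exists_mem (hc : IsLimit c) {i : I} {U : (D.obj i).Opens} (hU : IsAffineOpen U)
    (K : Ideal Γ(D.obj i, U)) (a : Γ(D.obj i, U))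
    (ha : (c.π.app i).app U a ∈ K.map ((c.π.app i).app U).hom) :
    ∃ (j : I) (f : j ⟶ i), ∀ (k : I) (g : k ⟶ j),
      (D.map (g ≫ f)).app U a ∈ K.map ((D.map (g ≫ f)).app U).hom := by
  have hmem : ∀ {j k : I} (f : j ⟶ i) (g : k ⟶ j) (f' : k ⟶ i) (h : g ≫ f = f') (x : Γ(D.obj j, D.map f ⁻¹ᵁ U)),
      x ∈ K.map ((D.map f).app U).hom →
        (D.map g).appLE (D.map f ⁻¹ᵁ U) (D.map f' ⁻¹ᵁ U)
          (by rw [← Scheme.Hom.comp_preimage, ← D.map_comp, h]) x ∈ K.map ((D.map f').app U).hom := by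
    intro j k f g f' h x hx
    rw [← app_map D f g f' h U, CommRingCat.hom_comp, ← Ideal.map_map]
    exact Ideal.mem_map_of_mem _ hx
  have H : ∀ z ∈ K.map ((c.π.app i).app U).hom, ∃ (j : I) (f : j ⟶ i) (w : _),
      w ∈ K.map ((D.map f).app U).hom ∧ q D c f U w = z := by
    intro z hz
    induction hz using Submodule.span_induction with
    | mem z hz =>
      obtain ⟨x, hx, rfl⟩ := hz
      exact ⟨i, 𝟙 i, (D.map (𝟙 i)).app U x, Ideal.mem_map_of_mem _ hx, ConcreteCategory.congr_hom (app_q D c (𝟙 i) U) x⟩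
    | zero => exact ⟨i, 𝟙 i, 0, zero_mem _, map_zero _⟩
    | add x y _ _ hx hy =>
      obtain ⟨j, f, w, hw, rfl⟩ := hx
      obtain ⟨j', f', w', hw', rfl⟩ := hy
      obtain ⟨k, g, g', hg⟩ := IsCofiltered.cospan f f'
      refine ⟨k, g ≫ f, _, add_mem (hmem f g _ rfl w hw) (hmem f' g' _ hg.symm w' hw'), ?_⟩
      rw [map_add, ← CommRingCat.comp_apply, ← CommRingCat.comp_apply, map_q D c f g _ rfl, map_q D c f' g' _ hg.symm]
    | smul b x _ hx =>
      obtain ⟨j, f, w, hw, rfl⟩ := hx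
      obtain ⟨j', f', v, rfl⟩ := exists_q_eq D c hc hU b
      obtain ⟨k, g, g', hg⟩ := IsCofiltered.cospan f f'
      refine ⟨k, g ≫ f, (D.map g').appLE (D.map f' ⁻¹ᵁ U) (D.map (g ≫ f) ⁻¹ᵁ U)
        (by rw [← Scheme.Hom.comp_preimage, ← D.map_comp, hg]) v *
        (D.map g).appLE (D.map f ⁻¹ᵁ U) (D.map (g ≫ f) ⁻¹ᵁ U)
        (by rw [← Scheme.Hom.comp_preimage, ← D.map_comp]) w, Ideal.mul_mem_left _ _ (hmem f g _ rfl w hw), ?_⟩
      rw [map_mul, ← CommRingCat.comp_apply, ← CommRingCat.comp_apply, map_q D c f' g' _ hg.symm,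
        map_q D c f g _ rfl, smul_eq_mul]
  obtain ⟨j, f, w, hw, he⟩ := H _ ha
  have hz : (c.π.app j).app (D.map f ⁻¹ᵁ U) (w - (D.map f).app U a) = 0 := by
    have hb : Function.Injective (c.pt.presheaf.map (homOfLE (show c.π.app i ⁻¹ᵁ U ≤
        c.π.app j ⁻¹ᵁ (D.map f ⁻¹ᵁ U) by rw [← Scheme.Hom.comp_preimage, c.w])).op) := by
      have : IsIso (homOfLE (show c.π.app i ⁻¹ᵁ U ≤ c.π.app j ⁻¹ᵁ (D.map f ⁻¹ᵁ U) by
          rw [← Scheme.Hom.comp_preimage, c.w])).op := by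
        have e : c.π.app i ⁻¹ᵁ U = c.π.app j ⁻¹ᵁ (D.map f ⁻¹ᵁ U) := by rw [← Scheme.Hom.comp_preimage, c.w]
        refine ⟨(eqToHom e.symm).op, Subsingleton.elim _ _, Subsingleton.elim _ _⟩
      exact (ConcreteCategory.bijective_of_isIso _).1
    refine hb ?_
    rw [map_zero, map_sub, map_sub, sub_eq_zero]
    refine Eq.trans (?_ : _ = q D c f U w) (he.trans ?_)
    · rw [← CommRingCat.comp_apply, q, Scheme.Hom.app_eq_appLE]
      erw [Scheme.Hom.appLE_map]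
    · rw [← app_q D c f U, CommRingCat.comp_apply, ← CommRingCat.comp_apply ((c.π.app j).app _), q,
        Scheme.Hom.app_eq_appLE (c.π.app j)]
      erw [Scheme.Hom.appLE_map]
  obtain ⟨k, g, hk⟩ := exists_app_map_eq_zero_of_isLimit D c hc (hU.preimage (D.map f)).isCompact _ hz
  refine ⟨k, g ≫ f, fun l h => ?_⟩
  rw [map_sub, sub_eq_zero] at hk
  have e1 : (D.map g).appLE (D.map f ⁻¹ᵁ U) (D.map (g ≫ f) ⁻¹ᵁ U)
      (by rw [← Scheme.Hom.comp_preimage, ← D.map_comp]) w = (D.map (g ≫ f)).app U a := by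
    have := ConcreteCategory.congr_hom (app_map D f g _ rfl U) a
    rw [← this, CommRingCat.comp_apply]
    simp only [Scheme.Hom.appLE, CommRingCat.comp_apply]
    rw [hk]
  have h3 := hmem (g ≫ f) h (h ≫ g ≫ f) rfl _ (e1 ▸ hmem f g _ rfl w hw)
  rwa [← CommRingCat.comp_apply, app_map D (g ≫ f) h _ rfl] at h3

/-- An inclusion of a locally principal ideal sheaf descends to a finite stage. -/
theorem exists_le (hc : IsLimit c) {i : I} [CompactSpace (D.obj i)] (J K : (D.obj i).IdealSheafData)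
    (hJ : ∀ x : D.obj i, ∃ U : (D.obj i).affineOpens, x ∈ U.1 ∧ ∃ a, J.ideal U = Ideal.span {a})
    (h : J.comap (c.π.app i) ≤ K.comap (c.π.app i)) :
    ∃ (j : I) (f : j ⟶ i), J.comap (D.map f) ≤ K.comap (D.map f) := by
  classical
  haveI := isAffineHom_π_app D c hc i
  choose U hxU a ha using hJ
  obtain ⟨s, hs⟩ := isCompact_univ.elim_finite_subcover (fun x : D.obj i => ((U x).1 : Set (D.obj i)))
    (fun x => (U x).1.isOpen) (fun x _ => Set.mem_iUnion.2 ⟨x, hxU x⟩)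
  have key : ∀ x, ∃ (j : I) (f : j ⟶ i), ∀ (k : I) (g : k ⟶ j),
      (D.map (g ≫ f)).app (U x).1 (a x) ∈ (K.ideal (U x)).map ((D.map (g ≫ f)).app (U x).1).hom := by
    intro x
    refine exists_mem D c hc (U x).2 _ _ ?_
    have hle := h ⟨c.π.app i ⁻¹ᵁ (U x).1, (U x).2.preimage _⟩
    rw [ModPairLib.ideal_comap J (c.π.app i) (U x) _ le_rfl,
      ModPairLib.ideal_comap K (c.π.app i) (U x) _ le_rfl, ha, ← Scheme.Hom.app_eq_appLE] at hle
    exact hle (Ideal.mem_map_of_mem _ (Ideal.mem_span_singleton_self _))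
  choose jx fx hjx using key
  obtain ⟨j, f, g, hg⟩ := IsCofiltered.wideCospan (fun x : s => fx x.1)
  refine ⟨j, f, Scheme.IdealSheafData.le_of_iSup_eq_top
    (fun x : s => ⟨D.map f ⁻¹ᵁ (U x.1).1, (U x.1).2.preimage _⟩) ?_ fun x => ?_⟩
  · refine eq_top_iff.2 fun y _ => ?_
    obtain ⟨x, hx, hy⟩ := Set.mem_iUnion₂.1 (hs (Set.mem_univ (D.map f y)))
    exact TopologicalSpace.Opens.mem_iSup.2 ⟨⟨x, hx⟩, hy⟩
  · rw [ModPairLib.ideal_comap J (D.map f) (U x.1) _ le_rfl,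
      ModPairLib.ideal_comap K (D.map f) (U x.1) _ le_rfl, ha, ← Scheme.Hom.app_eq_appLE,
      Ideal.map_span, Set.image_singleton, Ideal.span_singleton_le_iff_mem]
    obtain rfl := hg x
    exact hjx x.1 j (g x)

end Groth.Agent.MdlA1.LimAmbient
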