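import Mathlib

/-!
# Finite projections from a limit are eventually closed immersions
-/

universe u

set_option autoImplicit false
set_option linter.style.haveILetI false

open CategoryTheory CategoryTheory.Limits AlgebraicGeometry

namespace Groth.Agent.MdlA1.LimClosed

theorem resLE_iff {X Y : Scheme.{u}} {P : MorphismProperty Scheme.{u}} (f : X ⟶ Y) (U : Y.Opens) (V : X.Opens)
    (h : V ≤ f ⁻¹ᵁ U) (hV : V = f ⁻¹ᵁ U) : P (f.resLE U V h) ↔ P (f ∣_ U) := by
  subst hV
  rw [Scheme.Hom.resLE_eq_morphismRestrict]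

variable {I : Type u} [SmallCategory I] [IsCofiltered I] (D : I ⥤ Scheme.{u}) (c : Cone D)
  [∀ {i j : I} (f : i ⟶ j), IsAffineHom (D.map f)]

theorem exists_affine (hc : IsLimit c) (i₀ : I) [IsFinite (c.π.app i₀)] (V : (D.obj i₀).Opens)
    (hV : IsAffineOpen V) : ∃ j : Over i₀, ∀ (k : Over i₀) (_ : k ⟶ j),
      IsClosedImmersion (c.π.app k.left ∣_ (D.map k.hom ⁻¹ᵁ V)) := by
  classical
  let E := opensCone D c i₀ V
  haveI hA : ∀ j : Over i₀, IsAffine ((opensDiagram D i₀ V).obj j) := fun j => hV.preimage (D.map j.hom)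
  have hE : IsLimit E := isLimitOpensCone D c hc i₀ V
  have hpre : ∀ j : Over i₀, c.π.app i₀ ⁻¹ᵁ V = c.π.app j.left ⁻¹ᵁ (D.map j.hom ⁻¹ᵁ V) := fun j => by
    rw [← Scheme.Hom.comp_preimage, c.w]
  let a : Over i₀ := Over.mk (𝟙 i₀)
  let p : ∀ j, E.pt ⟶ (opensDiagram D i₀ V).obj j := fun j => E.π.app j
  haveI hfin : IsFinite (p a) := by
    haveI : IsFinite (c.π.app a.left) := ‹IsFinite (c.π.app i₀)›
    exact (resLE_iff (P := @IsFinite) _ _ _ _ (hpre a)).2
      (IsZariskiLocalAtTarget.restrict (P := @IsFinite) inferInstance _)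
  haveI : IsAffine E.pt := isAffine_of_isAffineHom (p a)
  have hring : (p a).appTop.hom.Finite :=
    ((HasAffineProperty.iff_of_isAffine (P := @IsFinite)).1 hfin).2
  letI : Algebra Γ((opensDiagram D i₀ V).obj a, ⊤) Γ(E.pt, ⊤) := (p a).appTop.hom.toAlgebra
  obtain ⟨s, hs⟩ := (hring : Module.Finite Γ((opensDiagram D i₀ V).obj a, ⊤) Γ(E.pt, ⊤)).fg_top
  choose kb tb htb using fun b : Γ(E.pt, ⊤) => exists_appTop_π_eq_of_isAffine_of_isLimit _ _ hE b
  obtain ⟨j, e, r, -⟩ := IsCofiltered.wideCospan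
    (fun b : s => (Over.homMk (kb b.1).hom : kb b.1 ⟶ a))
  refine ⟨j, fun k π => ?_⟩
  have hw : ∀ {l m : Over i₀} (g : l ⟶ m) (x : Γ((opensDiagram D i₀ V).obj m, ⊤)),
      (p l).appTop (((opensDiagram D i₀ V).map g).appTop x) = (p m).appTop x := by
    intro l m g x
    rw [← CommRingCat.comp_apply, ← Scheme.Hom.comp_appTop]
    exact congrArg (fun q : E.pt ⟶ _ => q.appTop x) (E.w g)
  have hsurj : Function.Surjective (p k).appTop := by
    intro y
    have hy : y ∈ Submodule.span Γ((opensDiagram D i₀ V).obj a, ⊤) (s : Set Γ(E.pt, ⊤)) := by rw [hs]; trivial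
    induction hy using Submodule.span_induction with
    | mem b hb => exact ⟨_, (hw (π ≫ r ⟨b, hb⟩) (tb b)).trans (htb b)⟩
    | zero => exact ⟨0, map_zero _⟩
    | add x y _ _ hx hy =>
      obtain ⟨x', rfl⟩ := hx
      obtain ⟨y', rfl⟩ := hy
      exact ⟨x' + y', map_add _ _ _⟩
    | smul c x _ hx =>
      obtain ⟨x', rfl⟩ := hx
      refine ⟨((opensDiagram D i₀ V).map (π ≫ e)).appTop c * x', ?_⟩
      rw [map_mul, hw, Algebra.smul_def]
      rfl
  haveI : IsClosedImmersion (p k) := IsClosedImmersion.of_surjective_of_isAffine _ hsurj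
  exact (resLE_iff (P := @IsClosedImmersion) _ _ _ _ (hpre k)).1 this

/-- A finite projection from the limit yields closed immersions further up. -/
theorem exists_isClosedImmersion (hc : IsLimit c) (i₀ : I) [CompactSpace (D.obj i₀)] [IsFinite (c.π.app i₀)] :
    ∃ j : I, Nonempty (j ⟶ i₀) ∧ IsClosedImmersion (c.π.app j) := by
  classical
  let 𝒰 := (D.obj i₀).affineCover.finiteSubcover
  choose jV hjV using fun v => exists_affine D c hc i₀ (𝒰.f v).opensRange (isAffineOpen_opensRange (𝒰.f v))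
  obtain ⟨j, -, r, -⟩ := IsCofiltered.wideCospan
    (fun v : 𝒰.I₀ => (Over.homMk (jV v).hom : jV v ⟶ Over.mk (𝟙 i₀)))
  refine ⟨j.left, ⟨j.hom⟩, IsZariskiLocalAtTarget.of_iSup_eq_top
    (fun v => D.map j.hom ⁻¹ᵁ (𝒰.f v).opensRange) ?_ fun v => hjV v j (r v)⟩
  rw [← Scheme.Hom.preimage_iSup, 𝒰.iSup_opensRange, Scheme.Hom.preimage_top]

end Groth.Agent.MdlA1.LimClosed
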