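import Groth.Agent.MdlA1.LimClosed
import Groth.Agent.MorLib.EventuallyCIStr

/-!
# Limits of closed immersions: isomorphisms over an open descend
-/

universe u

set_option autoImplicit false
set_option linter.style.haveILetI false

open CategoryTheory CategoryTheory.Limits AlgebraicGeometry

namespace Groth.Agent.MdlA1.LimIsoOpen

variable {I : Type u} [SmallCategory I] [IsCofiltered I] {Y : Scheme.{u}} (D : I ⥤ Over Y) (c : Cone D)

theorem exists_isIso_restrict (hc : IsLimit c)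
    (hcl : ∀ (i j : I) (a : i ⟶ j), IsClosedImmersion (D.map a).left)
    [∀ i, QuasiCompact (D.obj i).hom] [∀ i, QuasiSeparated (D.obj i).hom] [∀ i, LocallyOfFiniteType (D.obj i).hom]
    [CompactSpace Y] [QuasiSeparatedSpace Y] (U : Y.Opens) [QuasiCompact U.ι]
    (hiso : IsIso (c.pt.hom ∣_ U)) (i₀ : I) :
    ∃ (j : I) (_ : j ⟶ i₀), ∀ (k : I) (_ : k ⟶ j), IsIso ((D.obj k).hom ∣_ U) := by
  haveI : CategoryTheory.IsConnected I := IsCofiltered.isConnected I
  let F := D ⋙ Over.forget Y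
  let cF : Cone F := (Over.forget Y).mapCone c
  have hcF : IsLimit cF := isLimitOfPreserves (Over.forget Y) hc
  haveI hclF : ∀ {i j : I} (a : i ⟶ j), IsClosedImmersion (F.map a) := fun a => hcl _ _ a
  haveI : ∀ {i j : I} (a : i ⟶ j), IsAffineHom (F.map a) := fun a => inferInstance
  haveI : CompactSpace (U : Scheme.{u}) := QuasiCompact.compactSpace_of_compactSpace U.ι
  haveI : QuasiSeparatedSpace (U : Scheme.{u}) := U.ι.isOpenEmbedding.quasiSeparatedSpace
  let hm : ∀ i, F.obj i ⟶ Y := fun i => (D.obj i).hom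
  have hmw : ∀ {i j : I} (a : i ⟶ j), F.map a ≫ hm j = hm i := fun a => Over.w (D.map a)
  have hcw : ∀ i, cF.π.app i ≫ hm i = c.pt.hom := fun i => Over.w (c.π.app i)
  haveI hq1 : ∀ i, QuasiCompact (hm i) := fun i => (inferInstance : QuasiCompact (D.obj i).hom)
  haveI hq2 : ∀ i, QuasiSeparated (hm i) := fun i => (inferInstance : QuasiSeparated (D.obj i).hom)
  haveI hq3 : ∀ i, LocallyOfFiniteType (hm i) := fun i => (inferInstance : LocallyOfFiniteType (D.obj i).hom)
  let W : (F.obj i₀).Opens := hm i₀ ⁻¹ᵁ U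
  have hpre : ∀ k : Over i₀, F.map k.hom ⁻¹ᵁ W = hm k.left ⁻¹ᵁ U := fun k => by
    show F.map k.hom ⁻¹ᵁ (hm i₀ ⁻¹ᵁ U) = _
    rw [← Scheme.Hom.comp_preimage, hmw]
  have hπ : cF.π.app i₀ ⁻¹ᵁ W = c.pt.hom ⁻¹ᵁ U := by
    show cF.π.app i₀ ⁻¹ᵁ (hm i₀ ⁻¹ᵁ U) = _
    rw [← Scheme.Hom.comp_preimage]
    exact congrArg (fun p : c.pt.left ⟶ Y => p ⁻¹ᵁ U) (hcw i₀)
  let E := opensCone F cF i₀ W
  let t : ∀ k : Over i₀, (opensDiagram F i₀ W).obj k ⟶ (U : Scheme.{u}) := fun k =>
    (hm k.left).resLE U (F.map k.hom ⁻¹ᵁ W) (hpre k).le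
  have hmap : ∀ {k l : Over i₀} (a : k ⟶ l), (opensDiagram F i₀ W).map a ≫ t l = t k := by
    intro k l a
    show (F.map a.left).resLE _ _ _ ≫ (hm l.left).resLE _ _ _ = (hm k.left).resLE _ _ _
    rw [Scheme.Hom.resLE_comp_resLE]
    simp only [hmw]
  have hqc : ∀ k, QuasiCompact (t k) := fun k =>
    (LimClosed.resLE_iff (P := @QuasiCompact) _ _ _ _ (hpre k)).2
      (IsZariskiLocalAtTarget.restrict (P := @QuasiCompact) (hq1 _) _)
  have hqs : ∀ k, QuasiSeparated (t k) := fun k =>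
    (LimClosed.resLE_iff (P := @QuasiSeparated) _ _ _ _ (hpre k)).2
      (IsZariskiLocalAtTarget.restrict (P := @QuasiSeparated) (hq2 _) _)
  haveI : ∀ k, CompactSpace ((opensDiagram F i₀ W).obj k) := fun k =>
    have := hqc k; QuasiCompact.compactSpace_of_compactSpace (t k)
  haveI : ∀ k, QuasiSeparatedSpace ((opensDiagram F i₀ W).obj k) := fun k =>
    have := hqs k; quasiSeparatedSpace_of_quasiSeparated (t k)
  haveI : ∀ {k l : Over i₀} (a : k ⟶ l), IsClosedImmersion ((opensDiagram F i₀ W).map a) := fun {k l} a => by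
    refine (LimClosed.resLE_iff (P := @IsClosedImmersion) _ _ _ _ ?_).2
      (IsZariskiLocalAtTarget.restrict (P := @IsClosedImmersion) (hclF a.left) _)
    exact (congrArg (fun q => F.map q ⁻¹ᵁ W) (Over.w a).symm).trans (by rw [F.map_comp]; rfl)
  let a₀ : Over i₀ := Over.mk (𝟙 i₀)
  haveI : LocallyOfFiniteType (t a₀) := inferInstanceAs (LocallyOfFiniteType ((hm i₀).resLE U _ _))
  have hlim : ∀ k : Over i₀, E.π.app k ≫ t k = c.pt.hom.resLE U (cF.π.app i₀ ⁻¹ᵁ W) hπ.le := by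
    intro k
    show (cF.π.app k.left).resLE _ _ _ ≫ (hm k.left).resLE _ _ _ = _
    rw [Scheme.Hom.resLE_comp_resLE]
    congr 1
    exact hcw k.left
  have hisoE : ∀ k, IsIso (E.π.app k ≫ t k) := fun k => by
    rw [hlim]
    exact (LimClosed.resLE_iff (P := MorphismProperty.isomorphisms Scheme.{u}) _ _ _ _ hπ).2 hiso
  haveI : IsClosedImmersion (E.π.app a₀ ≫ t a₀) := by
    haveI := hisoE a₀; infer_instance
  obtain ⟨j, hj⟩ := MorLib.EvCI.exists_isClosedImmersion_structure (isLimitOpensCone F cF hcF i₀ W) a₀ (t a₀)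
  refine ⟨j.left.left, j.left.hom, fun k g => ?_⟩
  let k' : Over i₀ := Over.mk (g ≫ j.left.hom)
  let k'' : Over a₀ := Over.mk (Over.homMk k'.hom (Category.comp_id _) : k' ⟶ a₀)
  have hjg : k'' ⟶ j := Over.homMk (Over.homMk g rfl) (by
    refine Over.OverMorphism.ext ?_
    show g ≫ j.hom.left = g ≫ j.left.hom
    have := Over.w j.hom
    rw [show a₀.hom = 𝟙 i₀ from rfl] at this
    exact congrArg (g ≫ ·) ((Category.comp_id _).symm.trans this))
  have hci : IsClosedImmersion (t k') := by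
    have := hj k'' hjg
    rwa [hmap] at this
  haveI := hisoE k'
  haveI := hci
  haveI : IsSplitEpi (t k') := ⟨⟨⟨inv (E.π.app k' ≫ t k') ≫ E.π.app k', by
    rw [Category.assoc, IsIso.inv_hom_id]⟩⟩⟩
  have h1 : IsIso (t k') := isIso_of_mono_of_isSplitEpi _
  exact (LimClosed.resLE_iff (P := MorphismProperty.isomorphisms Scheme.{u}) _ _ _ _ (hpre k')).1 h1

end Groth.Agent.MdlA1.LimIsoOpen
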