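import Groth.Agent.MdlA1.LimAmbient
import Groth.Agent.MorLib.IdealFG2

/-!
# Locally principal ideal sheaves descend along cofiltered limits
-/

universe u

set_option autoImplicit false
set_option linter.style.haveILetI false

open CategoryTheory CategoryTheory.Limits AlgebraicGeometry TopologicalSpace

namespace Groth.Agent.MdlA1.LimPrincipal

variable {I : Type u} [SmallCategory I] [IsCofiltered I] (D : I ⥤ Scheme.{u}) (c : Cone D)
  [∀ {i j : I} (f : i ⟶ j), IsAffineHom (D.map f)]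

/-- A finitely generated ideal which becomes principal in the limit is principal at a finite stage. -/
theorem exists_eq_span (hc : IsLimit c) {i : I} {U : (D.obj i).Opens} (hU : IsAffineOpen U)
    (K : Ideal Γ(D.obj i, U)) (hK : K.FG) (a : Γ(D.obj i, U))
    (ha : K.map ((c.π.app i).app U).hom = Ideal.span {(c.π.app i).app U a}) :
    ∃ (j : I) (f : j ⟶ i), K.map ((D.map f).app U).hom = Ideal.span {(D.map f).app U a} := by
  classical
  obtain ⟨s, hs⟩ := hK
  have h1 := LimAmbient.exists_mem D c hc hU K a (ha ▸ Ideal.mem_span_singleton_self _)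
  have h2 : ∀ g : s, ∃ (j : I) (f : j ⟶ i), ∀ (k : I) (h : k ⟶ j),
      (D.map (h ≫ f)).app U g.1 ∈ (Ideal.span {a}).map ((D.map (h ≫ f)).app U).hom := by
    intro g
    refine LimAmbient.exists_mem D c hc hU _ _ ?_
    rw [Ideal.map_span, Set.image_singleton]
    exact ha ▸ Ideal.mem_map_of_mem _ (hs ▸ Ideal.subset_span g.2)
  obtain ⟨j₁, f₁, hf₁⟩ := h1
  choose jg fg hfg using h2
  obtain ⟨j₂, f₂, r, hr⟩ := IsCofiltered.wideCospan (fun g : s => fg g)
  obtain ⟨j, p, q, hpq⟩ := IsCofiltered.cospan f₁ f₂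
  refine ⟨j, p ≫ f₁, le_antisymm (Ideal.map_le_iff_le_comap.2 ?_) ?_⟩
  · rw [← hs, Ideal.span_le]
    intro g hg
    have e : (q ≫ r ⟨g, hg⟩) ≫ fg ⟨g, hg⟩ = p ≫ f₁ := by rw [Category.assoc, hr, hpq]
    have h := hfg ⟨g, hg⟩ j (q ≫ r ⟨g, hg⟩)
    rw [e, Ideal.map_span, Set.image_singleton] at h
    exact h
  · rw [Ideal.span_singleton_le_iff_mem]
    exact hf₁ j p

/-- A finitely generated ideal sheaf which becomes locally principal in the limit does so at a stage. -/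
theorem exists_isLocPrincipal [∀ i, CompactSpace (D.obj i)] (hc : IsLimit c) {i : I}
    (K : (D.obj i).IdealSheafData) (hK : MorLib.IdealFG.IsFG K)
    (h : ModPairLib.IsLocPrincipal (K.comap (c.π.app i))) :
    ∃ (j : I) (f : j ⟶ i), ModPairLib.IsLocPrincipal (K.comap (D.map f)) := by
  classical
  haveI : CompactSpace c.pt := Scheme.compactSpace_of_isLimit D c hc
  have key : ∀ x : c.pt, ∃ (n : I) (g : n ⟶ i) (U : (D.obj n).affineOpens),
      c.π.app n x ∈ U.1 ∧ ∃ a, (K.comap (D.map g)).ideal U = Ideal.span {a} := by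
    intro x
    obtain ⟨V₀, hxV₀, t₀, ht₀⟩ := h x
    obtain ⟨_, ⟨_, ⟨l, V, hV, rfl⟩, rfl⟩, hxV, hVV₀⟩ :=
      (isBasis_preimage_isAffineOpen D c hc).exists_subset_of_mem_open hxV₀ V₀.1.isOpen
    obtain ⟨m, p, h', -⟩ := IsCofilteredOrEmpty.cone_objs l i
    let U : (D.obj m).Opens := D.map p ⁻¹ᵁ V
    have hU : IsAffineOpen U := hV.preimage _
    have hUV : c.π.app m ⁻¹ᵁ U = c.π.app l ⁻¹ᵁ V := by rw [← Scheme.Hom.comp_preimage, c.w]
    haveI := isAffineHom_π_app D c hc m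
    let W : c.pt.affineOpens := ⟨c.π.app m ⁻¹ᵁ U, hU.preimage _⟩
    have hW : W.1 ≤ V₀.1 := hUV.trans_le hVV₀
    let t : Γ(c.pt, W.1) := c.pt.presheaf.map (homOfLE hW).op t₀
    have hcomp : (K.comap (D.map h')).comap (c.π.app m) = K.comap (c.π.app i) := by
      rw [← Scheme.IdealSheafData.comap_comp, c.w]
    have ht : ((K.comap (D.map h')).comap (c.π.app m)).ideal W = Ideal.span {t} := by
      rw [hcomp, ← (K.comap (c.π.app i)).map_ideal (U := W) hW, ht₀, Ideal.map_span, Set.image_singleton]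
      rfl
    obtain ⟨n, g, w, hw⟩ := LimAmbient.exists_q_eq D c hc hU t
    let U' : (D.obj n).affineOpens := ⟨D.map g ⁻¹ᵁ U, hU.preimage _⟩
    have hU' : c.π.app n ⁻¹ᵁ U'.1 = W.1 := by
      show c.π.app n ⁻¹ᵁ (D.map g ⁻¹ᵁ U) = c.π.app m ⁻¹ᵁ U
      rw [← Scheme.Hom.comp_preimage, c.w]
    haveI := isAffineHom_π_app D c hc n
    have hcomp' : (K.comap (D.map (g ≫ h'))).comap (c.π.app n) = K.comap (c.π.app i) := by
      rw [← Scheme.IdealSheafData.comap_comp, c.w]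
    have hmap : ((K.comap (D.map (g ≫ h'))).ideal U').map ((c.π.app n).app U'.1).hom =
        Ideal.span {(c.π.app n).app U'.1 w} := by
      have h1 := ModPairLib.ideal_comap (K.comap (D.map (g ≫ h'))) (c.π.app n) U' W hU'.ge
      rw [hcomp', ← hcomp, ht] at h1
      have hb : Function.Bijective (c.pt.presheaf.map (eqToHom hU'.symm).op) := ConcreteCategory.bijective_of_isIso _
      have hinj : Function.Injective (Ideal.map (c.pt.presheaf.map (eqToHom hU'.symm).op).hom) :=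
        Function.LeftInverse.injective fun J => Ideal.comap_map_of_bijective _ hb
      refine hinj ?_
      rw [Ideal.map_map, ← CommRingCat.hom_comp, Ideal.map_span, Set.image_singleton]
      have e : (c.π.app n).app U'.1 ≫ c.pt.presheaf.map (eqToHom hU'.symm).op =
          (c.π.app n).appLE U'.1 W.1 hU'.ge := rfl
      rw [e, ← h1]
      refine congrArg (fun z => Ideal.span {z}) ?_
      rw [← hw]
      exact (ConcreteCategory.congr_hom e w).symm
    obtain ⟨k, f, hk⟩ := exists_eq_span D c hc U'.2 _ (MorLib.IdealFG.isFG_comap hK _ U') w hmap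
    refine ⟨k, f ≫ g ≫ h', ⟨D.map f ⁻¹ᵁ U'.1, U'.2.preimage _⟩, ?_, (D.map f).app U'.1 w, ?_⟩
    · show c.π.app k x ∈ D.map f ⁻¹ᵁ (D.map g ⁻¹ᵁ (D.map p ⁻¹ᵁ V))
      rw [← Scheme.Hom.comp_preimage, ← Scheme.Hom.comp_preimage, ← D.map_comp, ← D.map_comp]
      show (c.π.app k ≫ D.map ((f ≫ g) ≫ p)) x ∈ V
      rw [c.w]
      exact hxV
    · rw [D.map_comp, Scheme.IdealSheafData.comap_comp,
        ModPairLib.ideal_comap (K.comap (D.map (g ≫ h'))) (D.map f) U' _ le_rfl, ← Scheme.Hom.app_eq_appLE]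
      exact hk
  choose n g U hxU a ha using key
  obtain ⟨s, hs⟩ := isCompact_univ.elim_finite_subcover
    (fun x : c.pt => ((c.π.app (n x) ⁻¹ᵁ (U x).1 : c.pt.Opens) : Set c.pt)) (fun x => (c.π.app (n x) ⁻¹ᵁ (U x).1).isOpen)
    (fun x _ => Set.mem_iUnion.2 ⟨x, hxU x⟩)
  obtain ⟨k, f, r, hr⟩ := IsCofiltered.wideCospan (fun x : s => g x.1)
  let O : s → (D.obj k).Opens := fun x => D.map (r x) ⁻¹ᵁ (U x.1).1
  obtain ⟨j, fj, hj⟩ := exists_map_eq_top D c hc (⨆ x, O x) (eq_top_iff.2 fun y _ => by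
    obtain ⟨x, hx, hy⟩ := Set.mem_iUnion₂.1 (hs (Set.mem_univ y))
    refine Opens.mem_iSup.2 ⟨⟨x, hx⟩, ?_⟩
    show (c.π.app k ≫ D.map (r ⟨x, hx⟩)) y ∈ (U x).1
    rw [c.w]
    exact hy)
  refine ⟨j, fj ≫ f, fun y => ?_⟩
  obtain ⟨x, hx⟩ := Opens.mem_iSup.1 (show D.map fj y ∈ ⨆ x, O x from hj.ge (trivial : y ∈ (⊤ : (D.obj j).Opens)))
  let W : (D.obj j).affineOpens := ⟨D.map fj ⁻¹ᵁ O x, ((U x.1).2.preimage _).preimage _⟩
  have e : W.1 ≤ D.map (fj ≫ r x) ⁻¹ᵁ (U x.1).1 := by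
    rw [D.map_comp, Scheme.Hom.comp_preimage]
  refine ⟨W, hx, (D.map (fj ≫ r x)).appLE (U x.1).1 W.1 e (a x.1), ?_⟩
  rw [← hr x, ← Category.assoc, D.map_comp, Scheme.IdealSheafData.comap_comp,
    ModPairLib.ideal_comap _ (D.map (fj ≫ r x)) (U x.1) W e, ha, Ideal.map_span, Set.image_singleton]

end Groth.Agent.MdlA1.LimPrincipal
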