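import Groth.Agent.MdlA1.LimIsoOpen
import Groth.Agent.MdlA1.LimPrincipal
import Groth.Agent.ModPairLib.Quot
import Groth.Prelude.Def_CurvBase

/-!
# The modulus along a system of closed immersions
-/

universe u

set_option autoImplicit false
set_option linter.style.haveILetI false

open CategoryTheory CategoryTheory.Limits AlgebraicGeometry

namespace Groth.Agent.MdlA1.ModApprox

theorem comap_w {A B C : Scheme.{u}} (q : A ⟶ B) (r : B ⟶ C) (q' : A ⟶ C) (h : q ≫ r = q')
    (J : C.IdealSheafData) : (J.comap r).comap q = J.comap q' := by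
  rw [← Scheme.IdealSheafData.comap_comp, h]

variable {I : Type u} [SmallCategory I] [IsCofiltered I] {X Y : Scheme.{u}} {f : X ⟶ Y}
  (D : I ⥤ Over Y) (π : (Functor.const I).obj (Over.mk f) ⟶ D)

theorem q_w {i j : I} (a : i ⟶ j) : (π.app i).left ≫ (D.map a).left = (π.app j).left :=
  congrArg CommaMorphism.left ((⟨Over.mk f, π⟩ : Cone D).w a)

theorem q_hom (i : I) : (π.app i).left ≫ (D.obj i).hom = f := Over.w (π.app i)

variable [∀ i, CompactSpace (D.obj i).left] [∀ i, QuasiSeparatedSpace (D.obj i).left]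

/-- A locally principal modulus descends together with the modulus conditions. -/
theorem exists_modulus (hc : IsLimit (⟨Over.mk f, π⟩ : Cone D))
    (haff : ∀ (i j : I) (a : i ⟶ j), IsAffineHom (D.map a).left)
    (IX : X.IdealSheafData) (IY : Y.IdealSheafData) (hX : ModPairLib.IsLocPrincipal IX)
    (hY : ModPairLib.IsLocPrincipal IY) (hf : IX ≤ IY.comap f) :
    ∃ (k : I) (J : (D.obj k).left.IdealSheafData), ModPairLib.IsLocPrincipal J ∧
      J.comap (π.app k).left = IX ∧ J ≤ IY.comap (D.obj k).hom ∧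
      (IY.comap f ≤ IX → IY.comap (D.obj k).hom ≤ J) := by
  classical
  haveI : CategoryTheory.IsConnected I := IsCofiltered.isConnected I
  let F := D ⋙ Over.forget Y
  let cF : Cone F := (Over.forget Y).mapCone ⟨Over.mk f, π⟩
  have hcF : IsLimit cF := isLimitOfPreserves (Over.forget Y) hc
  haveI : ∀ {i j : I} (a : i ⟶ j), IsAffineHom (F.map a) := fun a => haff _ _ a
  haveI : ∀ i, CompactSpace (F.obj i) := fun i => (inferInstance : CompactSpace (D.obj i).left)
  haveI : ∀ i, QuasiSeparatedSpace (F.obj i) := fun i => (inferInstance : QuasiSeparatedSpace (D.obj i).left)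
  obtain ⟨k₁, -, J₁, hJ₁, hJ₁X⟩ := MorLib.IdealFG.exists_comap_eq hcF (IsCofiltered.nonempty (C := I)).some IX
    (fun U => ModPairLib.fg_of_isLocPrincipal hX U)
  obtain ⟨k₂, a₂, hLP⟩ := LimPrincipal.exists_isLocPrincipal F cF hcF J₁ hJ₁ (hJ₁X.symm ▸ hX)
  obtain ⟨J₂, hLP₂, hJ₂⟩ : ∃ J₂ : (D.obj k₂).left.IdealSheafData, ModPairLib.IsLocPrincipal J₂ ∧
      J₂.comap (π.app k₂).left = IX :=
    ⟨(J₁ : (D.obj k₁).left.IdealSheafData).comap (D.map a₂).left, hLP,
      (comap_w (π.app k₂).left (D.map a₂).left (π.app k₁).left (q_w D π a₂) _).trans hJ₁X⟩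
  have hIY : (IY.comap (D.obj k₂).hom).comap (π.app k₂).left = IY.comap f := comap_w _ _ _ (q_hom D π k₂) IY
  have hle : J₂.comap (π.app k₂).left ≤ (IY.comap (D.obj k₂).hom).comap (π.app k₂).left := by
    rw [hJ₂, hIY]; exact hf
  obtain ⟨k₃, a₃, h₃⟩ := LimAmbient.exists_le F cF hcF J₂ (IY.comap (D.obj k₂).hom) hLP₂ hle
  obtain ⟨k₄, a₄, h₄⟩ : ∃ (k₄ : I) (a₄ : k₄ ⟶ k₃), IY.comap f ≤ IX →
      (IY.comap (D.obj k₂).hom).comap (D.map (a₄ ≫ a₃)).left ≤ J₂.comap (D.map (a₄ ≫ a₃)).left := by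
    by_cases hm : IY.comap f ≤ IX
    · have hle' : (IY.comap (D.obj k₂).hom).comap (π.app k₂).left ≤ J₂.comap (π.app k₂).left := by
        rw [hJ₂, hIY]; exact hm
      obtain ⟨k', b, hb⟩ := LimAmbient.exists_le F cF hcF (IY.comap (D.obj k₂).hom) J₂
        (ModPairLib.IsLocPrincipal.comap hY _) hle'
      obtain ⟨k₄, p, r, hpr⟩ := IsCofiltered.cospan a₃ b
      refine ⟨k₄, p, fun _ => ?_⟩
      rw [hpr, D.map_comp, Over.comp_left, Scheme.IdealSheafData.comap_comp, Scheme.IdealSheafData.comap_comp]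
      exact Scheme.IdealSheafData.comap_mono _ hb
    · exact ⟨k₃, 𝟙 _, fun h => absurd h hm⟩
  have h₃' : J₂.comap (D.map a₃).left ≤ (IY.comap (D.obj k₂).hom).comap (D.map a₃).left := h₃
  refine ⟨k₄, J₂.comap (D.map (a₄ ≫ a₃)).left, ModPairLib.IsLocPrincipal.comap hLP₂ _,
    (comap_w (π.app k₄).left (D.map (a₄ ≫ a₃)).left (π.app k₂).left (q_w D π (a₄ ≫ a₃)) J₂).trans hJ₂,
    ?_, fun hm => ?_⟩
  · rw [D.map_comp, Over.comp_left, Scheme.IdealSheafData.comap_comp]
    refine (Scheme.IdealSheafData.comap_mono _ h₃').trans (le_of_eq ?_)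
    refine (congrArg (fun K => K.comap (D.map a₄).left) (comap_w _ _ _ (Over.w (D.map a₃)) IY)).trans ?_
    exact comap_w _ _ _ (Over.w (D.map a₄)) IY
  · refine le_trans (le_of_eq ?_) (h₄ hm)
    exact (comap_w _ _ _ (Over.w (D.map (a₄ ≫ a₃))) IY).symm

/-- The conclusion of approximation for a given system. -/
theorem exists_system (hc : IsLimit (⟨Over.mk f, π⟩ : Cone D))
    (hcl : ∀ (i j : I) (a : i ⟶ j), IsClosedImmersion (D.map a).left)
    (hclπ : ∀ i, IsClosedImmersion (π.app i).left)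
    (hD : ∀ i, LocallyOfFinitePresentation (D.obj i).hom ∧ QuasiCompact (D.obj i).hom ∧ QuasiSeparated (D.obj i).hom)
    (hprop : IsProper f → ∀ i, IsProper (D.obj i).hom) [CompactSpace Y] [QuasiSeparatedSpace Y]
    (IX : X.IdealSheafData) (IY : Y.IdealSheafData) (hX : ModPairLib.IsLocPrincipal IX)
    (hY : ModPairLib.IsLocPrincipal IY) (hf : IX ≤ IY.comap f) :
    ∃ (I : Type u) (_ : SmallCategory I) (_ : IsCofiltered I) (D : I ⥤ Over Y) (c : Cone D)
      (_ : IsLimit c) (e : c.pt ≅ Over.mk f) (J : ∀ i, (D.obj i).left.IdealSheafData),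
      (∀ i, LocallyOfFinitePresentation (D.obj i).hom ∧ QuasiCompact (D.obj i).hom ∧
          QuasiSeparated (D.obj i).hom) ∧
        (∀ (i j : I) (t : i ⟶ j), IsClosedImmersion (D.map t).left) ∧
        (∀ i, IsClosedImmersion (c.π.app i).left) ∧
        (∀ i, Curv2.IsLocPrincipal (J i)) ∧
        (∀ i, IX = (J i).comap (e.inv.left ≫ (c.π.app i).left)) ∧
        (∀ (i j : I) (t : i ⟶ j), J i = (J j).comap (D.map t).left) ∧
        (∀ i, ModPair.IsAmbient (J i) IY (D.obj i).hom) ∧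
        (ModPair.IsMinimal IX IY f → ∀ i, ModPair.IsMinimal (J i) IY (D.obj i).hom) ∧
        (IsProper f → ∀ i, IsProper (D.obj i).hom) ∧
        (ModPair.IsMinimal IX IY f → IsIso (f ∣_ ModPair.interior IY) →
          ∀ i, IsIso ((D.obj i).hom ∣_ ModPair.interior IY)) := by
  classical
  obtain ⟨k, J, hJ, hJX, hJle, hJge⟩ := exists_modulus D π hc
    (fun i j a => have := hcl i j a; inferInstance) IX IY hX hY hf
  haveI := ModPairLib.isAffineHom_interior hY
  haveI : ∀ i, QuasiCompact (D.obj i).hom := fun i => (hD i).2.1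
  haveI : ∀ i, QuasiSeparated (D.obj i).hom := fun i => (hD i).2.2
  haveI : ∀ i, LocallyOfFiniteType (D.obj i).hom := fun i => have := (hD i).1; inferInstance
  obtain ⟨k', a, hiso⟩ : ∃ (k' : I) (_ : k' ⟶ k), IsIso (f ∣_ ModPair.interior IY) →
      ∀ (l : I) (_ : l ⟶ k'), IsIso ((D.obj l).hom ∣_ ModPair.interior IY) := by
    by_cases hi : IsIso (f ∣_ ModPair.interior IY)
    · obtain ⟨j, aj, hj⟩ := LimIsoOpen.exists_isIso_restrict D ⟨Over.mk f, π⟩ hc hcl (ModPair.interior IY) hi k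
      exact ⟨j, aj, fun _ => hj⟩
    · exact ⟨k, 𝟙 _, fun h => absurd h hi⟩
  refine ⟨Over k', inferInstance, inferInstance, Over.forget k' ⋙ D,
    (⟨Over.mk f, π⟩ : Cone D).whisker (Over.forget k'),
    (Functor.Initial.isLimitWhiskerEquiv (Over.forget k') (⟨Over.mk f, π⟩ : Cone D)).symm hc, Iso.refl _,
    fun l => J.comap (D.map (l.hom ≫ a)).left, fun l => hD l.left, fun l m t => hcl _ _ t.left,
    fun l => hclπ l.left, fun l x _ => ModPairLib.IsLocPrincipal.comap hJ (D.map (l.hom ≫ a)).left x,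
    fun l => ?_, fun l m t => ?_, fun l => ?_, fun hm l => ?_, fun hp l => hprop hp l.left,
    fun _ hi l => hiso hi l.left l.hom⟩
  · refine hJX.symm.trans ((comap_w _ _ _ (q_w D π (l.hom ≫ a)) J).symm.trans ?_)
    exact congrArg (J.comap (D.map (l.hom ≫ a)).left).comap (Category.id_comp (π.app l.left).left).symm
  · refine (comap_w _ _ _ ?_ J).symm
    show (D.map t.left).left ≫ (D.map (m.hom ≫ a)).left = (D.map (l.hom ≫ a)).left
    rw [← Over.comp_left, ← D.map_comp, ← Category.assoc, Over.w t]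
  · refine (Scheme.IdealSheafData.comap_mono _ hJle).trans (le_of_eq ?_)
    exact comap_w _ _ _ (Over.w (D.map (l.hom ≫ a))) IY
  · refine le_antisymm ?_ ?_
    · refine (Scheme.IdealSheafData.comap_mono _ hJle).trans (le_of_eq ?_)
      exact comap_w _ _ _ (Over.w (D.map (l.hom ≫ a))) IY
    · refine le_trans (le_of_eq ?_) (Scheme.IdealSheafData.comap_mono _ (hJge (le_of_eq hm.symm)))
      exact (comap_w _ _ _ (Over.w (D.map (l.hom ≫ a))) IY).symm

end Groth.Agent.MdlA1.ModApprox
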