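import Groth.Agent.MdlA1.Formal

/-! Two families of attractor points for the positive integers agree if they do so near zero. -/

set_option autoImplicit false

universe u

open CategoryTheory CategoryTheory.Limits MonoidalCategory CartesianMonoidalCategory MonObj AlgebraicGeometry
open Magnet

namespace Groth.Agent.MdlA1

theorem exists_multiples_equiv :
    ∃ e : (AddSubmonoid.multiples (1 : ℤ)) ≃+ ℕ,
      ∀ n : AddSubmonoid.multiples (1 : ℤ), (AddMonoidHom.id ℤ) n = (e n : ℤ) := by
  have hnn : ∀ n : AddSubmonoid.multiples (1 : ℤ), 0 ≤ (n : ℤ) := by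
    rintro ⟨n, k, rfl⟩
    simp
  refine ⟨{ toFun := fun n => (n : ℤ).toNat
            invFun := fun k => ⟨(k : ℤ), k, by simp⟩
            left_inv := fun n => Subtype.ext (Int.toNat_of_nonneg (hnn n))
            right_inv := fun k => by simp
            map_add' := fun n m => Int.toNat_add (hnn n) (hnn m) }, fun n => ?_⟩
  exact (Int.toNat_of_nonneg (hnn n)).symm

variable {k : Type u} [Field k] {X Y : Over (Spec (CommRingCat.of k))}

local notation "Nm" => AddSubmonoid.multiples (1 : ℤ)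

/-- Equivariant families out of the affine line agreeing at nilpotent coordinates are equal. -/
theorem eq_of_nilpotent (a : MonAct (AMonS (Spec (CommRingCat.of k)) ℤ) X)
    (γ₁ γ₂ : AMonS (Spec (CommRingCat.of k)) Nm ⊗ Y ⟶ X)
    (h₁ : MonAct.IsEquivariant ((subAct (Spec (CommRingCat.of k)) ℤ Nm).prod (MonAct.trivial _ Y)) a γ₁)
    (h₂ : MonAct.IsEquivariant ((subAct (Spec (CommRingCat.of k)) ℤ Nm).prod (MonAct.trivial _ Y)) a γ₂)
    (h : ∀ (T : Over (Spec (CommRingCat.of k))) (m : T ⟶ AMonS (Spec (CommRingCat.of k)) Nm) (t : T ⟶ Y),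
      (∃ n : ℕ, ∀ m' : T ⟶ AMonS (Spec (CommRingCat.of k)) Nm, m ^ (n + 1) * m' = m ^ (n + 1)) →
      lift m t ≫ γ₁ = lift m t ≫ γ₂) :
    γ₁ = γ₂ := by
  obtain ⟨e, he⟩ := exists_multiples_equiv
  refine Over.OverMorphism.ext (eq_of_agreeOpen_eq_top _ _ ?_)
  let b := (MonAct.regular (AMonS (Spec (CommRingCat.of k)) Nm)).prod (MonAct.trivial _ Y)
  refine eq_top_of_fixed e b _ (fun K _ φ x c hc hx z => ?_) (fun K _ φ x hx z => ?_)
  · obtain ⟨v, hv⟩ := exists_gm_point k φ c hc
    obtain ⟨g, g', hgg, hgg', hg⟩ := exists_unit_point Nm e (AddMonoidHom.id ℤ) he (gmUnit k)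
    have hw : (fst _ (gm k)).left ((lift x v).left z) = x.left z := by
      rw [← Scheme.Hom.comp_apply, ← Over.comp_left, lift_fst]
    have hh := theta_mem_agreeOpen γ₁ γ₂ h₁ h₂ g g' hgg hgg' ((lift x v).left z) (hw.symm ▸ hx z)
    rw [← Scheme.Hom.comp_apply, ← Over.comp_left, lift_theta] at hh
    have heq : lift (v ≫ g) x ≫ ((subAct (Spec (CommRingCat.of k)) ℤ Nm).prod (MonAct.trivial _ Y)).act =
        lift (ptR e φ c) x ≫ b.act := by
      rw [← lift_comp_fst_snd x]
      simp only [b, subAct, MonAct.lift_prod_act, MonAct.lift_trivial_act, MonAct.lift_restrict_act,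
        MonAct.lift_regular_act, Category.assoc, hg, comp_pt, hv]
      rfl
    rw [heq] at hh
    exact hh
  · refine mem_agreeOpen_of_zero e γ₁ γ₂ (fun T c t hc => h T _ t ?_) φ x ?_ z
    · obtain ⟨n, hn⟩ := hc
      refine ⟨n, fun m' => ?_⟩
      rw [pt_pow, pow_succ, hn, MulZeroClass.zero_mul, pt_zero_mul]
    · have h0 := hx _ (𝟙 _) (pt e 0)
      rw [Category.id_comp, ← lift_comp_fst_snd x] at h0
      simp only [b, MonAct.lift_prod_act, MonAct.lift_trivial_act, MonAct.lift_regular_act, pt_zero_mul] at h0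
      have h1 := congrArg (· ≫ fst _ _) h0
      simp only [lift_fst] at h1
      exact h1.symm

end Groth.Agent.MdlA1
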