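import Groth.Agent.MdlA1.Points
import Mathlib.RingTheory.Polynomial.Basic

/-! An open stable under the invertible scalars and containing all fixed points is everything. -/

set_option autoImplicit false

universe u

open CategoryTheory CategoryTheory.Limits MonoidalCategory CartesianMonoidalCategory MonObj AlgebraicGeometry
open Magnet

namespace Groth.Agent.MdlA1

variable {S : Scheme.{u}} {N : Type} [AddCommMonoid N] {X : Over S}

/-- The zero of the affine line sends every point to a fixed point. -/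
theorem isFixed_zero_act (e : N ≃+ ℕ) (a : MonAct (AMonS S N) X) {T : Over S} (x : T ⟶ X) :
    ∀ (T' : Over S) (t : T' ⟶ T) (g : T' ⟶ AMonS S N),
      lift g (t ≫ lift (pt e 0) x ≫ a.act) ≫ a.act = t ≫ lift (pt e 0) x ≫ a.act := by
  intro T' t g
  rw [← Category.assoc t, comp_lift, comp_pt, map_zero, ← a.lift_mul_act, mul_pt_zero]

/-- The generic point of the line through a point specialises to the origin. -/
theorem generic_specializes (K : Type u) [Field K] :
    (Spec.map (CommRingCat.ofHom (algebraMap (Polynomial K) (FractionRing (Polynomial K)))))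
        (IsLocalRing.closedPoint (FractionRing (Polynomial K))) ⤳
      (Spec.map (CommRingCat.ofHom (Polynomial.evalRingHom (0 : K)))) (IsLocalRing.closedPoint K) := by
  refine (PrimeSpectrum.le_iff_specializes _ _).mp ?_
  intro r hr
  have h1 : algebraMap (Polynomial K) (FractionRing (Polynomial K)) r ∈
      IsLocalRing.maximalIdeal (FractionRing (Polynomial K)) := hr
  rw [IsLocalRing.maximalIdeal_eq_bot, Ideal.mem_bot] at h1
  rw [show r = 0 from IsFractionRing.injective _ _ (h1.trans (map_zero _).symm)]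
  exact zero_mem _

/-- Every point lies in a stable open containing the fixed points. -/
theorem mem_of_fixed (e : N ≃+ ℕ) (a : MonAct (AMonS S N) X) (W : X.left.Opens)
    (hst : ∀ (K : Type u) [Field K] (φ : Spec (CommRingCat.of K) ⟶ S) (x : aff φ ⟶ X) (c : K), c ≠ 0 →
      (∀ z, x.left z ∈ W) → ∀ z, (lift (ptR e φ c) x ≫ a.act).left z ∈ W)
    (hfix : ∀ (K : Type u) [Field K] (φ : Spec (CommRingCat.of K) ⟶ S) (x : aff φ ⟶ X),
      (∀ (T' : Over S) (t : T' ⟶ aff φ) (g : T' ⟶ AMonS S N), lift g (t ≫ x) ≫ a.act = t ≫ x) →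
      ∀ z, x.left z ∈ W)
    (K : Type u) [Field K] (φ : Spec (CommRingCat.of K) ⟶ S) (x : aff φ ⟶ X) :
    ∃ z, x.left z ∈ W := by
  let φR := Spec.map (CommRingCat.ofHom (Polynomial.C : K →+* Polynomial K)) ≫ φ
  let Φ : aff φR ⟶ X := lift (ptR e φR Polynomial.X) (affMap φ Polynomial.C ≫ x) ≫ a.act
  let v0 := affMap φR (Polynomial.evalRingHom (0 : K))
  let vη := affMap φR (algebraMap (Polynomial K) (FractionRing (Polynomial K)))
  have h0 : v0 ≫ Φ = lift (pt e 0) (v0 ≫ affMap φ Polynomial.C ≫ x) ≫ a.act := by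
    simp only [Φ, v0, ← Category.assoc, comp_lift, affMap_ptR]
    rw [Polynomial.coe_evalRingHom, Polynomial.eval_X, ptR_zero]
  have hW0 : Φ.left (v0.left (IsLocalRing.closedPoint K)) ∈ W := by
    have h := hfix K _ _ (isFixed_zero_act e a (v0 ≫ affMap φ Polynomial.C ≫ x))
      (IsLocalRing.closedPoint K)
    rw [← h0] at h
    exact h
  have hgen : Φ.left (vη.left (IsLocalRing.closedPoint (FractionRing (Polynomial K)))) ∈ W :=
    ((generic_specializes K).map Φ.left.continuous).mem_open W.2 hW0
  have hη : ∀ z, (vη ≫ Φ).left z ∈ W := by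
    intro z
    rw [Subsingleton.elim (α := ↥(Spec (CommRingCat.of (FractionRing (Polynomial K))))) z
      (IsLocalRing.closedPoint _)]
    exact hgen
  have ht : algebraMap (Polynomial K) (FractionRing (Polynomial K)) Polynomial.X ≠ 0 := fun h =>
    Polynomial.X_ne_zero (IsFractionRing.injective _ _ (h.trans (map_zero _).symm))
  have h2 := hst _ _ (vη ≫ Φ) _ (inv_ne_zero ht) hη (IsLocalRing.closedPoint _)
  have h3 : lift (ptR e _ (algebraMap (Polynomial K) (FractionRing (Polynomial K)) Polynomial.X)⁻¹)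
      (vη ≫ Φ) ≫ a.act = vη ≫ affMap φ Polynomial.C ≫ x := by
    have hΦ : vη ≫ Φ = lift (ptR e _ (algebraMap (Polynomial K) (FractionRing (Polynomial K)) Polynomial.X))
        (vη ≫ affMap φ Polynomial.C ≫ x) ≫ a.act := by
      simp only [Φ, vη, ← Category.assoc, comp_lift, affMap_ptR]
    rw [hΦ, ← a.lift_mul_act, ptR_mul, inv_mul_cancel₀ ht, ptR_one, a.lift_one_act]
  rw [h3] at h2
  exact ⟨_, h2⟩

/-- An open subset containing the fixed points and stable under invertible scalars is everything. -/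
theorem eq_top_of_fixed (e : N ≃+ ℕ) (a : MonAct (AMonS S N) X) (W : X.left.Opens)
    (hst : ∀ (K : Type u) [Field K] (φ : Spec (CommRingCat.of K) ⟶ S) (x : aff φ ⟶ X) (c : K), c ≠ 0 →
      (∀ z, x.left z ∈ W) → ∀ z, (lift (ptR e φ c) x ≫ a.act).left z ∈ W)
    (hfix : ∀ (K : Type u) [Field K] (φ : Spec (CommRingCat.of K) ⟶ S) (x : aff φ ⟶ X),
      (∀ (T' : Over S) (t : T' ⟶ aff φ) (g : T' ⟶ AMonS S N), lift g (t ≫ x) ≫ a.act = t ≫ x) →
      ∀ z, x.left z ∈ W) :
    W = ⊤ := by
  refine top_le_iff.mp fun p _ => ?_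
  obtain ⟨z, hz⟩ := mem_of_fixed e a W hst hfix (X.left.residueField p) _
    (Over.homMk (X.left.fromSpecResidueField p) rfl :
      aff (X.left.fromSpecResidueField p ≫ X.hom) ⟶ X)
  have hp : (X.left.fromSpecResidueField p) z = p := Scheme.fromSpecResidueField_apply _ _
  change (X.left.fromSpecResidueField p) z ∈ W at hz
  rwa [hp] at hz

end Groth.Agent.MdlA1
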