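import Groth.Agent.MdlA1.FaceChar
import Groth.Agent.MdlA1.EqvLift

/-! An equivariant family lands in a stable open as soon as the limit of the unit point does. -/

set_option autoImplicit false

universe u

open CategoryTheory CategoryTheory.Limits MonoidalCategory CartesianMonoidalCategory MonObj AlgebraicGeometry
open Magnet Opposite Groth.Agent.H23.CharPts

namespace Groth.Agent.MdlA1

variable {S : Scheme.{u}}

/-- A point whose translate lies in a stable open lies in it. -/
theorem mem_of_act_mem {M : Type} [AddCommGroup M] {X : Over S} (a : MonAct (AMonS S M) X) (V : X.left.Opens)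
    (hV : (snd (AMonS S M) X).left ⁻¹ᵁ V ≤ a.act.left ⁻¹ᵁ V) {D : Over S} (g : D ⟶ AMonS S M) (y : D ⟶ X)
    (δ : D.left) (h : (lift g y ≫ a.act).left δ ∈ V) : y.left δ ∈ V := by
  let w := lift (ninv g) (lift g y ≫ a.act)
  have h1 : (w ≫ snd _ _).left δ ∈ V := by rw [lift_snd]; exact h
  have h2 : (w ≫ a.act).left δ ∈ V := hV (show w.left δ ∈ (snd (AMonS S M) X).left ⁻¹ᵁ V from h1)
  rwa [show w ≫ a.act = y by rw [← MonAct.lift_mul_act, ninv_mul, MonAct.lift_one_act]] at h2

/-- The limit point `1_F` of `A(N)`. -/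
noncomputable def facePt {M : Type} [AddCommMonoid M] {N F : AddSubmonoid M} (hF : IsFace N F) (T : Over S) :
    T ⟶ AMonS S N :=
  (1 : T ⟶ AMonS S F) ≫ AMonS.faceMap S hF

theorem chi_one {K : Type} [AddCommMonoid K] {T : Over S} (m : Multiplicative K) :
    chi (1 : T ⟶ AMonS S K) m = 1 := by
  obtain ⟨z, hz⟩ := exists_chi_eq (S := S) (T := T) (1 : Multiplicative K →* Γ(T.left, ⊤))
  have e : chi (1 : T ⟶ AMonS S K) m * chi z m = chi z m := by
    rw [← chi_mul, _root_.one_mul]
  rw [hz] at e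
  simpa using e

theorem comp_facePt {M : Type} [AddCommMonoid M] {N F : AddSubmonoid M} (hF : IsFace N F) {T T' : Over S}
    (u : T' ⟶ T) : u ≫ facePt hF T = facePt hF T' := by
  rw [facePt, facePt, ← Category.assoc, MonObj.comp_one]

variable {M : Type} [AddCommGroup M] {N : AddSubmonoid M} {X : Over S} (a : MonAct (AMonS S M) X)
  (V : X.left.Opens) (hV : (snd (AMonS S M) X).left ⁻¹ᵁ V ≤ a.act.left ⁻¹ᵁ V)

/-- A unit character on a face. -/
theorem exists_inv_face {K : Type u} [Field K] (G : AddSubmonoid M) (hGN : G ≤ N) (χ : Multiplicative N →* K)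
    (hG : ∀ n : N, (n : M) ∈ G ↔ χ (Multiplicative.ofAdd n) ≠ 0) :
    ∃ c : Multiplicative G →* K,
      ∀ n : N, ∀ h : (n : M) ∈ G,
        c (Multiplicative.ofAdd ⟨n, h⟩) * χ (Multiplicative.ofAdd n) =
          @ite _ ((n : M) ∈ unitFace N) (Classical.propDecidable _) 1 0 := by
  classical
  let inclG : G →+ N := AddSubmonoid.inclusion hGN
  have hUF : IsFace N (unitFace N) := isFace_unitFace N
  refine ⟨{ toFun := fun g => if ((Multiplicative.toAdd g : G) : M) ∈ unitFace N then
              (χ (Multiplicative.ofAdd (inclG (Multiplicative.toAdd g))))⁻¹ else 0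
            map_one' := ?_
            map_mul' := fun g g' => ?_ }, fun n h => ?_⟩
  · rw [if_pos (by exact zero_mem _)]
    show (χ (Multiplicative.ofAdd (inclG 0)))⁻¹ = 1
    rw [map_zero, ofAdd_zero, map_one, inv_one]
  · rw [toAdd_mul, AddSubmonoid.coe_add]
    by_cases h : ((Multiplicative.toAdd g : G) : M) + ((Multiplicative.toAdd g' : G) : M) ∈ unitFace N
    · obtain ⟨h1, h2⟩ := (hUF.add_mem_iff (hGN (Multiplicative.toAdd g).2) (hGN (Multiplicative.toAdd g').2)).mp h
      rw [if_pos h, if_pos h1, if_pos h2, map_add, ofAdd_add, map_mul, mul_inv]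
    · rw [if_neg h]
      split_ifs with h1 h2
      · exact absurd (add_mem h1 h2) h
      all_goals simp
  · show (if (n : M) ∈ unitFace N then (χ (Multiplicative.ofAdd (inclG ⟨n, h⟩)))⁻¹ else 0) * _ = _
    rw [show inclG ⟨(n : M), h⟩ = n from Subtype.ext rfl]
    split_ifs with hu
    · exact inv_mul_cancel₀ ((hG n).mp h)
    · exact MulZeroClass.zero_mul _

include hV in
/-- An equivariant family lands in a stable open if the limit point does. -/
theorem mem_of_face {T : Over S} (φ : (attr a N).obj (op T))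
    (h0 : ∀ s, (lift (facePt (isFace_unitFace N) T) (𝟙 T) ≫ φ.1).left s ∈ V)
    (p : (AMonS S N ⊗ T).left) : φ.1.left p ∈ V := by
  classical
  let K := (AMonS S N ⊗ T).left.residueField p
  let P := AMonS S N ⊗ T
  let D₀ : Over S := Over.mk (P.left.fromSpecResidueField p ≫ P.hom)
  let q : D₀ ⟶ P := Over.homMk (P.left.fromSpecResidueField p) rfl
  let κ : Γ(D₀.left, ⊤) →+* K := (Scheme.ΓSpecIso K).hom.hom
  have hκ : Function.Bijective κ := ConcreteCategory.bijective_of_isIso (Scheme.ΓSpecIso K).hom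
  let χ : Multiplicative N →* K := κ.toMonoidHom.comp (chi (q ≫ fst _ _))
  let G : AddSubmonoid M :=
    { carrier := {m | ∃ h : m ∈ N, χ (Multiplicative.ofAdd ⟨m, h⟩) ≠ 0}
      zero_mem' := ⟨zero_mem N, by
        rw [show (Multiplicative.ofAdd (⟨0, zero_mem N⟩ : N)) = 1 from rfl, map_one]; exact one_ne_zero⟩
      add_mem' := by
        rintro x y ⟨hx, hx'⟩ ⟨hy, hy'⟩
        refine ⟨add_mem hx hy, ?_⟩
        rw [show Multiplicative.ofAdd (⟨x + y, add_mem hx hy⟩ : N) =
          Multiplicative.ofAdd ⟨x, hx⟩ * Multiplicative.ofAdd ⟨y, hy⟩ from rfl, map_mul]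
        exact mul_ne_zero hx' hy' }
  have hGN : G ≤ N := fun m hm => hm.1
  have hG : ∀ n : N, (n : M) ∈ G ↔ χ (Multiplicative.ofAdd n) ≠ 0 := fun n =>
    ⟨fun ⟨_, h⟩ => h, fun h => ⟨n.2, h⟩⟩
  let R := MonoidAlgebra K (Multiplicative G)
  let Q := MonoidAlgebra K (Multiplicative M)
  -- the orbit of the point, extended over `A(G)`
  let ψ : Multiplicative N →* R :=
    { toFun := fun n => if h : ((Multiplicative.toAdd n : N) : M) ∈ G then
          MonoidAlgebra.single (Multiplicative.ofAdd (⟨_, h⟩ : G)) (χ n) else 0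
      map_one' := (dif_pos (zero_mem G)).trans ((congrArg _ (map_one χ)).trans rfl)
      map_mul' := fun n n' => by
        have hadd : ((Multiplicative.toAdd (n * n') : N) : M) =
            ((Multiplicative.toAdd n : N) : M) + ((Multiplicative.toAdd n' : N) : M) := rfl
        by_cases h : ((Multiplicative.toAdd n : N) : M) ∈ G
        · by_cases h' : ((Multiplicative.toAdd n' : N) : M) ∈ G
          · rw [dif_pos h, dif_pos h', dif_pos (hadd ▸ add_mem h h'), MonoidAlgebra.single_mul_single]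
            exact (congrArg _ (map_mul χ n n')).trans rfl
          · rw [dif_neg h', MulZeroClass.mul_zero]
            split_ifs with hh
            · have hz : χ n' = 0 := not_not.mp fun e => h' ((hG (Multiplicative.toAdd n')).mpr e)
              rw [show χ (n * n') = 0 by rw [map_mul, hz, MulZeroClass.mul_zero]]
              exact MonoidAlgebra.single_zero _
            · rfl
        · rw [dif_neg h, MulZeroClass.zero_mul]
          split_ifs with hh
          · have hz : χ n = 0 := not_not.mp fun e => h ((hG (Multiplicative.toAdd n)).mpr e)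
            rw [show χ (n * n') = 0 by rw [map_mul, hz, MulZeroClass.zero_mul]]
            exact MonoidAlgebra.single_zero _
          · rfl }
  have hψ : ∀ n : N, ψ (Multiplicative.ofAdd n) = if h : (n : M) ∈ G then
      MonoidAlgebra.single (Multiplicative.ofAdd (⟨_, h⟩ : G)) (χ (Multiplicative.ofAdd n)) else 0 := fun n => rfl
  let W : Over S := Over.mk (Spec.map (CommRingCat.ofHom (MonoidAlgebra.singleOneRingHom : K →+* R)) ≫ D₀.hom)
  let w₀ : W ⟶ D₀ := Over.homMk (Spec.map (CommRingCat.ofHom (MonoidAlgebra.singleOneRingHom : K →+* R))) rfl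
  let fR : R →+* Γ(W.left, ⊤) := (Scheme.ΓSpecIso (CommRingCat.of R)).inv.hom
  obtain ⟨bψ, hbψ⟩ := exists_chi_eq (S := S) (T := W) (fR.toMonoidHom.comp ψ)
  let Φ : W ⟶ X := lift bψ (w₀ ≫ q ≫ snd _ _) ≫ φ.1
  -- the inverse unit point of `A(G)`
  obtain ⟨c, hc⟩ := exists_inv_face G hGN χ hG
  let cR : R →+* K := MonoidAlgebra.liftNCRingHom (RingHom.id K) c (fun _ _ => Commute.all _ _)
  have hcR : ∀ g r, cR (MonoidAlgebra.single g r) = r * c g := fun g r => MonoidAlgebra.liftNC_single _ _ _ _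
  have hcR1 : cR.comp (MonoidAlgebra.singleOneRingHom : K →+* R) = RingHom.id K := RingHom.ext fun r => by
    show cR (MonoidAlgebra.single 1 r) = r
    rw [hcR, map_one, _root_.mul_one]
  let v : D₀ ⟶ W := Over.homMk (Spec.map (CommRingCat.ofHom cR)) (by
    show Spec.map _ ≫ Spec.map _ ≫ D₀.hom = D₀.hom
    rw [← Spec.map_comp_assoc]
    refine (congrArg (Spec.map · ≫ D₀.hom) (?_ : _ = 𝟙 K)).trans ?_
    · exact CommRingCat.hom_ext hcR1
    · rw [Spec.map_id]; exact Category.id_comp _)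
  have hvw : v ≫ w₀ = 𝟙 _ := Over.OverMorphism.ext (by
    show Spec.map _ ≫ Spec.map _ = _
    rw [← Spec.map_comp]
    refine (congrArg Spec.map (?_ : _ = 𝟙 K)).trans (Spec.map_id _)
    exact CommRingCat.hom_ext hcR1)
  have hv : v ≫ Φ = (q ≫ snd _ _) ≫ lift (facePt (isFace_unitFace N) T) (𝟙 T) ≫ φ.1 := by
    show v ≫ lift bψ (w₀ ≫ q ≫ snd _ _) ≫ φ.1 = _
    rw [comp_lift_assoc, comp_lift_assoc, Category.comp_id, ← Category.assoc v w₀, hvw, Category.id_comp,
      comp_facePt]
    congr 2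
    refine chi_injective (MonoidHom.ext fun n => ?_)
    obtain ⟨n, rfl⟩ := Multiplicative.ofAdd.surjective n
    have e1 : chi (v ≫ bψ) (Multiplicative.ofAdd n) =
        (Scheme.ΓSpecIso K).inv (cR (ψ (Multiplicative.ofAdd n))) := by
      rw [chi_comp, hbψ]
      exact (congr($(Scheme.ΓSpecIso_inv_naturality (CommRingCat.ofHom cR)) (ψ (Multiplicative.ofAdd n)))).symm
    rw [e1, hψ]
    by_cases hn : (n : M) ∈ G
    · rw [dif_pos hn, hcR, mul_comm, hc n hn]
      split_ifs with hu
      · rw [facePt, chi_faceMap_of_mem _ _ n hu, chi_one]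
        exact map_one _
      · rw [facePt, chi_faceMap_of_not_mem _ _ n hu]
        exact map_zero _
    · rw [dif_neg hn, map_zero, map_zero, facePt, chi_faceMap_of_not_mem _ _ n (fun hu => hn ?_)]
      refine (hG n).mpr fun e => ?_
      obtain ⟨n', hn'⟩ : ∃ n' : N, n + n' = 0 := hu.2.elim fun y hy => ⟨⟨y, hy.1⟩, Subtype.ext hy.2⟩
      have : χ (Multiplicative.ofAdd n) * χ (Multiplicative.ofAdd n') = 1 := by
        rw [← map_mul, ← ofAdd_add, hn', ofAdd_zero, map_one]
      rw [e, MulZeroClass.zero_mul] at this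
      exact zero_ne_one this
  have hne : (Φ.left ⁻¹ᵁ V : Set W.left).Nonempty :=
    ⟨v.left (IsLocalRing.closedPoint K), by
      show (v ≫ Φ).left _ ∈ V
      rw [hv]
      exact h0 _⟩
  -- translates by the universal point are dense
  let incl : R →+* Q := MonoidAlgebra.mapDomainRingHom K (AddMonoidHom.toMultiplicative G.subtype)
  have hincl : Function.Injective incl :=
    MonoidAlgebra.mapDomain_injective (fun x y h => Subtype.val_injective h)
  have hdense : DenseRange (PrimeSpectrum.comap incl) :=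
    (PrimeSpectrum.denseRange_comap_iff_ker_le_nilRadical incl).mpr (by
      rw [(RingHom.injective_iff_ker_eq_bot incl).mp hincl]; exact bot_le)
  obtain ⟨δ, hδ⟩ := hdense.exists_mem_open (Φ.left ⁻¹ᵁ V).isOpen hne
  let D : Over S := Over.mk (Spec.map (CommRingCat.ofHom incl) ≫ W.hom)
  let u₀ : D ⟶ W := Over.homMk (Spec.map (CommRingCat.ofHom incl)) rfl
  let fQ : Q →+* Γ(D.left, ⊤) := (Scheme.ΓSpecIso (CommRingCat.of Q)).inv.hom
  obtain ⟨g, hg⟩ := exists_chi_eq (S := S) (T := D) (fQ.toMonoidHom.comp (MonoidAlgebra.of K (Multiplicative M)))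
  have hinc : ∀ z, u₀.left.appTop.hom (fR z) = fQ (incl z) := fun z =>
    (congr($(Scheme.ΓSpecIso_inv_naturality (CommRingCat.ofHom incl)) z)).symm
  have hw0 : ∀ y : Γ(D₀.left, ⊤), (u₀ ≫ w₀).left.appTop.hom y = fQ (MonoidAlgebra.single 1 (κ y)) := fun y => by
    obtain ⟨r, rfl⟩ := (ConcreteCategory.bijective_of_isIso (Scheme.ΓSpecIso K).inv).2 y
    rw [show κ ((Scheme.ΓSpecIso K).inv r) = r from congr($((Scheme.ΓSpecIso K).inv_hom_id) r)]
    show u₀.left.appTop.hom (w₀.left.appTop.hom ((Scheme.ΓSpecIso K).inv r)) = _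
    rw [show w₀.left.appTop.hom ((Scheme.ΓSpecIso K).inv r) = fR (MonoidAlgebra.single 1 r) from
      (congr($(Scheme.ΓSpecIso_inv_naturality (CommRingCat.ofHom (MonoidAlgebra.singleOneRingHom : K →+* R))) r)).symm,
      hinc]
    congr 1
    rw [show incl = MonoidAlgebra.mapDomainRingHom K (AddMonoidHom.toMultiplicative G.subtype) from rfl,
      MonoidAlgebra.mapDomainRingHom_apply, MonoidAlgebra.mapDomain_single, map_one]
  have htrans : u₀ ≫ Φ = lift g ((u₀ ≫ w₀) ≫ q ≫ φ.1) ≫ a.act := by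
    have h := (MonAct.mem_eqvHom_iff φ.1).mp φ.2 D g ((u₀ ≫ w₀) ≫ q ≫ fst _ _) ((u₀ ≫ w₀) ≫ q ≫ snd _ _)
    rw [show lift ((u₀ ≫ w₀) ≫ q ≫ fst _ _) ((u₀ ≫ w₀) ≫ q ≫ snd _ _) ≫ φ.1 = (u₀ ≫ w₀) ≫ q ≫ φ.1 by
      rw [← comp_lift, ← comp_lift, lift_fst_snd, Category.comp_id, Category.assoc]] at h
    rw [← h]
    show u₀ ≫ lift bψ (w₀ ≫ q ≫ snd _ _) ≫ φ.1 = _
    rw [comp_lift_assoc, ← Category.assoc u₀ w₀]
    congr 2
    rw [subAct, MonAct.lift_restrict_act, MonAct.lift_regular_act]
    refine chi_injective (MonoidHom.ext fun n => ?_)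
    obtain ⟨n, rfl⟩ := Multiplicative.ofAdd.surjective n
    rw [chi_comp, hbψ, chi_mul, chi_map, hg, chi_comp]
    show u₀.left.appTop.hom (fR (ψ (Multiplicative.ofAdd n))) = fQ (MonoidAlgebra.single _ 1) * _
    rw [hinc, hw0]
    show fQ (incl (ψ (Multiplicative.ofAdd n))) =
      fQ (MonoidAlgebra.single _ 1) * fQ (MonoidAlgebra.single 1 (χ (Multiplicative.ofAdd n)))
    rw [← map_mul, MonoidAlgebra.single_mul_single, _root_.mul_one, _root_.one_mul, hψ]
    congr 1
    split_ifs with hn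
    · show MonoidAlgebra.mapDomain _ (MonoidAlgebra.single _ _) = _
      rw [MonoidAlgebra.mapDomain_single]
      rfl
    · rw [map_zero, not_not.mp fun e => hn ((hG n).mpr e), MonoidAlgebra.single_zero]
  have hmem : (lift g ((u₀ ≫ w₀) ≫ q ≫ φ.1) ≫ a.act).left δ ∈ V := by
    rw [← htrans]
    exact hδ
  have h2 := mem_of_act_mem a V hV g _ δ hmem
  have hp : q.left ((u₀ ≫ w₀).left δ) = p := Scheme.fromSpecResidueField_apply _ _
  rw [← hp]
  exact h2

end Groth.Agent.MdlA1
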