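import Groth.Agent.MdlA1.AffRec

/-! The first order thickening of an affine scheme given by a square-zero ideal. -/

set_option autoImplicit false

universe u

open CategoryTheory CategoryTheory.Limits MonoidalCategory CartesianMonoidalCategory MonObj AlgebraicGeometry

namespace Groth.Agent.MdlA1

variable {S : Scheme.{u}}

theorem thick_quotientMk {A : Type u} [CommRing A] (I : Ideal A) (hI : I ^ 2 = ⊥)
    (str : Spec (CommRingCat.of A) ⟶ S) :
    Thick (Over.homMk (Spec.map (CommRingCat.ofHom (Ideal.Quotient.mk I))) rfl :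
      Over.mk (Spec.map (CommRingCat.ofHom (Ideal.Quotient.mk I)) ≫ str) ⟶ Over.mk str) := by
  have hnat : ∀ r, (Spec.map (CommRingCat.ofHom (Ideal.Quotient.mk I))).appTop.hom
      ((Scheme.ΓSpecIso (CommRingCat.of A)).inv r) =
      (Scheme.ΓSpecIso (CommRingCat.of (A ⧸ I))).inv (Ideal.Quotient.mk I r) := fun r =>
    congr($((Scheme.ΓSpecIso_inv_naturality (CommRingCat.ofHom (Ideal.Quotient.mk I))).symm) r)
  have hb := ConcreteCategory.bijective_of_isIso (Scheme.ΓSpecIso (CommRingCat.of A)).inv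
  have hb' := ConcreteCategory.bijective_of_isIso (Scheme.ΓSpecIso (CommRingCat.of (A ⧸ I))).inv
  refine ⟨fun y => ?_, fun a b ha hb₀ => ?_⟩
  · obtain ⟨z, rfl⟩ := hb'.2 y
    obtain ⟨r, rfl⟩ := Ideal.Quotient.mk_surjective z
    exact ⟨_, hnat r⟩
  · obtain ⟨a, rfl⟩ := hb.2 a
    obtain ⟨b, rfl⟩ := hb.2 b
    have key : ∀ r, (Spec.map (CommRingCat.ofHom (Ideal.Quotient.mk I))).appTop.hom
        ((Scheme.ΓSpecIso (CommRingCat.of A)).inv r) = 0 → r ∈ I := fun r hr => by
      rw [hnat] at hr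
      exact Ideal.Quotient.eq_zero_iff_mem.mp (hb'.1 (hr.trans (map_zero _).symm))
    have h : a * b = 0 := by
      have : a * b ∈ I ^ 2 := by
        rw [pow_two]
        exact Ideal.mul_mem_mul (key a ha) (key b hb₀)
      rwa [hI, Ideal.mem_bot] at this
    exact ((map_mul _ a b).symm.trans (congrArg _ h)).trans (map_zero _)

end Groth.Agent.MdlA1
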