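import Groth.Agent.MdlA1.EqvLift
import Groth.Agent.MdlA1.SpecThick
import Groth.Agent.MdlA1.Descend

/-! Smoothness of a morphism representing a transformation of functors. -/

set_option autoImplicit false

universe u

open CategoryTheory CategoryTheory.Limits MonoidalCategory CartesianMonoidalCategory MonObj AlgebraicGeometry
open Magnet Opposite

namespace Groth.Agent.MdlA1

variable {S : Scheme.{u}} {F G : (Over S)ᵒᵖ ⥤ Type u} (η' : F ⟶ G) {ZF ZG : Over S}
  (eF : F.RepresentableBy ZF) (eG : G.RepresentableBy ZG) (j : ZF ⟶ ZG)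
  (hj : ∀ (T : Over S) (z : T ⟶ ZF), eG.homEquiv (z ≫ j) = η'.app (op T) (eF.homEquiv z))

include eF hj in
/-- A morphism representing a formally smooth, limit preserving transformation is smooth. -/
theorem smooth_of_represents
    (hlift : ∀ (A : Type u) [CommRing A] (I : Ideal A), I ^ 2 = ⊥ → ∀ (str : Spec (CommRingCat.of A) ⟶ S)
      (x : F.obj (op (Over.mk (Spec.map (CommRingCat.ofHom (Ideal.Quotient.mk I)) ≫ str))))
      (y : G.obj (op (Over.mk str))),
      η'.app _ x = G.map (Over.homMk (Spec.map (CommRingCat.ofHom (Ideal.Quotient.mk I))) rfl :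
        Over.mk (Spec.map (CommRingCat.ofHom (Ideal.Quotient.mk I)) ≫ str) ⟶ Over.mk str).op y →
      ∃ l : F.obj (op (Over.mk str)),
        F.map (Over.homMk (Spec.map (CommRingCat.ofHom (Ideal.Quotient.mk I))) rfl :
          Over.mk (Spec.map (CommRingCat.ofHom (Ideal.Quotient.mk I)) ≫ str) ⟶ Over.mk str).op l = x ∧
        η'.app _ l = y)
    (hdesc : ∀ (I : Type u) [SmallCategory I] [IsCofiltered I] (E : I ⥤ Over S) [∀ i, IsAffine (E.obj i).left]
      (c : Cone E), IsLimit c → ∀ (x : F.obj (op c.pt)) (y : ∀ i, G.obj (op (E.obj i))),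
      (∀ {i i'} (g : i ⟶ i'), G.map (E.map g).op (y i') = y i) →
      (∀ i, G.map (c.π.app i).op (y i) = η'.app _ x) →
      ∃ (i : I) (x₀ : F.obj (op (E.obj i))), η'.app _ x₀ = y i ∧ F.map (c.π.app i).op x₀ = x) :
    Smooth j.left := by
  have hsymm : ∀ {T : Over S} (z : T ⟶ ZF) (w : T ⟶ ZG), η'.app (op T) (eF.homEquiv z) = eG.homEquiv w →
      z ≫ j = w := fun z w h => eG.homEquiv.injective (by rw [hj, h])
  refine (Groth.Agent.S1488.result j.left).mpr ⟨?_, ?_⟩
  · refine lfp_of_exists_factor j.left fun I _ _ D _ t c hc _ z hz => ?_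
    haveI : IsConnected I := IsCofiltered.isConnected _
    let E : I ⥤ Over S := overDiag ZG D t
    haveI : ∀ i, IsAffine (E.obj i).left := fun i => inferInstanceAs (IsAffine (D.obj i))
    let cE : Cone E := liftLimit (K := E) (F := Over.forget S) (c := c) hc
    let e := liftedLimitMapsToOriginal (K := E) (F := Over.forget S) (c := c) hc
    have hcE : IsLimit cE := liftedLimitIsLimit hc
    let eh : cE.pt.left ⟶ c.pt := e.hom.hom
    have he : ∀ i, eh ≫ c.π.app i = (cE.π.app i).left := fun i => e.hom.w i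
    let zE : cE.pt ⟶ ZF := Over.homMk (eh ≫ z) (by
      rw [← Over.w j, ← Category.assoc, Category.assoc eh, ← hz (Classical.arbitrary I), ← Category.assoc eh, he,
        Category.assoc]
      exact Over.w (cE.π.app _))
    let tG : ∀ i, E.obj i ⟶ ZG := fun i => Over.homMk (t.app i) rfl
    have hzE : ∀ i, cE.π.app i ≫ tG i = zE ≫ j := fun i => Over.OverMorphism.ext (by
      show (cE.π.app i).left ≫ t.app i = (eh ≫ z) ≫ j.left
      rw [← he]
      exact (Category.assoc _ _ _).trans ((congrArg (eh ≫ ·) (hz i)).trans (Category.assoc _ _ _).symm))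
    obtain ⟨i, x₀, hx₀, hx₀'⟩ := hdesc I E cE hcE (eF.homEquiv zE) (fun i => eG.homEquiv (tG i))
      (fun {i i'} g => by
        rw [← eG.homEquiv_comp]
        exact congrArg eG.homEquiv (Over.OverMorphism.ext ((t.naturality g).trans (Category.comp_id _))))
      (fun i => (eG.homEquiv_comp _ _).symm.trans ((congrArg eG.homEquiv (hzE i)).trans (hj _ zE)))
    refine ⟨i, (eF.homEquiv.symm x₀).left, ?_, ?_⟩
    · exact congrArg Over.Hom.left (hsymm (eF.homEquiv.symm x₀) (tG i) (by rw [Equiv.apply_symm_apply, hx₀]))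
    · have h : cE.π.app i ≫ eF.homEquiv.symm x₀ = zE := eF.homEquiv.injective (by
        rw [eF.homEquiv_comp, Equiv.apply_symm_apply, hx₀'])
      haveI : IsIso eh := inferInstanceAs (IsIso ((Cone.forget _).map e.hom))
      rw [← cancel_epi eh, ← Category.assoc, he]
      exact congrArg Over.Hom.left h
  · intro A _ I hI a b w
    let str : Spec (CommRingCat.of A) ⟶ S := b ≫ ZG.hom
    let u : Over.mk (Spec.map (CommRingCat.ofHom (Ideal.Quotient.mk I)) ≫ str) ⟶ Over.mk str :=
      Over.homMk (Spec.map (CommRingCat.ofHom (Ideal.Quotient.mk I))) rfl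
    let za : Over.mk (Spec.map (CommRingCat.ofHom (Ideal.Quotient.mk I)) ≫ str) ⟶ ZF := Over.homMk a (by
      show a ≫ ZF.hom = _ ≫ b ≫ ZG.hom
      rw [← Category.assoc, w, Category.assoc, Over.w j])
    let zb : Over.mk str ⟶ ZG := Over.homMk b rfl
    have hzab : u ≫ zb = za ≫ j := Over.OverMorphism.ext w
    obtain ⟨l, hl1, hl2⟩ := hlift A I hI str (eF.homEquiv za) (eG.homEquiv zb) (by
      rw [← hj, ← eG.homEquiv_comp, hzab])
    refine ⟨(eF.homEquiv.symm l).left, ?_, ?_⟩
    · have h : u ≫ eF.homEquiv.symm l = za := eF.homEquiv.injective (by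
        rw [eF.homEquiv_comp, Equiv.apply_symm_apply]
        exact hl1)
      exact congrArg Over.Hom.left h
    · exact congrArg Over.Hom.left (hsymm (eF.homEquiv.symm l) zb (by rw [Equiv.apply_symm_apply, hl2]))

end Groth.Agent.MdlA1
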