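import Mathlib.LinearAlgebra.SymmetricAlgebra.Basis
import Mathlib.RingTheory.MvPolynomial.Ideal
import Mathlib.RingTheory.Finiteness.Cardinality
import Mathlib.Algebra.Module.Projective

/-! The powers of the augmentation ideal of the symmetric algebra of a projective module are separated. -/

set_option autoImplicit false

universe u

namespace Groth.Agent.MdlA1

variable {C : Type u} [CommRing C] {P : Type u} [AddCommGroup P] [Module C P]

/-- The augmentation ideal. -/
noncomputable abbrev augIdeal (C : Type u) [CommRing C] (P : Type u) [AddCommGroup P] [Module C P] :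
    Ideal (SymmetricAlgebra C P) :=
  Ideal.span (Set.range (SymmetricAlgebra.ι C P))

theorem sub_algebraMapInv_mem (x : SymmetricAlgebra C P) :
    x - algebraMap C _ (SymmetricAlgebra.algebraMapInv x) ∈ augIdeal C P := by
  induction x using SymmetricAlgebra.induction with
  | algebraMap r => rw [SymmetricAlgebra.algebraMap_leftInverse P r, sub_self]; exact zero_mem _
  | ι p => rw [SymmetricAlgebra.algebraMapInv_ι, map_zero, sub_zero]; exact Ideal.subset_span ⟨p, rfl⟩
  | mul a b ha hb =>
    rw [map_mul, map_mul, show a * b - algebraMap C (SymmetricAlgebra C P) (SymmetricAlgebra.algebraMapInv a) *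
      algebraMap C _ (SymmetricAlgebra.algebraMapInv b) = a * (b - algebraMap C _ (SymmetricAlgebra.algebraMapInv b)) +
        algebraMap C _ (SymmetricAlgebra.algebraMapInv b) * (a - algebraMap C _ (SymmetricAlgebra.algebraMapInv a))
      by ring]
    exact add_mem (Ideal.mul_mem_left _ _ hb) (Ideal.mul_mem_left _ _ ha)
  | add a b ha hb =>
    rw [map_add, map_add, add_sub_add_comm]
    exact add_mem ha hb

theorem mem_augIdeal_iff (x : SymmetricAlgebra C P) :
    x ∈ augIdeal C P ↔ SymmetricAlgebra.algebraMapInv x = 0 := by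
  constructor
  · intro hx
    have hle : augIdeal C P ≤ RingHom.ker (SymmetricAlgebra.algebraMapInv : SymmetricAlgebra C P →ₐ[C] C) :=
      Ideal.span_le.mpr (by rintro _ ⟨p, rfl⟩; exact SymmetricAlgebra.algebraMapInv_ι p)
    exact hle hx
  · intro h
    simpa [h] using sub_algebraMapInv_mem x

/-- An element of the augmentation ideal is linear modulo its square. -/
theorem exists_linear_part (x : SymmetricAlgebra C P) (hx : x ∈ augIdeal C P) :
    ∃ p, x - SymmetricAlgebra.ι C P p ∈ augIdeal C P ^ 2 := by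
  refine Submodule.span_induction (p := fun x _ => ∃ p, x - SymmetricAlgebra.ι C P p ∈ augIdeal C P ^ 2)
    ?_ ?_ ?_ ?_ hx
  · rintro _ ⟨p, rfl⟩
    exact ⟨p, by simp⟩
  · exact ⟨0, by simp⟩
  · rintro a b _ _ ⟨p, hp⟩ ⟨q, hq⟩
    exact ⟨p + q, by rw [map_add, add_sub_add_comm]; exact add_mem hp hq⟩
  · rintro c a ha ⟨p, hp⟩
    refine ⟨SymmetricAlgebra.algebraMapInv c • p, ?_⟩
    rw [smul_eq_mul, map_smul, Algebra.smul_def,
      show c * a - algebraMap C _ (SymmetricAlgebra.algebraMapInv c) * SymmetricAlgebra.ι C P p =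
        (c - algebraMap C _ (SymmetricAlgebra.algebraMapInv c)) * a +
          algebraMap C _ (SymmetricAlgebra.algebraMapInv c) * (a - SymmetricAlgebra.ι C P p) by ring]
    refine add_mem ?_ (Ideal.mul_mem_left _ _ hp)
    rw [pow_two]
    exact Ideal.mul_mem_mul (sub_algebraMapInv_mem c) ha

theorem eq_zero_of_mem_pow [Module.Finite C P] [Module.Projective C P] (x : SymmetricAlgebra C P)
    (hx : ∀ n : ℕ, x ∈ augIdeal C P ^ n) : x = 0 := by
  obtain ⟨n, π, hπ⟩ := Module.Finite.exists_fin' C P
  obtain ⟨σ, hσ⟩ := Module.projective_lifting_property π LinearMap.id hπ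
  let b : Module.Basis (Fin n) C (Fin n → C) := Pi.basisFun C (Fin n)
  let e := SymmetricAlgebra.equivMvPolynomial b
  let F : SymmetricAlgebra C P →ₐ[C] MvPolynomial (Fin n) C :=
    e.toAlgHom.comp (SymmetricAlgebra.lift ((SymmetricAlgebra.ι C (Fin n → C)).comp σ))
  let G : MvPolynomial (Fin n) C →ₐ[C] SymmetricAlgebra C P :=
    (SymmetricAlgebra.lift ((SymmetricAlgebra.ι C P).comp π)).comp e.symm.toAlgHom
  have hGF : G.comp F = AlgHom.id C _ := SymmetricAlgebra.algHom_ext (LinearMap.ext fun p => by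
    show G (F (SymmetricAlgebra.ι C P p)) = SymmetricAlgebra.ι C P p
    simp only [F, G, AlgHom.comp_apply, SymmetricAlgebra.lift_ι_apply, LinearMap.comp_apply]
    erw [AlgEquiv.symm_apply_apply, SymmetricAlgebra.lift_ι_apply]
    exact congrArg (SymmetricAlgebra.ι C P) (LinearMap.congr_fun hσ p))
  have hmem : ∀ v : Fin n → C, e (SymmetricAlgebra.ι C _ v) ∈ MvPolynomial.idealOfVars (Fin n) C := fun v => by
    rw [← b.sum_repr v, map_sum, map_sum]
    refine Ideal.sum_mem _ fun i _ => ?_
    rw [map_smul, map_smul, SymmetricAlgebra.equivMvPolynomial_ι_apply, Algebra.smul_def]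
    exact Ideal.mul_mem_left _ _ (Ideal.subset_span ⟨i, rfl⟩)
  have hF : (augIdeal C P).map F ≤ MvPolynomial.idealOfVars (Fin n) C := by
    rw [Ideal.map_le_iff_le_comap, Ideal.span_le]
    rintro _ ⟨p, rfl⟩
    rw [SetLike.mem_coe, Ideal.mem_comap]
    simp only [F, AlgHom.comp_apply, SymmetricAlgebra.lift_ι_apply, LinearMap.comp_apply]
    exact hmem _
  have hpow : ∀ k : ℕ, F x ∈ MvPolynomial.idealOfVars (Fin n) C ^ k := fun k =>
    Ideal.pow_right_mono hF k (by rw [← Ideal.map_pow]; exact Ideal.mem_map_of_mem _ (hx k))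
  have h0 : F x = 0 := MvPolynomial.ext _ _ fun d => by
    simpa using (MvPolynomial.mem_pow_idealOfVars_iff' (d.degree + 1) (F x)).mp (hpow _) d (Nat.lt_succ_self _)
  have := AlgHom.congr_fun hGF x
  rw [AlgHom.comp_apply, h0, map_zero] at this
  exact this.symm

end Groth.Agent.MdlA1
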