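import Groth.Agent.MdlA1.UnitsRep
import Groth.Agent.MdlA1.AttrSheaf
import Groth.Agent.H28.StableOpen
import Groth.Agent.AlgSpDec.FppfDescent

/-! Equivariant families for a monoid with zero are representable when stable affine opens cover the fixed points. -/

set_option backward.isDefEq.respectTransparency false
set_option backward.isDefEq.respectTransparency.types false

universe u

open CategoryTheory CategoryTheory.Limits MonoidalCategory CartesianMonoidalCategory MonObj AlgebraicGeometry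
open Magnet Opposite AlgSp Groth.Agent.AlgSpLib Groth.Agent.AlgSpDec Groth.Agent.AlgSpDec.Fppf

namespace Groth.Agent.MdlA1.UnitsRep

variable {k : Type u} [Field k] {M G X : Over (Spec (CommRingCat.of k))} [MonObj M] [MonObj G]
  (i : G ⟶ M) [IsMonHom i] (a : MonAct G X)

theorem exists_res (U : X.left.Opens) (hU : (snd G X).left ⁻¹ᵁ U ≤ a.act.left ⁻¹ᵁ U) :
    ∃ (aU : MonAct G (Over.mk (U.ι ≫ X.hom))),
      MonAct.IsEquivariant aU a (Over.homMk U.ι rfl : Over.mk (U.ι ≫ X.hom) ⟶ X) := by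
  let j : Over.mk (U.ι ≫ X.hom) ⟶ X := Over.homMk U.ι rfl
  haveI : IsOpenImmersion j.left := inferInstanceAs (IsOpenImmersion U.ι)
  haveI : Mono j := (Over.forget _).mono_of_mono_map (inferInstanceAs (Mono j.left))
  obtain ⟨m, hm⟩ := H28.StableOpen.exists_lift j ((G ◁ j) ≫ a.act) (by
    rintro _ ⟨t, rfl⟩
    rw [show Set.range j.left = U from Scheme.Opens.range_ι U]
    refine hU (show ((G ◁ j) ≫ snd _ _).left t ∈ U from ?_)
    rw [whiskerLeft_snd]
    exact ((snd G (Over.mk (U.ι ≫ X.hom))).left t).2)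
  have hm' : ∀ {T : Over (Spec (CommRingCat.of k))} (g : T ⟶ G) (p : T ⟶ Over.mk (U.ι ≫ X.hom)),
      lift g p ≫ m ≫ j = lift g (p ≫ j) ≫ a.act := fun g p => by rw [hm, lift_whiskerLeft_assoc]
  refine ⟨MonAct.mk' m (fun T p => ?_) (fun T g h p => ?_), hm⟩
  · rw [← cancel_mono j, Category.assoc, hm', MonAct.lift_one_act]
  · rw [← cancel_mono j, Category.assoc, hm', MonAct.lift_mul_act, Category.assoc, hm',
      Category.assoc, hm']

theorem exists_representableBy_of_cover [QuasiCompact i.left] [IsSchemeTheoreticallyDominant i.left]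
    [IsAffine M.left] [IsAffine G.left]
    (o : 𝟙_ (Over (Spec (CommRingCat.of k))) ⟶ M)
    (ho : ∀ (T : Over (Spec (CommRingCat.of k))) (m : T ⟶ M), m * (toUnit T ≫ o) = toUnit T ≫ o)
    (hM : H28.StableOpen.StablePt ((MonAct.regular M).restrict i) o)
    (hcov : ∀ (T : Over (Spec (CommRingCat.of k))) (x : (MonAct.fixedPsh a).obj (op T)),
      ⨆ (U : X.left.Opens) (_ : IsAffineOpen U ∧ (snd G X).left ⁻¹ᵁ U ≤ a.act.left ⁻¹ᵁ U), x.1.left ⁻¹ᵁ U = ⊤) :
    ∃ Z, Nonempty ((MonAct.eqvHom ((MonAct.regular M).restrict i) a).RepresentableBy Z) := by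
  let B := Spec (CommRingCat.of k)
  let ρ := (MonAct.regular M).restrict i
  let J := {U : X.left.Opens // IsAffineOpen U ∧ (snd G X).left ⁻¹ᵁ U ≤ a.act.left ⁻¹ᵁ U}
  let R : ((Over B)ᵒᵖ ⥤ Type u) ⥤ ((Over B)ᵒᵖ ⥤ Type (u + 1)) :=
    (Functor.whiskeringRight _ _ _).obj CategoryTheory.uliftFunctor.{u + 1}
  let P : AlgSp.Sp B := ⟨R.obj (MonAct.eqvHom ρ a),
    (isSheaf_iff_isSheaf_of_type _ _).2 (Presieve.isSheaf_comp_uliftFunctor _ (isSheaf_eqvHom _ _))⟩
  let q : P ⟶ (AlgSp.yon B).obj X := ⟨R.map (MonAct.eqvHom.evalAt ρ a o)⟩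
  let inc : ∀ U : J, Over.mk (U.1.ι ≫ X.hom) ⟶ X := fun U => Over.homMk U.1.ι rfl
  have hpiece : ∀ U : J, ∃ (Z : Over B) (w : (AlgSp.yon B).obj Z ⟶ P), RepWith @IsOpenImmersion w ∧
      ∀ (T : Over B) (φ : (MonAct.eqvHom ρ a).obj (op T)),
        (∀ t, ((MonAct.eqvHom.evalAt ρ a o).app (op T) φ).left t ∈ U.1) →
          ∃ z : T ⟶ Z, (AlgSp.yon B).map z ≫ w = (AlgSp.J B).uliftYonedaEquiv.symm (ULift.up φ : P.obj.obj (op T)) := by
    intro U
    obtain ⟨aU, haU⟩ := exists_res a U.1 U.2.2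
    haveI : IsOpenImmersion (inc U).left := inferInstanceAs (IsOpenImmersion U.1.ι)
    haveI : IsAffine (Over.mk (U.1.ι ≫ X.hom)).left := U.2.1
    obtain ⟨Z, jZ, eZ, -, -⟩ := exists_representableBy i aU
    have sq := H28.StableOpen.isPullback (inc U) haU hM
    have sq' : IsPullback (eZ.toIso.hom ≫ MonAct.eqvHom.postcomp ρ (inc U) haU)
        (eZ.toIso.hom ≫ MonAct.eqvHom.evalAt ρ aU o) (MonAct.eqvHom.evalAt ρ a o) (yoneda.map (inc U)) :=
      sq.of_iso eZ.toIso.symm (Iso.refl _) (Iso.refl _) (Iso.refl _) (by simp [ρ]) (by simp [ρ]) (by simp [ρ]) (by simp [ρ])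
    let w : (AlgSp.yon B).obj Z ⟶ P := ⟨R.map (eZ.toIso.hom ≫ MonAct.eqvHom.postcomp ρ (inc U) haU)⟩
    let v : (AlgSp.yon B).obj Z ⟶ (AlgSp.yon B).obj (Over.mk (U.1.ι ≫ X.hom)) :=
      ⟨R.map (eZ.toIso.hom ≫ MonAct.eqvHom.evalAt ρ aU o)⟩
    have h' := sq'.map R
    have hsq : IsPullback w v q ((AlgSp.yon B).map (inc U)) :=
      IsPullback.of_map (sheafToPresheaf (AlgSp.J B) _) (Sheaf.hom_ext h'.w) h'
    refine ⟨Z, w, repWith_of_isPullback hsq.flip ((repWith_yon_map_iff _ _).2 ‹_›), fun T φ hφ => ?_⟩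
    obtain ⟨u, hu⟩ := H28.StableOpen.exists_lift (inc U) ((MonAct.eqvHom.evalAt ρ a o).app (op T) φ) (by
      rintro _ ⟨t, rfl⟩
      rw [show Set.range (inc U).left = U.1 from Scheme.Opens.range_ι _]
      exact hφ t)
    obtain ⟨c, hc, -⟩ := Types.exists_of_isPullback
      (sq'.map ((evaluation (Over B)ᵒᵖ (Type u)).obj (op T))) φ u hu.symm
    refine ⟨c, (AlgSp.J B).uliftYonedaEquiv.injective ?_⟩
    rw [Equiv.apply_symm_apply, GrothendieckTopology.uliftYonedaEquiv_comp,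
      GrothendieckTopology.uliftYonedaEquiv_uliftYoneda_map]
    exact congrArg ULift.up hc
  choose Z w hw hlift using hpiece
  obtain ⟨Q, ⟨e⟩, -⟩ := exists_iso_of_open_cover Z w hw fun x => by
    obtain ⟨T, g, t, hT, rfl⟩ := exists_ofPt_eq x
    obtain ⟨⟨φ⟩, rfl⟩ := (AlgSp.J B).uliftYonedaEquiv.symm.surjective g
    have hfix : ∀ (T' : Over B) (s : T' ⟶ T) (c : T' ⟶ G),
        lift c (s ≫ (MonAct.eqvHom.evalAt ρ a o).app (op T) φ) ≫ a.act =
          s ≫ (MonAct.eqvHom.evalAt ρ a o).app (op T) φ := fun T' s c => by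
      have h := (MonAct.mem_eqvHom_iff φ.1).1 φ.2 T' c (toUnit T' ≫ o) s
      rw [MonAct.lift_restrict_act, MonAct.lift_regular_act, ho] at h
      show lift c (s ≫ lift (toUnit T ≫ o) (𝟙 T) ≫ φ.1) ≫ a.act = s ≫ lift (toUnit T ≫ o) (𝟙 T) ≫ φ.1
      rw [comp_lift_assoc, Category.comp_id, ← Category.assoc s, comp_toUnit, ← h]
    have ht : t ∈ (⊤ : T.left.Opens) := trivial
    rw [← hcov T ⟨_, hfix⟩] at ht
    simp only [TopologicalSpace.Opens.mem_iSup] at ht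
    obtain ⟨U, hU, hUt⟩ := ht
    obtain ⟨z, hz⟩ := hlift ⟨U, hU⟩ T φ fun t' => by rw [Subsingleton.elim t' t]; exact hUt
    exact ⟨⟨U, hU⟩, z.left t, by rw [← ofPt_comp, hz]⟩
  exact ⟨Q, ⟨Functor.representableByEquiv.symm
    ((Functor.FullyFaithful.whiskeringRight (fullyFaithfulULiftFunctor.{u + 1}) (Over B)ᵒᵖ).preimageIso
      ((sheafToPresheaf (AlgSp.J B) _).mapIso e))⟩⟩

end Groth.Agent.MdlA1.UnitsRep
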