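import Groth.Agent.GrpSchLib.Kunneth
import Groth.Agent.H23.AMonExt
import Groth.Agent.H28.MagnetCrit
import Groth.Agent.H23.EqvPullback
import Mathlib.LinearAlgebra.TensorProduct.RightExactness

/-! The functor of equivariant families `M × T ⟶ X` for a dense open group `G ⊆ M` and affine `X` is a closed
subscheme of `X`. -/

set_option autoImplicit false

universe u

open CategoryTheory CategoryTheory.Limits MonoidalCategory CartesianMonoidalCategory MonObj AlgebraicGeometry
open Magnet Opposite TensorProduct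
open Groth.Agent.GrpSchLib.Kunneth

namespace Groth.Agent.MdlA1.UnitsRep

variable {k : Type u} [Field k] {M G X : Over (Spec (CommRingCat.of k))}

theorem ext_of_stDominant {A B Y : Over (Spec (CommRingCat.of k))} [IsSeparated Y.hom] (w : A ⟶ B)
    [IsSchemeTheoreticallyDominant w.left] {f g : B ⟶ Y} (h : w ≫ f = w ≫ g) : f = g := by
  haveI : IsClosedImmersion (lift (𝟙 Y) (𝟙 Y)).left :=
    inferInstanceAs (IsClosedImmersion (pullback.diagonal Y.hom))
  obtain ⟨d, hd⟩ := H23.AMonExt.exists_lift_over w (lift (𝟙 Y) (𝟙 Y)) (lift f g) (w ≫ f) (by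
    rw [comp_lift, comp_lift, Category.comp_id, ← h])
  rw [comp_lift, Category.comp_id] at hd
  have h1 := congrArg (· ≫ fst Y Y) hd
  have h2 := congrArg (· ≫ snd Y Y) hd
  simp only [lift_fst, lift_snd] at h1 h2
  exact h1.symm.trans h2

/-- Coordinates of the part outside a subspace of the left factor. -/
theorem map_rTensor_coord {A B A' : Type u} [CommRing A] [Algebra k A] [CommRing B] [Algebra k B] [CommRing A'] [Algebra k A']
    {Q : Type u} [AddCommGroup Q] [Module k Q] (π : A →ₗ[k] Q) (q : B →ₐ[k] A') {J : Type u} [DecidableEq J]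
    (b : Module.Basis J k Q) (z : A ⊗[k] B) (l : J) :
    TensorProduct.equivFinsuppOfBasisLeft b
        (π.rTensor A' (Algebra.TensorProduct.map (AlgHom.id k A) q z)) l =
      q (TensorProduct.equivFinsuppOfBasisLeft b (π.rTensor B z) l) := by
  induction z using TensorProduct.induction_on with
  | zero => simp
  | tmul a c => simp
  | add x y hx hy => simp [hx, hy]

variable [MonObj M] [MonObj G] (i : G ⟶ M) [IsMonHom i] (a : MonAct G X)

/-- A point whose orbit extends. -/
def InD {T : Over (Spec (CommRingCat.of k))} (x : T ⟶ X) : Prop :=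
  ∃ φ : (MonAct.eqvHom ((MonAct.regular M).restrict i) a).obj (op T),
    (MonAct.eqvHom.evalAt ((MonAct.regular M).restrict i) a η[M]).app (op T) φ = x

theorem InD.comp {T T' : Over (Spec (CommRingCat.of k))} {x : T ⟶ X} (h : InD i a x) (t : T' ⟶ T) :
    InD i a (t ≫ x) := by
  obtain ⟨φ, rfl⟩ := h
  exact ⟨(MonAct.eqvHom _ a).map t.op φ,
    ConcreteCategory.congr_hom ((MonAct.eqvHom.evalAt ((MonAct.regular M).restrict i) a η[M]).naturality t.op) φ⟩

theorem orbit_eq {T : Over (Spec (CommRingCat.of k))}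
    (φ : (MonAct.eqvHom ((MonAct.regular M).restrict i) a).obj (op T)) :
    (i ▷ T) ≫ φ.1 =
      (G ◁ ((MonAct.eqvHom.evalAt ((MonAct.regular M).restrict i) a η[M]).app (op T) φ)) ≫ a.act :=
  H23.EqvPullback.orbit η[M] i (fun T g => by
    rw [MonAct.lift_restrict_act, MonAct.lift_regular_act, ← Hom.one_def, _root_.mul_one]) φ.1 φ.2

variable [IsSeparated X.hom] [QuasiCompact i.left] [IsSchemeTheoreticallyDominant i.left]

theorem eq_of_evalAt {T : Over (Spec (CommRingCat.of k))}
    {φ ψ : (MonAct.eqvHom ((MonAct.regular M).restrict i) a).obj (op T)}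
    (h : (MonAct.eqvHom.evalAt ((MonAct.regular M).restrict i) a η[M]).app (op T) φ =
      (MonAct.eqvHom.evalAt ((MonAct.regular M).restrict i) a η[M]).app (op T) ψ) : φ = ψ := by
  haveI := H23.AMonExt.stDominant_whiskerRight_field i T
  exact Subtype.ext (ext_of_stDominant (i ▷ T) (by rw [orbit_eq, orbit_eq, h]))

theorem inD_iff_exists {T : Over (Spec (CommRingCat.of k))} (x : T ⟶ X) :
    InD i a x ↔ ∃ φ : M ⊗ T ⟶ X, (i ▷ T) ≫ φ = (G ◁ x) ≫ a.act := by
  constructor
  · rintro ⟨φ, rfl⟩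
    exact ⟨φ.1, orbit_eq i a φ⟩
  rintro ⟨φ, hφ⟩
  have hφ' : ∀ (W : Over (Spec (CommRingCat.of k))) (g : W ⟶ G) (t : W ⟶ T),
      lift (g ≫ i) t ≫ φ = lift g (t ≫ x) ≫ a.act := fun W g t => by
    rw [← lift_whiskerRight_assoc, hφ, lift_whiskerLeft_assoc]
  have heq : MonAct.IsEquivariant (((MonAct.regular M).restrict i).prod (MonAct.trivial G T)) a φ := by
    rw [MonAct.mem_eqvHom_iff]
    intro W g b t
    haveI := H23.AMonExt.stDominant_whiskerRight_field i (G ⊗ T)
    let F : M ⊗ (G ⊗ T) ⟶ X :=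
      lift (((snd M (G ⊗ T) ≫ fst G T) ≫ i) * fst M (G ⊗ T)) (snd M (G ⊗ T) ≫ snd G T) ≫ φ
    let H : M ⊗ (G ⊗ T) ⟶ X :=
      lift (snd M (G ⊗ T) ≫ fst G T) (lift (fst M (G ⊗ T)) (snd M (G ⊗ T) ≫ snd G T) ≫ φ) ≫ a.act
    have hFH : F = H := by
      refine ext_of_stDominant (i ▷ (G ⊗ T)) ?_
      apply hom_ext_lift₂
      intro W' c w
      simp only [F, H, Category.assoc, lift_whiskerRight_assoc, comp_lift_assoc, MonObj.comp_mul,
        lift_fst_assoc, lift_snd_assoc, lift_fst]
      rw [← Category.assoc w (fst _ _), ← MonObj.mul_comp, hφ', hφ', MonAct.lift_mul_act]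
    have h2 := congrArg (lift b (lift g t) ≫ ·) hFH
    simp only [F, H, Category.assoc, comp_lift_assoc, MonObj.comp_mul, lift_fst_assoc, lift_snd_assoc,
      lift_fst, lift_snd] at h2
    rw [MonAct.lift_restrict_act, MonAct.lift_regular_act]
    exact h2
  refine ⟨⟨φ, heq⟩, ?_⟩
  show lift (toUnit T ≫ η[M]) (𝟙 T) ≫ φ = x
  have h1 : (1 : T ⟶ G) ≫ i = 1 := MonObj.one_comp _
  rw [← Hom.one_def, ← h1, hφ', MonAct.lift_one_act, Category.id_comp]

variable [IsAffine M.left] [IsAffine G.left] [IsAffine X.left]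

/-- The comultiplication of functions on the orbit of a point. -/
theorem toProd_map_ev {T : Over (Spec (CommRingCat.of k))} [IsAffine T.left] (x : T ⟶ X) (z : Fn G ⊗[k] Fn X) :
    toProd G T (Algebra.TensorProduct.map (AlgHom.id k (Fn G)) (ev x) z) = ev (G ◁ x) (toProd G X z) := by
  induction z using TensorProduct.induction_on with
  | zero => simp
  | tmul g f =>
    simp only [Algebra.TensorProduct.map_tmul, toProd, Algebra.TensorProduct.lift_tmul, map_mul,
      AlgHom.coe_id, id_eq, ev_ev, whiskerLeft_fst, whiskerLeft_snd]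
  | add s t hs ht => simp only [map_add, hs, ht]

theorem toProd_map_ev_left {T : Over (Spec (CommRingCat.of k))} [IsAffine T.left] (z : Fn M ⊗[k] Fn T) :
    toProd G T (Algebra.TensorProduct.map (ev i) (AlgHom.id k (Fn T)) z) = ev (i ▷ T) (toProd M T z) := by
  induction z using TensorProduct.induction_on with
  | zero => simp
  | tmul g f =>
    simp only [Algebra.TensorProduct.map_tmul, toProd, Algebra.TensorProduct.lift_tmul, map_mul,
      AlgHom.coe_id, id_eq, ev_ev, whiskerRight_fst, whiskerRight_snd]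
  | add s t hs ht => simp only [map_add, hs, ht]

theorem exists_ideal :
    ∃ I : Ideal (Fn X), ∀ (T : Over (Spec (CommRingCat.of k))) [IsAffine T.left] (x : T ⟶ X),
      InD i a x ↔ ∀ f ∈ I, ev x f = 0 := by
  classical
  let π : Fn G →ₗ[k] (Fn G ⧸ LinearMap.range (ev i).toLinearMap) := Submodule.mkQ _
  have hex : Function.Exact (ev i).toLinearMap π := LinearMap.exact_map_mkQ_range _
  let bQ := Module.Free.chooseBasis k (Fn G ⧸ LinearMap.range (ev i).toLinearMap)
  choose δ hδ using fun f : Fn X => (toProd_bijective G X).2 (ev a.act f)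
  let c := fun f => TensorProduct.equivFinsuppOfBasisLeft bQ (π.rTensor (Fn X) (δ f))
  refine ⟨Ideal.span {r | ∃ f l, r = c f l}, fun T _ x => ?_⟩
  have hI : (∀ f ∈ Ideal.span {r | ∃ f l, r = c f l}, ev x f = 0) ↔ ∀ f l, ev x (c f l) = 0 := by
    refine ⟨fun h f l => h _ (Ideal.subset_span ⟨f, l, rfl⟩), fun h => ?_⟩
    intro f hf
    refine (Ideal.span_le (I := RingHom.ker (ev x))).2 ?_ hf
    rintro _ ⟨f, l, rfl⟩
    exact h f l
  let δT := fun f => Algebra.TensorProduct.map (AlgHom.id k (Fn G)) (ev x) (δ f)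
  have hδT : ∀ f, toProd G T (δT f) = ev ((G ◁ x) ≫ a.act) f := fun f => by
    rw [toProd_map_ev, hδ, ev_ev]
  have hcrit : ∀ f, (∀ l, ev x (c f l) = 0) ↔
      ∃ z : Fn M ⊗[k] Fn T, Algebra.TensorProduct.map (ev i) (AlgHom.id k (Fn T)) z = δT f := fun f => by
    have hex' := rTensor_exact (Fn T) hex (Submodule.mkQ_surjective _)
    have e : ∀ z, (ev i).toLinearMap.rTensor (Fn T) z =
        Algebra.TensorProduct.map (ev i) (AlgHom.id k (Fn T)) z := fun z => by
      induction z using TensorProduct.induction_on with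
      | zero => simp
      | tmul g f => simp
      | add s t hs ht => simp only [map_add, hs, ht]
    refine Iff.trans ?_ ((hex' (δT f)).trans (by simp only [Set.mem_range, e]))
    rw [← (TensorProduct.equivFinsuppOfBasisLeft bQ).map_eq_zero_iff, DFunLike.ext_iff]
    exact forall_congr' fun l => by rw [map_rTensor_coord]; rfl
  rw [hI, inD_iff_exists]
  constructor
  · rintro ⟨φ, hφ⟩ f
    obtain ⟨z, hz⟩ := (toProd_bijective M T).2 (ev φ f)
    refine (hcrit f).2 ⟨z, (toProd_bijective G T).1 ?_⟩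
    rw [toProd_map_ev_left, hz, hδT, ev_ev, hφ]
  · intro h
    have hmem : ∀ f, ev ((G ◁ x) ≫ a.act) f ∈ (ev (i ▷ T)).range := fun f => by
      obtain ⟨z, hz⟩ := (hcrit f).1 (h f)
      exact ⟨toProd M T z, by rw [AlgHom.toRingHom_eq_coe, AlgHom.coe_toRingHom, ← toProd_map_ev_left, hz, hδT]⟩
    haveI := H23.AMonExt.stDominant_whiskerRight_field i T
    haveI : QuasiCompact (i ▷ T).left :=
      MorphismProperty.of_isPullback (GrpSchLib.isPullback_whiskerRight i T).flip ‹QuasiCompact i.left›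
    have hinj : Function.Injective (ev (i ▷ T)) := (i ▷ T).left.app_injective ⊤
    let ψ : Fn X →ₐ[k] Fn (M ⊗ T) := (AlgEquiv.ofInjective _ hinj).symm.toAlgHom.comp
      ((ev ((G ◁ x) ≫ a.act)).codRestrict _ hmem)
    have hψ : ∀ f, ev (i ▷ T) (ψ f) = ev ((G ◁ x) ≫ a.act) f := fun f =>
      congrArg Subtype.val ((AlgEquiv.ofInjective _ hinj).apply_symm_apply ⟨_, hmem f⟩)
    obtain ⟨h₀, hh₀⟩ := H28.MagnetAff.exists_hom_of_appTop (W := (M ⊗ T).left) (V := X.left) ψ.toRingHom
    have hw : h₀ ≫ X.hom = (M ⊗ T).hom := by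
      refine ext_of_isAffine ?_
      refine CommRingCat.hom_ext (RingHom.ext fun s => ?_)
      obtain ⟨r, rfl⟩ := (ConcreteCategory.bijective_of_isIso (Scheme.ΓSpecIso (CommRingCat.of k)).inv).2 s
      exact (hh₀ _).trans (ψ.commutes r)
    refine ⟨Over.homMk h₀ hw, Over.OverMorphism.ext (ext_of_isAffine ?_)⟩
    refine CommRingCat.hom_ext (RingHom.ext fun f => ?_)
    exact (congrArg (ev (i ▷ T)) (hh₀ f)).trans (hψ f)

theorem exists_representableBy :
    ∃ (Z : Over (Spec (CommRingCat.of k))) (j : Z ⟶ X)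
      (e : (MonAct.eqvHom ((MonAct.regular M).restrict i) a).RepresentableBy Z),
      IsClosedImmersion j.left ∧ ∀ (T : Over (Spec (CommRingCat.of k))) (z : T ⟶ Z),
        (MonAct.eqvHom.evalAt ((MonAct.regular M).restrict i) a η[M]).app (op T) (e.homEquiv z) = z ≫ j := by
  obtain ⟨I, hI⟩ := exists_ideal i a
  let j₀ : Spec (CommRingCat.of (Fn X ⧸ I)) ⟶ X.left :=
    Spec.map (CommRingCat.ofHom (Ideal.Quotient.mk I)) ≫ X.left.isoSpec.inv
  let Z : Over (Spec (CommRingCat.of k)) := Over.mk (j₀ ≫ X.hom)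
  let j : Z ⟶ X := Over.homMk j₀ rfl
  haveI : IsAffine Z.left := inferInstanceAs (IsAffine (Spec _))
  haveI hj : IsClosedImmersion j.left := by
    haveI : IsClosedImmersion (Spec.map (CommRingCat.ofHom (Ideal.Quotient.mk I))) :=
      IsClosedImmersion.spec_of_surjective _ Ideal.Quotient.mk_surjective
    exact inferInstanceAs (IsClosedImmersion (_ ≫ _))
  have hinv : X.left.isoSpec.inv.appTop = (Scheme.ΓSpecIso Γ(X.left, ⊤)).inv := by
    haveI : IsIso X.left.isoSpec.hom.appTop := inferInstanceAs (IsIso (X.left.isoSpec.hom.app ⊤))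
    rw [← cancel_mono X.left.isoSpec.hom.appTop, ← Scheme.Hom.comp_appTop, Iso.hom_inv_id]
    simp [Scheme.isoSpec_hom, Scheme.toSpecΓ_appTop]
  have hker : RingHom.ker j.left.appTop.hom = I := by
    have e : j.left.appTop = CommRingCat.ofHom (Ideal.Quotient.mk I) ≫ (Scheme.ΓSpecIso _).inv := by
      show (Spec.map _ ≫ X.left.isoSpec.inv).appTop = _
      rw [Scheme.Hom.comp_appTop, hinv]
      exact (Scheme.ΓSpecIso_inv_naturality _).symm
    rw [e, CommRingCat.hom_comp, RingHom.ker_comp_of_injective _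
      (ConcreteCategory.bijective_of_isIso (Scheme.ΓSpecIso _).inv).1]
    exact Ideal.mk_ker
  have hfac : ∀ {T : Over (Spec (CommRingCat.of k))} (x : T ⟶ X), InD i a x ↔ ∃ z : T ⟶ Z, z ≫ j = x := by
    intro T x
    have hj' : InD i a j := (hI Z j).2 fun f hf => RingHom.mem_ker.1 (hker.ge hf)
    refine ⟨fun h => ?_, fun ⟨z, hz⟩ => hz ▸ hj'.comp i a z⟩
    have hle : I ≤ RingHom.ker x.left.appTop.hom := by
      intro f hf
      rw [RingHom.mem_ker]
      refine T.left.sheaf.eq_of_locally_eq' (fun U : T.left.affineOpens => U.1) ⊤ (fun U => homOfLE le_top)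
        (fun t _ => TopologicalSpace.Opens.mem_iSup.2 ?_) _ _ fun U => ?_
      · obtain ⟨U, hU, ht, -⟩ := exists_isAffineOpen_mem_and_subset (U := (⊤ : T.left.Opens)) (x := t) trivial
        exact ⟨⟨U, hU⟩, ht⟩
      let W : Over (Spec (CommRingCat.of k)) := Over.mk (U.1.ι ≫ T.hom)
      haveI : IsAffine W.left := U.2
      let u : W ⟶ T := Over.homMk U.1.ι rfl
      have h1 : U.1.ι.appTop (x.left.appTop f) = 0 := (hI W _).1 (h.comp i a u) f hf
      apply (ConcreteCategory.bijective_of_isIso U.1.topIso.inv).1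
      erw [map_zero, map_zero]
      rw [← h1, Scheme.Opens.ι_appTop, Scheme.Opens.topIso_inv, ← CommRingCat.comp_apply]
      erw [← CommRingCat.comp_apply, ← Functor.map_comp]
      rfl
    obtain ⟨z₀, hz₀⟩ : ∃ z₀ : T.left ⟶ Z.left, z₀ ≫ j₀ = x.left := by
      refine ⟨T.left.toSpecΓ ≫ Spec.map (CommRingCat.ofHom (Ideal.Quotient.lift I x.left.appTop.hom fun f hf => hle hf)),
        ?_⟩
      show (_ ≫ _) ≫ Spec.map _ ≫ _ = _
      rw [Category.assoc, ← Spec.map_comp_assoc, ← CommRingCat.ofHom_comp, Ideal.Quotient.lift_comp_mk]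
      rw [CommRingCat.ofHom_hom, ← Scheme.toSpecΓ_naturality_assoc]
      simp [Scheme.isoSpec]
    exact ⟨Over.homMk z₀ (by show z₀ ≫ j₀ ≫ X.hom = _; rw [← Category.assoc, hz₀, Over.w x]),
      Over.OverMorphism.ext hz₀⟩
  haveI := H23.AMonExt.mono_of_isClosedImmersion j
  have hz : ∀ {T : Over (Spec (CommRingCat.of k))} (z : T ⟶ Z), InD i a (z ≫ j) := fun z => (hfac _).2 ⟨z, rfl⟩
  choose F hF using @hz
  have hf : ∀ {T : Over (Spec (CommRingCat.of k))}
      (φ : (MonAct.eqvHom ((MonAct.regular M).restrict i) a).obj (op T)),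
      ∃ z, z ≫ j = (MonAct.eqvHom.evalAt ((MonAct.regular M).restrict i) a η[M]).app (op T) φ :=
    fun φ => (hfac _).1 ⟨φ, rfl⟩
  choose K hK using @hf
  refine ⟨Z, j, {
    homEquiv := fun {T} =>
      { toFun := fun z => F z
        invFun := fun φ => K φ
        left_inv := fun z => (cancel_mono j).1 ((hK _).trans (hF z))
        right_inv := fun φ => eq_of_evalAt i a ((hF _).trans (hK φ)) }
    homEquiv_comp := fun {T T'} t z => eq_of_evalAt i a ((hF _).trans ?_) }, hj, fun T z => hF z⟩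
  refine Eq.trans ?_ (ConcreteCategory.congr_hom
    ((MonAct.eqvHom.evalAt ((MonAct.regular M).restrict i) a η[M]).naturality t.op) (F z)).symm
  show _ = t ≫ (MonAct.eqvHom.evalAt ((MonAct.regular M).restrict i) a η[M]).app (op T') (F z)
  rw [hF z, Category.assoc]

end Groth.Agent.MdlA1.UnitsRep
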