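import Mathlib.RingTheory.Etale.Field
import Mathlib.RingTheory.Spectrum.Prime.FreeLocus
import Mathlib.RingTheory.Algebraic.Integral
import Mathlib.LinearAlgebra.Dimension.Localization

/-! Points over a maximal ideal of a finite flat unramified extension of domains. -/

set_option autoImplicit false

universe u

namespace Groth.Agent.MdlA1

open TensorProduct

theorem natCard_over_maximal {A B K L : Type u} [CommRing A] [IsDomain A] [CommRing B] [IsDomain B] [Algebra A B]
    [Module.Finite A B] [Module.Flat A B] [FaithfulSMul A B] [Algebra.FormallyUnramified A B]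
    [Field K] [Algebra A K] [IsFractionRing A K] [Field L] [Algebra B L] [IsFractionRing B L]
    [Algebra A L] [IsScalarTower A B L] [Algebra K L] [IsScalarTower A K L]
    (m : PrimeSpectrum A) [IsAlgClosed m.asIdeal.ResidueField] :
    Nat.card {Q : PrimeSpectrum B // PrimeSpectrum.comap (algebraMap A B) Q = m} = Module.finrank K L := by
  classical
  let κ := m.asIdeal.ResidueField
  let F := m.asIdeal.Fiber B
  haveI : Module.Finite κ F := inferInstance
  haveI : Algebra.FormallyEtale κ F := Algebra.FormallyEtale.of_formallyUnramified_of_field κ F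
  haveI : IsArtinianRing F := IsArtinianRing.of_finite κ F
  haveI := Fintype.ofFinite (PrimeSpectrum F)
  have h1 : Nat.card {Q : PrimeSpectrum B // PrimeSpectrum.comap (algebraMap A B) Q = m} = Module.finrank κ F := by
    rw [(Algebra.FormallyEtale.equivPiOfIsSepClosed κ F).toLinearEquiv.finrank_eq,
      Module.finrank_fintype_fun_eq_card, ← Nat.card_eq_fintype_card]
    exact Nat.card_congr ((Equiv.subtypeEquivRight fun Q => by rfl).trans (PrimeSpectrum.preimageEquivFiber A B m))
  rw [h1, ← Module.rankAtStalk_eq,
    ← Module.rankAtStalk_eq_of_le_of_finite_of_flat B (p := ⊥) bot_le]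
  haveI : Algebra.IsAlgebraic A B := inferInstance
  rw [IsFractionRing.finrank_eq A K B L, Module.rankAtStalk]
  have hp : (⊥ : PrimeSpectrum A).asIdeal.primeCompl ≤ nonZeroDivisors A :=
    fun a ha => mem_nonZeroDivisors_of_ne_zero fun h => ha h
  rw [IsLocalization.finrank_eq (Localization.AtPrime (⊥ : PrimeSpectrum A).asIdeal)
    (⊥ : PrimeSpectrum A).asIdeal.primeCompl hp,
    IsLocalizedModule.finrank_eq (⊥ : PrimeSpectrum A).asIdeal.primeCompl
      (LocalizedModule.mkLinearMap _ B) hp]

end Groth.Agent.MdlA1
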